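import Groth.Prelude.Def_LCI2
import Mathlib.LinearAlgebra.Pi
import Mathlib.Algebra.Category.ModuleCat.Basic
import Mathlib.RingTheory.Localization.Away.Basic
import Mathlib.RingTheory.Localization.Ideal
import Mathlib.RingTheory.Noetherian.Basic

/-! Relations of Koszul-regular sequences and ideals. -/

universe u

open CategoryTheory CategoryTheory.Limits CochainComplex

noncomputable section

namespace Groth.Agent.DefGlueLib

/-- The linear form `u ↦ Σ uᵢ fᵢ`. -/
def dot {R : Type u} [CommRing R] {σ : Type} [Fintype σ] (f : σ → R) : (σ → R) →ₗ[R] R :=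
  Fintype.linearCombination R f

theorem dot_apply {R : Type u} [CommRing R] {σ : Type} [Fintype σ] (f u : σ → R) :
    dot f u = ∑ i, u i * f i := Fintype.linearCombination_apply R f u

/-- The trivial relations. -/
def trivR {R : Type u} [CommRing R] {σ : Type} [DecidableEq σ] (f : σ → R) : Submodule R (σ → R) :=
  Submodule.span R (Set.range fun p : σ × σ => f p.2 • Pi.single p.1 (1 : R) - f p.1 • Pi.single p.2 (1 : R))

theorem dot_eq_zero_of_mem_trivR {R : Type u} [CommRing R] {σ : Type} [Fintype σ] [DecidableEq σ]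
    (f : σ → R) {u : σ → R} (h : u ∈ trivR f) : dot f u = 0 := by
  have : trivR f ≤ LinearMap.ker (dot f) := Submodule.span_le.2 (by
    rintro _ ⟨p, rfl⟩
    rw [SetLike.mem_coe, LinearMap.mem_ker, map_sub, map_smul, map_smul, dot,
      Fintype.linearCombination_apply_single, Fintype.linearCombination_apply_single, one_smul, one_smul,
      smul_eq_mul, smul_eq_mul, mul_comm, sub_self])
  exact this h

variable {A : Type u} [CommRing A]

/-- Low degrees of the Koszul complex. -/
structure LowDeg (l : List A) : Type u where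
  isZero_one : ∀ n : ℤ, 0 < n → IsZero ((Koszul.koszul A l).X n)
  ε₀ : (Koszul.koszul A l).X 0 →ₗ[A] A
  inj₀ : Function.Injective ε₀
  surj₀ : Function.Surjective ε₀
  ε₁ : (Koszul.koszul A l).X (-1) →ₗ[A] (Fin l.length → A)
  surj₁ : Function.Surjective ε₁
  comm : ∀ z, ε₀ ((Koszul.koszul A l).d (-1) 0 z) = dot (fun i => l[i]) (ε₁ z)
  triv : ∀ z, ε₁ ((Koszul.koszul A l).d (-2) (-1) z) ∈ trivR (fun i : Fin l.length => l[i])

theorem nonempty_lowDeg : ∀ l : List A, Nonempty (LowDeg l) := by
  intro l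
  induction l with
  | nil =>
    let K := ((CochainComplex.singleFunctor (ModuleCat.{u} A) 0).obj (ModuleCat.of A A))
    have hne : ∀ n : ℤ, n ≠ 0 → IsZero (K.X n) := fun n hn =>
      HomologicalComplex.isZero_single_obj_X (ComplexShape.up ℤ) 0 (ModuleCat.of A A) n hn
    let e : K.X 0 ≅ ModuleCat.of A A := HomologicalComplex.singleObjXSelf (ComplexShape.up ℤ) 0 (ModuleCat.of A A)
    refine ⟨⟨fun n hn => hne n hn.ne', e.hom.hom, e.toLinearEquiv.injective, e.toLinearEquiv.surjective, 0,
      fun v => ⟨0, funext fun i => absurd i.2 (Nat.not_lt_zero _)⟩, fun z => ?_, fun z => ?_⟩⟩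
    · have : Subsingleton (K.X (-1)) := ModuleCat.subsingleton_of_isZero (hne _ (by norm_num))
      rw [show z = 0 from @Subsingleton.elim _ this _ _]
      simp
      all_goals exact map_zero _
    · exact zero_mem _
  | cons f l ih =>
    obtain ⟨L⟩ := ih
    let K := Koszul.koszul A l
    let φ : K ⟶ K := f • 𝟙 K
    have : HomologicalComplex.HasHomotopyCofiber φ := inferInstance
    let fstm : ∀ n m : ℤ, n + 1 = m → ((mappingCone φ).X n ⟶ K.X m) := fun n m h => (mappingCone.fst φ).1.v n m h
    let sndm : ∀ n : ℤ, (mappingCone φ).X n ⟶ K.X n := fun n => (mappingCone.snd φ).v n n (add_zero n)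
    have hz : ∀ n : ℤ, 0 < n → IsZero ((mappingCone φ).X n) := fun n hn => by
      rw [IsZero.iff_id_eq_zero]
      apply mappingCone.ext_to φ n (n + 1) rfl
      · exact (L.isZero_one (n + 1) (by omega)).eq_of_tgt _ _
      · exact (L.isZero_one n hn).eq_of_tgt _ _
    have hs0 : Function.Injective (sndm 0).hom := by
      intro z z' hzz
      let a : ModuleCat.of A A ⟶ (mappingCone φ).X 0 := ModuleCat.ofHom (LinearMap.toSpanSingleton A _ z)
      let b : ModuleCat.of A A ⟶ (mappingCone φ).X 0 := ModuleCat.ofHom (LinearMap.toSpanSingleton A _ z')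
      have hab : a = b := by
        apply mappingCone.ext_to φ 0 1 rfl
        · exact (L.isZero_one 1 one_pos).eq_of_tgt _ _
        · refine ModuleCat.hom_ext (LinearMap.ext_ring ?_)
          change (sndm 0).hom ((1 : A) • z) = (sndm 0).hom ((1 : A) • z')
          rw [one_smul, one_smul]
          exact hzz
      have := congrArg (fun g : ModuleCat.of A A ⟶ (mappingCone φ).X 0 => g.hom (1 : A)) hab
      exact (one_smul A z).symm.trans (this.trans (one_smul A z'))
    have hinr0 : ∀ y, (sndm 0).hom (((mappingCone.inr φ).f 0).hom y) = y := fun y =>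
      ConcreteCategory.congr_hom (mappingCone.inr_f_snd_v φ 0) y
    let E₁ : (mappingCone φ).X (-1) →ₗ[A] (Fin (l.length + 1) → A) :=
      LinearMap.pi (Fin.cons (L.ε₀.comp (fstm (-1) 0 rfl).hom)
        fun i => (LinearMap.proj i).comp (L.ε₁.comp (sndm (-1)).hom))
    have hd1 : ∀ z, (sndm 0).hom ((mappingCone φ).d (-1) 0 z) =
        f • (fstm (-1) 0 rfl).hom z + K.d (-1) 0 ((sndm (-1)).hom z) := fun z =>
      (ConcreteCategory.congr_hom (mappingCone.d_snd_v φ (-1) 0 rfl) z).trans (by rfl)
    have hd2 : ∀ z, (sndm (-1)).hom ((mappingCone φ).d (-2) (-1) z) =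
        f • (fstm (-2) (-1) rfl).hom z + K.d (-2) (-1) ((sndm (-2)).hom z) := fun z =>
      (ConcreteCategory.congr_hom (mappingCone.d_snd_v φ (-2) (-1) rfl) z).trans (by rfl)
    have hd3 : ∀ z, (fstm (-1) 0 rfl).hom ((mappingCone φ).d (-2) (-1) z) =
        -(K.d (-1) 0 ((fstm (-2) (-1) rfl).hom z)) := fun z =>
      ConcreteCategory.congr_hom (mappingCone.d_fst_v φ (-2) (-1) 0 rfl rfl) z
    refine ⟨⟨hz, L.ε₀.comp (sndm 0).hom, L.inj₀.comp hs0, fun a => ?_, E₁, fun v => ?_, fun z => ?_, fun z => ?_⟩⟩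
    · obtain ⟨y, hy⟩ := L.surj₀ a
      exact ⟨((mappingCone.inr φ).f 0).hom y, (congrArg L.ε₀ (hinr0 y)).trans hy⟩
    · obtain ⟨x, hx⟩ := L.surj₀ (v 0)
      obtain ⟨y, hy⟩ := L.surj₁ (fun i => v i.succ)
      let z := ((mappingCone.inl φ).v 0 (-1) rfl).hom x + ((mappingCone.inr φ).f (-1)).hom y
      have h1 : (fstm (-1) 0 rfl).hom z = x := by
        change (fstm (-1) 0 rfl).hom (_ + _) = x
        rw [map_add]
        exact (congrArg₂ (· + ·) (ConcreteCategory.congr_hom (mappingCone.inl_v_fst_v φ 0 (-1) rfl) x)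
          (ConcreteCategory.congr_hom (mappingCone.inr_f_fst_v φ (-1) 0 rfl) y)).trans (add_zero _)
      have h2 : (sndm (-1)).hom z = y := by
        change (sndm (-1)).hom (_ + _) = y
        rw [map_add]
        exact (congrArg₂ (· + ·) (ConcreteCategory.congr_hom (mappingCone.inl_v_snd_v φ 0 (-1) rfl) x)
          (ConcreteCategory.congr_hom (mappingCone.inr_f_snd_v φ (-1)) y)).trans (zero_add _)
      refine ⟨z, funext (Fin.cases ?_ fun i => ?_)⟩
      · exact (congrArg L.ε₀ h1).trans hx
      · exact (congrArg (fun t => L.ε₁ t i) h2).trans (congrFun hy i)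
    · refine (congrArg L.ε₀ (hd1 z)).trans ?_
      rw [map_add, map_smul, L.comm, dot_apply, dot_apply]
      refine Eq.trans ?_ (Fin.sum_univ_succ _).symm
      exact congrArg₂ (· + ·) (by rw [smul_eq_mul, mul_comm]; rfl) rfl
    · let x := (fstm (-2) (-1) rfl).hom z
      let y := (sndm (-2)).hom z
      let c := L.ε₁ x
      have hz' : E₁ ((mappingCone φ).d (-2) (-1) z) =
          Fin.cons (-dot (fun i : Fin l.length => l[i]) c) (f • c + L.ε₁ (K.d (-2) (-1) y)) := by
        refine funext (Fin.cases ?_ fun i => ?_)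
        · refine (congrArg L.ε₀ (hd3 z)).trans ?_
          rw [map_neg, L.comm, Fin.cons_zero]
        · refine (congrArg (fun t => L.ε₁ t i) (hd2 z)).trans ?_
          simp only [Fin.cons_succ, map_add, map_smul]
          rfl
      change E₁ ((mappingCone φ).d (-2) (-1) z) ∈ trivR (fun i : Fin (l.length + 1) => (f :: l)[i])
      rw [hz']
      let T := trivR (fun i : Fin (l.length + 1) => (f :: l)[i])
      let shift : (Fin l.length → A) →ₗ[A] (Fin (l.length + 1) → A) :=
        LinearMap.pi (Fin.cons 0 fun i => LinearMap.proj i)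
      have hshift : ∀ v, shift v = Fin.cons 0 v := fun v => funext (Fin.cases rfl fun i => rfl)
      have hshift1 : ∀ i, shift (Pi.single i 1) = Pi.single i.succ 1 := fun i =>
        funext (Fin.cases (by simp [hshift]) fun j => by
          simp [hshift, Pi.single_apply, Fin.succ_inj])
      have h2 : shift (L.ε₁ (K.d (-2) (-1) y)) ∈ T := by
        have : (trivR (fun i : Fin l.length => l[i])).map shift ≤ T := by
          rw [trivR, Submodule.map_span_le]
          rintro _ ⟨p, rfl⟩
          rw [map_sub, map_smul, map_smul, hshift1, hshift1]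
          exact Submodule.subset_span ⟨(p.1.succ, p.2.succ), rfl⟩
        exact this (Submodule.mem_map_of_mem (L.triv y))
      have h3 : ∑ i, c i • (f • Pi.single i.succ (1 : A) - l[i] • Pi.single 0 (1 : A)) ∈ T :=
        sum_mem fun i _ => Submodule.smul_mem _ _ (Submodule.subset_span ⟨(i.succ, 0), rfl⟩)
      convert add_mem h3 h2 using 1
      refine funext (Fin.cases ?_ fun j => ?_)
      · simp [hshift, dot_apply, Finset.sum_apply, Pi.single_apply, mul_comm, Fin.succ_ne_zero,
          (Fin.succ_ne_zero _).symm]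
      · simp [hshift, Finset.sum_apply, Pi.single_apply, Fin.succ_inj, Fin.succ_ne_zero, mul_comm]

/-- Relations of a Koszul-regular sequence are trivial. -/
theorem mem_trivR_of_isKoszulRegularSeq {l : List A} (h : LCI.IsKoszulRegularSeq A l) {u : Fin l.length → A}
    (hu : dot (fun i => l[i]) u = 0) : u ∈ trivR (fun i : Fin l.length => l[i]) := by
  obtain ⟨L⟩ := nonempty_lowDeg l
  obtain ⟨z, rfl⟩ := L.surj₁ u
  have hz : (Koszul.koszul A l).d (-1) 0 z = 0 := L.inj₀ ((L.comm z).trans (hu.trans (map_zero _).symm))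
  have hex : (Koszul.koszul A l).ExactAt (-1) := (HomologicalComplex.exactAt_iff_isZero_homology _ _).2
    (h (-1) (by norm_num))
  rw [HomologicalComplex.exactAt_iff' _ (-2) (-1) 0 (by simp) (by simp)] at hex
  obtain ⟨w, hw⟩ := (ShortComplex.moduleCat_exact_iff _).1 hex z hz
  exact hw ▸ L.triv w

theorem exists_smul_relation {P : Type u} [CommRing P] {σ : Type} [Fintype σ] [DecidableEq σ] (f : σ → P)
    {g : P} {l : List (Localization.Away g)} (hl : LCI.IsKoszulRegularSeq (Localization.Away g) l)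
    (hI : (Ideal.span (Set.range f)).map (algebraMap P (Localization.Away g)) = Ideal.span {x | x ∈ l}) :
    ∃ (m : ℕ) (T : σ → σ → P), (∀ s, dot f (T s) = 0) ∧ ∀ u, dot f u = 0 →
      ∃ m', g ^ m' • (g ^ m • u - ∑ s, u s • T s) ∈ trivR f := by
  let L := Localization.Away g
  let ι := algebraMap P L
  let fL : σ → L := fun s => ι (f s)
  let lf : Fin l.length → L := fun i => l[i]
  have hrl : Ideal.span {x | x ∈ l} = Ideal.span (Set.range lf) := by
    congr 1
    ext x
    constructor
    · intro hx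
      obtain ⟨i, hi, rfl⟩ := List.getElem_of_mem hx
      exact ⟨⟨i, hi⟩, rfl⟩
    · rintro ⟨i, rfl⟩
      exact List.getElem_mem i.2
  rw [Ideal.map_span, ← Set.range_comp, hrl] at hI
  have hM : ∀ s, ∃ c : Fin l.length → L, dot lf c = fL s := fun s =>
    (Submodule.mem_span_range_iff_exists_fun L).1 (hI.le (Ideal.subset_span ⟨s, rfl⟩))
      |>.imp fun c hc => (dot_apply _ _).trans hc
  have hN : ∀ a, ∃ c : σ → L, dot fL c = lf a := fun a =>
    (Submodule.mem_span_range_iff_exists_fun L).1 (hI.ge (Ideal.subset_span ⟨a, rfl⟩))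
      |>.imp fun c hc => (dot_apply _ _).trans hc
  choose M hM using hM
  choose N hN using hN
  let toL : (σ → L) →ₗ[L] (Fin l.length → L) := Fintype.linearCombination L M
  let toF : (Fin l.length → L) →ₗ[L] (σ → L) := Fintype.linearCombination L N
  have htoL : ∀ v, dot lf (toL v) = dot fL v := fun v => by
    simp only [toL, Fintype.linearCombination_apply, map_sum, map_smul, hM, smul_eq_mul, dot_apply fL]
  have htoF : ∀ v, dot fL (toF v) = dot lf v := fun v => by
    simp only [toF, Fintype.linearCombination_apply, map_sum, map_smul, hN, smul_eq_mul, dot_apply lf]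
  have htriv : ∀ v ∈ trivR lf, toF v ∈ trivR fL := by
    have : (trivR lf).map toF ≤ trivR fL := by
      rw [trivR, Submodule.map_span_le]
      rintro _ ⟨⟨a, b⟩, rfl⟩
      have e : ∀ a, toF (Pi.single a 1) = N a := fun a => by
        simp [toF, Fintype.linearCombination_apply_single]
      rw [map_sub, map_smul, map_smul, e, e, ← hN a, ← hN b, dot_apply, dot_apply]
      have key : (∑ t, N b t * fL t) • N a - (∑ s, N a s * fL s) • N b =
          ∑ t, ∑ s, (N b t * N a s) • (fL t • Pi.single s (1 : L) - fL s • Pi.single t (1 : L)) := by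
        funext i
        simp [Finset.sum_apply, Pi.single_apply, mul_sub, Finset.sum_sub_distrib, Finset.sum_mul,
          Finset.mul_sum]
        exact congrArg₂ (· - ·) (by rw [Finset.sum_mul]; exact Finset.sum_congr rfl fun t _ => by ring)
          (by rw [Finset.sum_mul]; exact Finset.sum_congr rfl fun t _ => by ring)
      rw [key]
      exact sum_mem fun t _ => sum_mem fun s _ => Submodule.smul_mem _ _ (Submodule.subset_span ⟨(s, t), rfl⟩)
    exact fun v hv => this (Submodule.mem_map_of_mem hv)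
  let TL : σ → σ → L := fun s => Pi.single s 1 - toF (M s)
  have hTL : ∀ s, dot fL (TL s) = 0 := fun s => by
    rw [map_sub, htoF, hM, dot, Fintype.linearCombination_apply_single, one_smul, sub_self]
  have hkey : ∀ v, dot fL v = 0 → v - ∑ s, v s • TL s ∈ trivR fL := fun v hv => by
    have e : v - ∑ s, v s • TL s = toF (toL v) := by
      simp only [toL, Fintype.linearCombination_apply, map_sum, map_smul, TL, smul_sub, Finset.sum_sub_distrib]
      rw [show ∑ x, v x • (Pi.single x (1 : L) : σ → L) = v from (pi_eq_sum_univ' v).symm, sub_sub_cancel]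
    rw [e]
    exact htriv _ (mem_trivR_of_isKoszulRegularSeq hl ((htoL v).trans hv))
  classical
  obtain ⟨⟨_, m₀, rfl⟩, hb⟩ := IsLocalization.exist_integer_multiples_of_finite (Submonoid.powers g)
    (fun p : σ × σ => TL p.1 p.2)
  choose T₀ hT₀ using fun p : σ × σ => hb p
  have hT₀' : ∀ s t, ι (T₀ (s, t)) = ι g ^ m₀ * TL s t := fun s t => by
    refine (hT₀ (s, t)).trans ?_
    rw [Algebra.smul_def, map_pow]
  have hz : ∀ s, ι (dot f (fun t => T₀ (s, t))) = 0 := fun s => by
    simp only [dot_apply, map_sum, map_mul, hT₀', mul_assoc, ← Finset.mul_sum]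
    rw [show ∑ t, TL s t * ι (f t) = 0 from (dot_apply fL (TL s)).symm.trans (hTL s), mul_zero]
  choose j hj using fun s => IsLocalization.Away.exists_of_eq g ((hz s).trans (map_zero ι).symm)
  let J := ∑ s, j s
  refine ⟨m₀ + J, fun s t => g ^ J * T₀ (s, t), fun s => ?_, fun u hu => ?_⟩
  · have hle : j s ≤ J := Finset.single_le_sum (fun i _ => Nat.zero_le (j i)) (Finset.mem_univ s)
    change dot f (g ^ J • fun t => T₀ (s, t)) = 0
    rw [map_smul, smul_eq_mul,
      ← Nat.sub_add_cancel hle, pow_add, mul_assoc, hj s, mul_zero, mul_zero]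
  · let w : σ → P := g ^ (m₀ + J) • u - ∑ s, u s • fun t => g ^ J * T₀ (s, t)
    change ∃ m', g ^ m' • w ∈ trivR f
    let v : σ → L := fun t => ι (u t)
    have hv : dot fL v = 0 := by
      rw [dot_apply]
      simp only [v, fL, ← map_mul, ← map_sum]
      rw [← dot_apply, hu, map_zero]
    have hw : (fun t => ι (w t)) = ι g ^ (m₀ + J) • (v - ∑ s, v s • TL s) := by
      funext t
      simp [w, v, Finset.sum_apply, map_sub, map_sum, hT₀', mul_sub, Finset.mul_sum, pow_add]
      exact Finset.sum_congr rfl fun s _ => by ring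
    have hmem : (fun t => ι (w t)) ∈ trivR fL := hw ▸ Submodule.smul_mem _ _ (hkey v hv)
    obtain ⟨c, hc⟩ := (Submodule.mem_span_range_iff_exists_fun L).1 hmem
    obtain ⟨⟨_, e, rfl⟩, hb'⟩ := IsLocalization.exist_integer_multiples_of_finite (Submonoid.powers g) c
    choose c₀ hc₀ using hb'
    let τ : σ → P := ∑ p : σ × σ, c₀ p • (f p.2 • Pi.single p.1 (1 : P) - f p.1 • Pi.single p.2 (1 : P))
    have hτ : τ ∈ trivR f := sum_mem fun p _ => Submodule.smul_mem _ _ (Submodule.subset_span ⟨p, rfl⟩)
    have heq : ∀ t, ι (τ t) = ι (g ^ e * w t) := fun t => by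
      have := congrFun hc t
      rw [map_mul, ← this]
      simp only [τ, Finset.sum_apply, map_sum, Finset.mul_sum, Pi.smul_apply, Pi.sub_apply, smul_eq_mul,
        map_mul, map_sub]
      refine Finset.sum_congr rfl fun p _ => ?_
      rw [show ι (c₀ p) = ι g ^ e * c p from (hc₀ p).trans (by rw [Algebra.smul_def, map_pow]), map_pow]
      simp [fL, Pi.single_apply, mul_assoc, apply_ite ι]
    choose i hi using fun t => IsLocalization.Away.exists_of_eq g (heq t)
    let Iₘ := ∑ t, i t
    refine ⟨Iₘ + e, ?_⟩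
    have : g ^ (Iₘ + e) • w = g ^ Iₘ • τ := funext fun t => by
      have hle : i t ≤ Iₘ := Finset.single_le_sum (fun b _ => Nat.zero_le (i b)) (Finset.mem_univ t)
      simp only [Pi.smul_apply, smul_eq_mul]
      rw [pow_add, mul_assoc, ← Nat.sub_add_cancel hle, pow_add, mul_assoc, mul_assoc, hi t]
    exact this ▸ Submodule.smul_mem _ _ hτ

/-- For a locally Koszul-regular ideal every linear map on relations killing the trivial ones extends. -/
theorem exists_extend {P : Type u} [CommRing P] [IsNoetherianRing P] {σ : Type} [Fintype σ] [DecidableEq σ] (f : σ → P)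
    (hI : LCI.IsKoszulRegularIdeal (Ideal.span (Set.range f)))
    {B : Type u} [AddCommGroup B] [Module P B] (hB : ∀ a ∈ Ideal.span (Set.range f), ∀ b : B, a • b = 0)
    (δ : LinearMap.ker (dot f) →ₗ[P] B) (hδ : ∀ u : LinearMap.ker (dot f), u.1 ∈ trivR f → δ u = 0) :
    ∃ θ : (σ → P) →ₗ[P] B, ∀ u, θ u.1 = δ u := by
  let 𝔞 : Ideal P :=
    { carrier := {b | ∃ θ : (σ → P) →ₗ[P] B, ∀ u, θ u.1 = b • δ u}
      add_mem' := fun ⟨θ, h⟩ ⟨θ', h'⟩ => ⟨θ + θ', fun u => by rw [LinearMap.add_apply, h, h', add_smul]⟩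
      zero_mem' := ⟨0, fun u => by rw [LinearMap.zero_apply, zero_smul]⟩
      smul_mem' := fun b c ⟨θ, h⟩ => ⟨b • θ, fun u => by rw [LinearMap.smul_apply, h, smul_eq_mul, mul_smul]⟩ }
  have hIle : Ideal.span (Set.range f) ≤ 𝔞 := fun a ha =>
    ⟨0, fun u => by rw [LinearMap.zero_apply, hB a ha]⟩
  suffices h : (1 : P) ∈ 𝔞 by
    obtain ⟨θ, hθ⟩ := h
    exact ⟨θ, fun u => (hθ u).trans (one_smul _ _)⟩
  rw [← Ideal.eq_top_iff_one]
  by_contra hne
  obtain ⟨p, hp, hle⟩ := Ideal.exists_le_maximal 𝔞 hne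
  obtain ⟨g, hg, l, hl, hIl⟩ := hI ⟨p, hp.isPrime⟩ (hIle.trans hle)
  obtain ⟨m, T, hT, hu⟩ := exists_smul_relation f hl hIl
  choose mu hmu using fun u : LinearMap.ker (dot f) => hu u.1 u.2
  let θ₀ : (σ → P) →ₗ[P] B := Fintype.linearCombination P fun s => δ ⟨T s, hT s⟩
  have hdiff : ∀ u, g ^ mu u • (g ^ m • δ u - θ₀ u.1) = 0 := fun u => by
    have e : g ^ m • δ u - θ₀ u.1 = δ (g ^ m • u - ∑ s, u.1 s • (⟨T s, hT s⟩ : LinearMap.ker (dot f))) := by
      simp [θ₀, Fintype.linearCombination_apply]
    rw [e, ← map_smul]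
    refine hδ _ ?_
    convert hmu u using 1
    simp
  obtain ⟨G, hG⟩ := (IsNoetherian.noetherian (⊤ : Submodule P (LinearMap.ker (dot f))))
  let K := ∑ u ∈ G, mu u
  have hall : ∀ u, g ^ K • (g ^ m • δ u - θ₀ u.1) = 0 := fun u => by
    have hu' : u ∈ Submodule.span P (G : Set (LinearMap.ker (dot f))) := hG.ge Submodule.mem_top
    induction hu' using Submodule.span_induction with
    | mem u hu =>
      have hle : mu u ≤ K := Finset.single_le_sum (f := mu) (fun _ _ => Nat.zero_le _) hu
      rw [← Nat.sub_add_cancel hle, pow_add,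
        mul_smul, hdiff u, smul_zero]
    | zero => simp
    | add a b _ _ iha ihb =>
      rw [map_add, Submodule.coe_add, map_add, smul_add, add_sub_add_comm, smul_add, iha, ihb, add_zero]
    | smul c a _ iha =>
      rw [map_smul, Submodule.coe_smul, map_smul, smul_comm (g ^ m) c, ← smul_sub, smul_comm, iha, smul_zero]
  have hmem : g ^ (K + m) ∈ 𝔞 := ⟨g ^ K • θ₀, fun u => by
    have := hall u
    rw [smul_sub, sub_eq_zero, ← mul_smul, ← pow_add] at this
    rw [LinearMap.smul_apply]
    exact this.symm⟩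
  exact hg (hp.isPrime.mem_of_pow_mem _ (hle hmem))

end Groth.Agent.DefGlueLib
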