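import Groth.Agent.DefGlueLib.Alg
import Groth.Agent.DefGlueLib.Rel
import Mathlib.RingTheory.Polynomial.Basic
import Mathlib.Algebra.MvPolynomial.Equiv
import Mathlib.LinearAlgebra.Basis.Defs

/-! Deformations of local complete intersections lift along small extensions. -/

universe u

open CategoryTheory ArtFun ArtFun.Art MvPolynomial

noncomputable section

namespace Groth.Agent.DefGlueLib.LiftLib

variable {Λ k : Type u} [CommRing Λ] [Field k] [Algebra Λ k]

/-- Elements of an idempotent image which are `J`-small are `J`-small in the image. -/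
theorem mem_smul_of_retraction {A M : Type u} [CommRing A] [AddCommGroup M] [Module A M] (N : Submodule A M)
    (π : M →ₗ[A] M) (hπ : ∀ m, π m ∈ N) (hid : ∀ n ∈ N, π n = n) (J : Ideal A) {n : M} (hn : n ∈ N)
    (hJ : n ∈ J • (⊤ : Submodule A M)) : n ∈ J • N := by
  rw [← hid n hn]
  have := Submodule.mem_map_of_mem (f := π) hJ
  rw [Submodule.map_smul''] at this
  exact Submodule.smul_mono le_rfl (by rw [Submodule.map_le_iff_le_comap]; exact fun m _ => hπ m) this

variable {B₀ : Type u} [CommRing B₀] {n : ℕ} [Algebra (MvPolynomial (Fin n) k) B₀]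

/-- Reduction of polynomials to the residue field. -/
abbrev red (A : Art Λ k) : MvPolynomial (Fin n) A →+* MvPolynomial (Fin n) k :=
  MvPolynomial.map A.res.toRingHom

theorem red_surjective (A : Art Λ k) : Function.Surjective (red (n := n) A) :=
  MvPolynomial.map_surjective _ A.res_surjective

theorem red_eq_zero_iff (A : Art Λ k) (G : MvPolynomial (Fin n) A) :
    red A G = 0 ↔ G ∈ IsLocalRing.maximalIdeal A • (⊤ : Submodule A (MvPolynomial (Fin n) A)) := by
  rw [Ideal.smul_top_eq_map, Submodule.restrictScalars_mem, MvPolynomial.algebraMap_eq,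
    MvPolynomial.mem_map_C_iff, MvPolynomial.ext_iff]
  exact forall_congr' fun m => by rw [MvPolynomial.coeff_map, coeff_zero, Art.mem_maximalIdeal_iff]; rfl

variable {r : ℕ}

/-- A presentation of a deformation lifting a presentation of the closed fibre. -/
structure Pres (A : Art Λ k) (f : Fin r → MvPolynomial (Fin n) k) {R : Type u} [CommRing R]
    (a : A →+* R) (q : R →+* B₀) where
  /-- the map from polynomials -/
  ψ : MvPolynomial (Fin n) A →+* R
  ψ_C : ∀ c, ψ (MvPolynomial.C c) = a c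
  q_ψ : ∀ G, q (ψ G) = algebraMap (MvPolynomial (Fin n) k) B₀ (red A G)
  surj : Function.Surjective ψ
  /-- lifted equations -/
  F : Fin r → MvPolynomial (Fin n) A
  red_F : ∀ s, red A (F s) = f s
  ψ_F : ∀ s, ψ (F s) = 0

variable {A : Art Λ k} {f : Fin r → MvPolynomial (Fin n) k} {R : Type u} [CommRing R]
  {a : A →+* R} {q : R →+* B₀}

/-- The structure map of `B₀` over `k`. -/
abbrev cst (k B₀ : Type u) [Field k] [CommRing B₀] (n : ℕ) [Algebra (MvPolynomial (Fin n) k) B₀] :
    k →+* B₀ :=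
  (algebraMap (MvPolynomial (Fin n) k) B₀).comp MvPolynomial.C

theorem nonempty_pres (hd : IsDef A (cst k B₀ n) a q)
    (hs : Function.Surjective (algebraMap (MvPolynomial (Fin n) k) B₀))
    (hf : ∀ s, algebraMap (MvPolynomial (Fin n) k) B₀ (f s) = 0) : Nonempty (Pres A f a q) := by
  choose e he using fun i => hd.surjective (algebraMap (MvPolynomial (Fin n) k) B₀ (X i))
  let ψ := MvPolynomial.eval₂Hom a e
  have hC : ∀ c, ψ (C c) = a c := fun c => eval₂Hom_C _ _ _
  have hq : ∀ G, q (ψ G) = algebraMap (MvPolynomial (Fin n) k) B₀ (red A G) := fun G => by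
    have : q.comp ψ = (algebraMap (MvPolynomial (Fin n) k) B₀).comp (red A) :=
      MvPolynomial.ringHom_ext (fun c => by
          rw [RingHom.comp_apply, hC, hd.comm, RingHom.comp_apply]; exact congrArg _ (MvPolynomial.map_C _ _).symm)
        fun i => by
          rw [RingHom.comp_apply, show ψ (X i) = e i from eval₂Hom_X' _ _ _, he, RingHom.comp_apply,
            MvPolynomial.map_X]
    exact RingHom.congr_fun this G
  let _ := a.toAlgebra
  have hsurj : Function.Surjective ψ := by
    let ψl : MvPolynomial (Fin n) A →ₗ[A] R :=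
      { toFun := ψ
        map_add' := map_add ψ
        map_smul' := fun c G => by
          rw [Algebra.smul_def, Algebra.smul_def, map_mul, RingHom.id_apply]
          exact congrArg (· * ψ G) (hC c) }
    obtain ⟨N, hN⟩ := IsArtinianRing.isNilpotent_jacobson_bot (R := A)
    rw [IsLocalRing.jacobson_eq_maximalIdeal ⊥ bot_ne_top] at hN
    have htop : LinearMap.range ψl = ⊤ := by
      refine eq_top_of_sup_smul _ hN _ fun x _ => ?_
      obtain ⟨p, hp⟩ := hs (q x)
      obtain ⟨G, rfl⟩ := red_surjective A p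
      refine Submodule.mem_sup.2 ⟨ψ G, ⟨G, rfl⟩, x - ψ G, ?_, add_sub_cancel _ _⟩
      rw [Ideal.smul_top_eq_map]
      exact hd.ker_le (by rw [RingHom.mem_ker, map_sub, hq, hp, sub_self])
    exact fun x => LinearMap.range_eq_top.1 htop x
  have hlift : ∀ s, ∃ G, red A G = f s ∧ ψ G = 0 := fun s => by
    obtain ⟨G, hG⟩ := red_surjective A (f s)
    have h1 : ψ G ∈ (IsLocalRing.maximalIdeal A).map a := hd.ker_le (by rw [RingHom.mem_ker, hq, hG, hf])
    rw [show a = ψ.comp MvPolynomial.C from (RingHom.ext hC).symm, ← Ideal.map_map] at h1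
    obtain ⟨H, hH, hH'⟩ := (Ideal.mem_map_iff_of_surjective ψ hsurj).1 h1
    refine ⟨G - H, ?_, by rw [map_sub, hH', sub_self]⟩
    rw [map_sub, hG, (red_eq_zero_iff A H).2, sub_zero]
    rw [Ideal.smul_top_eq_map, MvPolynomial.algebraMap_eq]
    exact hH
  choose F hF₁ hF₂ using hlift
  exact ⟨⟨ψ, hC, hq, hsurj, F, hF₁, hF₂⟩⟩

namespace Pres

variable (D : Pres A f a q)

/-- The kernel as an `A`-submodule. -/
def K : Submodule A (MvPolynomial (Fin n) A) :=
  (RingHom.ker D.ψ).restrictScalars A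

theorem exists_retraction (hd : IsDef A (cst k B₀ n) a q) :
    ∃ π : MvPolynomial (Fin n) A →ₗ[A] MvPolynomial (Fin n) A,
      (∀ G, π G ∈ D.K) ∧ ∀ G ∈ D.K, π G = G := by
  obtain ⟨κ, e, he⟩ := hd.exists_basis
  have hb := hd.bijective_comb he
  choose eL heL using fun i => D.surj (e i)
  let Φ : (κ →₀ A) →ₗ[A] MvPolynomial (Fin n) A := Finsupp.linearCombination A eL
  have hΦ : ∀ v, D.ψ (Φ v) = comb a e v := fun v => by
    simp only [Φ, Finsupp.linearCombination_apply, comb, map_finsuppSum, Algebra.smul_def, map_mul,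
      MvPolynomial.algebraMap_eq, D.ψ_C, heL]
  choose inv hinv using fun G : MvPolynomial (Fin n) A => hb.2 (D.ψ G)
  have huniq : ∀ G v, comb a e v = D.ψ G → inv G = v := fun G v hv => hb.1 ((hinv G).trans hv.symm)
  let invl : MvPolynomial (Fin n) A →ₗ[A] (κ →₀ A) :=
    { toFun := inv
      map_add' := fun G H => huniq _ _ (by
        rw [← hΦ, map_add, map_add, hΦ, hΦ, hinv, hinv, map_add])
      map_smul' := fun c G => huniq _ _ (by
        rw [RingHom.id_apply, ← hΦ, map_smul, Algebra.smul_def, map_mul, hΦ, hinv, Algebra.smul_def, map_mul]) }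
  refine ⟨LinearMap.id - Φ ∘ₗ invl, fun G => ?_, fun G hG => ?_⟩
  · change D.ψ (G - Φ (inv G)) = 0
    rw [map_sub, hΦ, hinv, sub_self]
  · change G - Φ (inv G) = G
    rw [huniq G 0 (by rw [show D.ψ G = 0 from hG]; simp [comb]), map_zero, sub_zero]

theorem mem_smul_K (hd : IsDef A (cst k B₀ n) a q) {G : MvPolynomial (Fin n) A} (hG : D.ψ G = 0)
    (hr : red A G = 0) : G ∈ IsLocalRing.maximalIdeal A • D.K := by
  obtain ⟨π, h₁, h₂⟩ := D.exists_retraction hd
  exact mem_smul_of_retraction D.K π h₁ h₂ _ hG ((red_eq_zero_iff A G).1 hr)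

variable (hI : RingHom.ker (algebraMap (MvPolynomial (Fin n) k) B₀) = Ideal.span (Set.range f))

include hI

theorem exists_dot_eq (hd : IsDef A (cst k B₀ n) a q) {G : MvPolynomial (Fin n) A} (hG : D.ψ G = 0) :
    ∃ c, dot D.F c = G := by
  let S : Submodule A (MvPolynomial (Fin n) A) := (LinearMap.range (dot D.F)).restrictScalars A
  obtain ⟨N, hN⟩ := IsArtinianRing.isNilpotent_jacobson_bot (R := A)
  rw [IsLocalRing.jacobson_eq_maximalIdeal ⊥ bot_ne_top] at hN
  have hle : D.K ≤ S ⊔ IsLocalRing.maximalIdeal A • D.K := fun H hH => by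
    have h1 : red A H ∈ Ideal.span (Set.range f) := by
      rw [← hI, RingHom.mem_ker, ← D.q_ψ, show D.ψ H = 0 from hH, map_zero]
    obtain ⟨c, hc⟩ := (Submodule.mem_span_range_iff_exists_fun _).1 h1
    choose c' hc' using fun s => red_surjective A (c s)
    refine Submodule.mem_sup.2 ⟨dot D.F c', ⟨c', rfl⟩, H - dot D.F c', D.mem_smul_K hd ?_ ?_, add_sub_cancel _ _⟩
    · rw [map_sub, show D.ψ H = 0 from hH, dot_apply, map_sum, Finset.sum_eq_zero fun s _ => by
        rw [map_mul, D.ψ_F, mul_zero], sub_zero]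
    · rw [map_sub, dot_apply, map_sum, ← hc, sub_eq_zero]
      exact Finset.sum_congr rfl fun s _ => by rw [map_mul, hc', D.red_F]; rfl
  have : ∀ m : ℕ, D.K ≤ S ⊔ IsLocalRing.maximalIdeal A ^ m • D.K := fun m => by
    induction m with
    | zero => rw [pow_zero, Ideal.one_eq_top, Submodule.top_smul]; exact le_sup_right
    | succ m ih =>
      refine ih.trans (sup_le le_sup_left ?_)
      calc IsLocalRing.maximalIdeal A ^ m • D.K
          ≤ IsLocalRing.maximalIdeal A ^ m • (S ⊔ IsLocalRing.maximalIdeal A • D.K) := Submodule.smul_mono le_rfl hle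
        _ ≤ S ⊔ IsLocalRing.maximalIdeal A ^ (m + 1) • D.K := by
          rw [Submodule.smul_sup, ← Submodule.smul_assoc, Ideal.smul_eq_mul, ← pow_succ]
          exact sup_le_sup_right Submodule.smul_le_right _
  have h := this N hG
  rw [hN, Submodule.zero_eq_bot, Submodule.bot_smul, sup_bot_eq] at h
  exact h

theorem exists_relation (hd : IsDef A (cst k B₀ n) a q) (u : Fin r → MvPolynomial (Fin n) k)
    (hu : dot f u = 0) : ∃ U, dot D.F U = 0 ∧ ∀ s, red A (U s) = u s := by
  choose U₀ hU₀ using fun s => red_surjective A (u s)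
  have hred : red A (dot D.F U₀) = 0 := by
    rw [dot_apply, map_sum, ← hu, dot_apply]
    exact Finset.sum_congr rfl fun s _ => by rw [map_mul, hU₀, D.red_F]
  have hψ : D.ψ (dot D.F U₀) = 0 := by
    rw [dot_apply, map_sum]
    exact Finset.sum_eq_zero fun s _ => by rw [map_mul, D.ψ_F, mul_zero]
  have h1 := D.mem_smul_K hd hψ hred
  have h2 : D.K ≤ Submodule.map ((dot D.F).restrictScalars A) ⊤ := fun G hG => by
    obtain ⟨c, hc⟩ := D.exists_dot_eq hI hd hG
    exact ⟨c, trivial, hc⟩
  have h3 := Submodule.smul_mono (le_refl (IsLocalRing.maximalIdeal A)) h2 h1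
  rw [← Submodule.map_smul''] at h3
  obtain ⟨c, hc, hc'⟩ := h3
  refine ⟨U₀ - c, by rw [map_sub, show dot D.F c = dot D.F U₀ from hc', sub_self], fun s => ?_⟩
  have h4 : c s ∈ IsLocalRing.maximalIdeal A • (⊤ : Submodule A (MvPolynomial (Fin n) A)) := by
    have := Submodule.mem_map_of_mem (f := LinearMap.proj (R := A) (φ := fun _ : Fin r => MvPolynomial (Fin n) A) s) hc
    rw [Submodule.map_smul''] at this
    exact Submodule.smul_mono le_rfl le_top this
  rw [Pi.sub_apply, map_sub, hU₀, (red_eq_zero_iff A _).2 h4, sub_zero]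

theorem exists_relation_retraction (hd : IsDef A (cst k B₀ n) a q) {U : Fin r → MvPolynomial (Fin n) A}
    (hU : dot D.F U = 0) (hr : ∀ s, red A (U s) = 0) :
    U ∈ IsLocalRing.maximalIdeal A • ((LinearMap.ker (dot D.F)).restrictScalars A) := by
  obtain ⟨π, hπ₁, hπ₂⟩ := D.exists_retraction hd
  choose t ht using fun m : Fin n →₀ ℕ => D.exists_dot_eq hI hd (hπ₁ (basisMonomials (Fin n) A m))
  let τ : MvPolynomial (Fin n) A →ₗ[A] (Fin r → MvPolynomial (Fin n) A) := (basisMonomials (Fin n) A).constr A t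
  have hτ : ∀ G, dot D.F (τ G) = π G := by
    have : (dot D.F).restrictScalars A ∘ₗ τ = π :=
      (basisMonomials (Fin n) A).ext fun m => by
        rw [LinearMap.comp_apply, show τ (basisMonomials (Fin n) A m) = t m from Module.Basis.constr_basis _ _ _ _]
        exact ht m
    exact fun G => LinearMap.congr_fun this G
  refine mem_smul_of_retraction _ (LinearMap.id - τ ∘ₗ (dot D.F).restrictScalars A) (fun V => ?_) (fun V hV => ?_)
    _ hU ?_
  · change dot D.F (V - τ (dot D.F V)) = 0
    rw [map_sub, hτ, hπ₂ _ (show D.ψ (dot D.F V) = 0 by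
      rw [dot_apply, map_sum]
      exact Finset.sum_eq_zero fun s _ => by rw [map_mul, D.ψ_F, mul_zero]), sub_self]
  · change V - τ (dot D.F V) = V
    rw [show dot D.F V = 0 from hV, map_zero, sub_zero]
  · rw [← Finset.univ_sum_single U]
    refine sum_mem fun s _ => ?_
    have := Submodule.mem_map_of_mem (f := LinearMap.single A (fun _ : Fin r => MvPolynomial (Fin n) A) s)
      ((red_eq_zero_iff A _).1 (hr s))
    rw [Submodule.map_smul''] at this
    exact Submodule.smul_mono le_rfl le_top this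

end Pres

section Small

variable {A' : Art Λ k} {p : A' ⟶ A}

/-- The map on polynomials. -/
abbrev pmap (p : A' ⟶ A) : MvPolynomial (Fin n) A' →+* MvPolynomial (Fin n) A :=
  MvPolynomial.map p.toAlgHom.toRingHom

theorem red_pmap (G : MvPolynomial (Fin n) A') : red A (pmap p G) = red A' G := by
  rw [MvPolynomial.map_map]
  exact congrArg (fun φ => MvPolynomial.map φ G) (RingHom.ext fun c => Art.res_app p c)

theorem exists_C_mul {j : A'} (hj : RingHom.ker p.toAlgHom = Ideal.span {j}) {G : MvPolynomial (Fin n) A'}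
    (hG : pmap p G = 0) : ∃ H, MvPolynomial.C j * H = G := by
  have : G ∈ RingHom.ker (pmap (n := n) p) := hG
  rw [MvPolynomial.ker_map, show RingHom.ker p.toAlgHom.toRingHom = RingHom.ker p.toAlgHom from rfl, hj,
    Ideal.map_span, Set.image_singleton, Ideal.mem_span_singleton] at this
  obtain ⟨H, hH⟩ := this
  exact ⟨H, hH.symm⟩

theorem C_mul_eq_zero_iff {j : A'} (hjc : ∀ c, j * c = 0 ↔ A'.res c = 0) (G : MvPolynomial (Fin n) A') :
    MvPolynomial.C j * G = 0 ↔ red A' G = 0 := by
  rw [MvPolynomial.ext_iff, MvPolynomial.ext_iff]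
  refine forall_congr' fun m => ?_
  rw [MvPolynomial.coeff_C_mul, MvPolynomial.coeff_map, coeff_zero, coeff_zero]
  exact hjc _

theorem smallExt_gen (hp : Art.IsSmallExt p) :
    ∃ j : A', RingHom.ker p.toAlgHom = Ideal.span {j} ∧ ∀ c, j * c = 0 ↔ A'.res c = 0 := by
  obtain ⟨⟨j, hj⟩⟩ := hp.2.2.1
  refine ⟨j, hj, fun c => ⟨fun h => ?_, fun h => ?_⟩⟩
  · by_contra hc
    have hu : IsUnit c := (ArtFunLib.isUnit_iff_res_ne_zero A' c).2 hc
    have hj0 : j = 0 := by
      obtain ⟨v, rfl⟩ := hu
      simpa using congrArg (· * (↑v⁻¹ : A')) h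
    exact hp.2.1 (by rw [hj, hj0, Submodule.span_singleton_eq_bot])
  · have h1 : c * j ∈ IsLocalRing.maximalIdeal A' * RingHom.ker p.toAlgHom :=
      Ideal.mul_mem_mul ((Art.mem_maximalIdeal_iff A' c).2 h) (hj ▸ Submodule.mem_span_singleton_self j)
    rw [hp.2.2.2] at h1
    rw [mul_comm]
    exact h1

variable (D : Pres A f a q) (hI : RingHom.ker (algebraMap (MvPolynomial (Fin n) k) B₀) = Ideal.span (Set.range f))
  (hd : IsDef A (cst k B₀ n) a q)

include D hI hd

theorem w_congr {j : A'} (hjc : ∀ c, j * c = 0 ↔ A'.res c = 0) (hj : RingHom.ker p.toAlgHom = Ideal.span {j})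
    (hps : Function.Surjective p) {F' : Fin r → MvPolynomial (Fin n) A'} (hF' : ∀ s, pmap p (F' s) = D.F s)
    {U U' : Fin r → MvPolynomial (Fin n) A'} (hU : dot D.F (fun s => pmap p (U s)) = 0)
    (hU' : dot D.F (fun s => pmap p (U' s)) = 0) (he : ∀ s, red A' (U s) = red A' (U' s))
    {w w' : MvPolynomial (Fin n) A'} (hw : dot F' U = MvPolynomial.C j * w)
    (hw' : dot F' U' = MvPolynomial.C j * w') :
    algebraMap (MvPolynomial (Fin n) k) B₀ (red A' w) = algebraMap (MvPolynomial (Fin n) k) B₀ (red A' w') := by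
  have hredF : ∀ s, red A' (F' s) = f s := fun s => by rw [← red_pmap (p := p), hF', D.red_F]
  let pV : (Fin r → MvPolynomial (Fin n) A') →+ (Fin r → MvPolynomial (Fin n) A) :=
    (pmap p).toAddMonoidHom.compLeft (Fin r)
  have hmem : pV (U - U') ∈ IsLocalRing.maximalIdeal A • ((LinearMap.ker (dot D.F)).restrictScalars A) := by
    refine D.exists_relation_retraction hI hd ?_ fun s => ?_
    · rw [map_sub, map_sub, show dot D.F (pV U) = 0 from hU, show dot D.F (pV U') = 0 from hU', sub_zero]
    · change red A (pmap p (U s - U' s)) = 0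
      rw [red_pmap, map_sub, he, sub_self]
  have key : ∀ V, V ∈ IsLocalRing.maximalIdeal A • ((LinearMap.ker (dot D.F)).restrictScalars A) →
      ∃ V', pV V' = V ∧ dot F' V' = 0 := fun V hV => by
    refine Submodule.smul_induction_on hV (fun c hc W hW => ?_) (fun V₁ V₂ h₁ h₂ => ?_)
    ·
      obtain ⟨c', rfl⟩ := hps c
      choose W' hW' using fun s => MvPolynomial.map_surjective p.toAlgHom.toRingHom hps (W s)
      obtain ⟨H, hH⟩ := exists_C_mul hj (G := dot F' W') (by
        rw [dot_apply, map_sum]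
        refine (Finset.sum_congr rfl fun s _ => ?_).trans ((dot_apply D.F W).symm.trans hW)
        rw [map_mul, hW', hF'])
      refine ⟨(MvPolynomial.C c' : MvPolynomial (Fin n) A') • W', funext fun s => ?_, ?_⟩
      · change pmap p (MvPolynomial.C c' * W' s) = p c' • W s
        rw [map_mul, MvPolynomial.map_C, Algebra.smul_def, hW']
        rfl
      · rw [map_smul, ← hH, smul_eq_mul, ← mul_assoc, ← map_mul, mul_comm c' j,
          (hjc c').2 ((Art.res_app p c').symm.trans ((Art.mem_maximalIdeal_iff A _).1 hc)), map_zero, zero_mul]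
    ·
      obtain ⟨V₁', e₁, e₁'⟩ := h₁
      obtain ⟨V₂', e₂, e₂'⟩ := h₂
      exact ⟨V₁' + V₂', by rw [map_add, e₁, e₂], by rw [map_add, e₁', e₂', add_zero]⟩
  obtain ⟨V', hV', hV'0⟩ := key _ hmem
  choose z hz using fun s => exists_C_mul hj (G := (U - U' - V') s) (by
    have := congrFun hV' s
    change pmap p (V' s) = pmap p ((U - U') s) at this
    rw [Pi.sub_apply, map_sub, this, sub_self])
  have h1 : MvPolynomial.C j * (w - w' - dot F' z) = 0 := by
    rw [mul_sub, mul_sub, ← hw, ← hw']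
    have : MvPolynomial.C j * dot F' z = dot F' (U - U' - V') := by
      rw [dot_apply, dot_apply, Finset.mul_sum]
      exact Finset.sum_congr rfl fun s _ => by rw [← hz, mul_assoc]
    rw [this, map_sub, map_sub, hV'0, sub_zero, sub_self]
  have h2 := (C_mul_eq_zero_iff hjc _).1 h1
  rw [map_sub, map_sub, sub_eq_zero] at h2
  rw [← sub_eq_zero, ← map_sub, h2, ← RingHom.mem_ker, hI, dot_apply, map_sum]
  exact sum_mem fun s _ => by
    rw [map_mul, hredF]
    exact Ideal.mul_mem_left _ _ (Ideal.subset_span ⟨s, rfl⟩)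

/-- The obstruction as a linear map on relations. -/
theorem exists_obstruction {j : A'} (hjc : ∀ c, j * c = 0 ↔ A'.res c = 0)
    (hj : RingHom.ker p.toAlgHom = Ideal.span {j}) (hps : Function.Surjective p)
    {F' : Fin r → MvPolynomial (Fin n) A'} (hF' : ∀ s, pmap p (F' s) = D.F s) :
    ∃ δ : LinearMap.ker (dot f) →ₗ[MvPolynomial (Fin n) k] B₀,
      (∀ u : LinearMap.ker (dot f), u.1 ∈ trivR f → δ u = 0) ∧
      ∀ (u : LinearMap.ker (dot f)) (V₀ : Fin r → MvPolynomial (Fin n) A') (v : MvPolynomial (Fin n) A'),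
        dot D.F (fun s => pmap p (V₀ s)) = 0 → (∀ s, red A' (V₀ s) = u.1 s) →
        dot F' V₀ = MvPolynomial.C j * v → algebraMap _ B₀ (red A' v) = δ u := by
  classical
  let P := MvPolynomial (Fin n) k
  have hW : ∀ u : LinearMap.ker (dot f), ∃ (U : Fin r → MvPolynomial (Fin n) A') (w : MvPolynomial (Fin n) A'),
      dot D.F (fun s => pmap p (U s)) = 0 ∧ (∀ s, red A' (U s) = u.1 s) ∧
        dot F' U = MvPolynomial.C j * w := fun u => by
    obtain ⟨V, hV, hVr⟩ := D.exists_relation hI hd u.1 u.2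
    choose U hU using fun s => MvPolynomial.map_surjective p.toAlgHom.toRingHom hps (V s)
    have hUp : (fun s => pmap p (U s)) = V := funext hU
    obtain ⟨w, hw⟩ := exists_C_mul hj (G := dot F' U) (by
      rw [dot_apply, map_sum]
      refine (Finset.sum_congr rfl fun s _ => ?_).trans ((dot_apply D.F V).symm.trans hV)
      rw [map_mul, hU, hF'])
    exact ⟨U, w, hUp ▸ hV, fun s => by rw [← red_pmap (p := p), show pmap p (U s) = V s from hU s, hVr],
      hw.symm⟩
  choose U w hU₁ hU₂ hU₃ using hW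
  let δ : LinearMap.ker (dot f) →ₗ[P] B₀ :=
    { toFun := fun u => algebraMap P B₀ (red A' (w u))
      map_add' := fun u v => by
        rw [← map_add, ← map_add]
        refine w_congr D hI hd hjc hj hps hF' (hU₁ _) (U' := U u + U v) ?_ (fun s => ?_) (hU₃ _) ?_
        · rw [show (fun s => pmap p ((U u + U v) s)) = (fun s => pmap p (U u s)) + fun s => pmap p (U v s) from
            funext fun s => map_add _ _ _, map_add, hU₁, hU₁, add_zero]
        · simp [hU₂]
        · rw [map_add, hU₃, hU₃, mul_add]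
      map_smul' := fun c u => by
        obtain ⟨c', rfl⟩ := red_surjective A' c
        rw [RingHom.id_apply, Algebra.smul_def, ← map_mul, ← map_mul]
        refine w_congr D hI hd hjc hj hps hF' (hU₁ _) (U' := c' • U u) ?_ (fun s => ?_) (hU₃ _) ?_
        · rw [show (fun s => pmap p ((c' • U u) s)) = pmap p c' • fun s => pmap p (U u s) from
            funext fun s => map_mul _ _ _, map_smul, hU₁, smul_zero]
        · simp [hU₂]
        · rw [map_smul, hU₃, smul_eq_mul, mul_left_comm] }
  have hδ : ∀ u : LinearMap.ker (dot f), u.1 ∈ trivR f → δ u = 0 := by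
    rintro ⟨u, hu⟩ ht
    obtain ⟨c, hc⟩ := (Submodule.mem_span_range_iff_exists_fun P).1 ht
    choose c' hc' using fun e => red_surjective A' (c e)
    let U' : Fin r → MvPolynomial (Fin n) A' :=
      ∑ e, c' e • (F' e.2 • Pi.single e.1 (1 : MvPolynomial (Fin n) A') - F' e.1 • Pi.single e.2 1)
    have hredF : ∀ s, red A' (F' s) = f s := fun s => by rw [← red_pmap (p := p), show pmap p (F' s) = D.F s from hF' s, D.red_F]
    have hU'0 : dot F' U' = 0 := dot_eq_zero_of_mem_trivR F'
      (sum_mem fun e _ => Submodule.smul_mem _ _ (Submodule.subset_span ⟨e, rfl⟩))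
    have : algebraMap P B₀ (red A' (w ⟨u, hu⟩)) = algebraMap P B₀ (red A' 0) := by
      refine w_congr D hI hd hjc hj hps hF' (hU₁ _) (U' := U') ?_ (fun s => ?_) (hU₃ _)
        (by rw [hU'0, mul_zero])
      · rw [dot_apply]
        have := congrArg (pmap p) hU'0
        rw [dot_apply, map_sum, map_zero] at this
        refine Eq.trans (Finset.sum_congr rfl fun s _ => ?_) this
        rw [map_mul, show pmap p (F' s) = D.F s from hF' s]
      · rw [hU₂, ← hc]
        simp [U', Finset.sum_apply, hredF, hc', Pi.single_apply, apply_ite (red A')]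
    exact this.trans (by simp)
  exact ⟨δ, hδ, fun u V₀ v h₁ h₂ h₃ =>
    w_congr D hI hd hjc hj hps hF' h₁ (hU₁ u) (fun s => by rw [h₂, hU₂]) h₃ (hU₃ u)⟩

theorem exists_exact_lifts (hp : Art.IsSmallExt p) (hK : LCI.IsKoszulRegularIdeal (Ideal.span (Set.range f))) :
    ∃ F'' : Fin r → MvPolynomial (Fin n) A', (∀ s, pmap p (F'' s) = D.F s) ∧
      ∀ V, dot D.F V = 0 → ∃ V', (∀ s, pmap p (V' s) = V s) ∧ dot F'' V' = 0 := by
  classical
  obtain ⟨j, hj, hjc⟩ := smallExt_gen hp
  have hps : Function.Surjective p := hp.1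
  have hpj : p j = 0 := (hj ▸ Submodule.mem_span_singleton_self j : j ∈ RingHom.ker p.toAlgHom)
  choose F' hF' using fun s => MvPolynomial.map_surjective p.toAlgHom.toRingHom hps (D.F s)
  let P := MvPolynomial (Fin n) k
  obtain ⟨δ, hδ, hval⟩ := exists_obstruction D hI hd hjc hj hps hF'
  obtain ⟨θ, hθ⟩ := exists_extend f hK (B := B₀) (fun b hb z => by
    rw [← hI, RingHom.mem_ker] at hb
    rw [Algebra.smul_def, hb, zero_mul]) δ hδ
  have hsurjB : ∀ b : B₀, ∃ G, algebraMap P B₀ (red A' G) = b := fun b => by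
    obtain ⟨x, rfl⟩ := hd.surjective b
    obtain ⟨G, rfl⟩ := D.surj x
    obtain ⟨G', rfl⟩ := MvPolynomial.map_surjective p.toAlgHom.toRingHom hps G
    exact ⟨G', by rw [D.q_ψ, red_pmap]⟩
  choose th hth using fun s => hsurjB (θ (Pi.single s 1))
  let F'' : Fin r → MvPolynomial (Fin n) A' := fun s => F' s - MvPolynomial.C j * th s
  have hF'' : ∀ s, pmap p (F'' s) = D.F s := fun s => by
    rw [map_sub, map_mul, MvPolynomial.map_C, show p.toAlgHom.toRingHom j = 0 from hpj, map_zero, zero_mul, sub_zero]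
    exact hF' s
  have hredF'' : ∀ s, red A' (F'' s) = f s := fun s => by rw [← red_pmap (p := p), hF'', D.red_F]
  -- every relation lifts exactly
  have hexact : ∀ V, dot D.F V = 0 → ∃ V', (∀ s, pmap p (V' s) = V s) ∧ dot F'' V' = 0 := fun V hV => by
    choose V₀ hV₀ using fun s => MvPolynomial.map_surjective p.toAlgHom.toRingHom hps (V s)
    obtain ⟨v, hv⟩ := exists_C_mul hj (G := dot F' V₀) (by
      rw [dot_apply, map_sum]
      refine (Finset.sum_congr rfl fun s _ => ?_).trans ((dot_apply D.F V).symm.trans hV)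
      rw [map_mul, hV₀, hF'])
    let u : LinearMap.ker (dot f) := ⟨fun s => red A (V s), by
      have := congrArg (red A) hV
      rw [dot_apply, map_sum, map_zero] at this
      rw [LinearMap.mem_ker, dot_apply]
      exact (Finset.sum_congr rfl fun s _ => by rw [map_mul, D.red_F]).trans this⟩
    have hv' : algebraMap P B₀ (red A' v) = δ u :=
      hval u V₀ v (by rw [show (fun s => pmap p (V₀ s)) = V from funext hV₀]; exact hV)
        (fun s => by rw [← red_pmap (p := p), show pmap p (V₀ s) = V s from hV₀ s]) hv.symm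
    have hmem : red A' (v - dot th V₀) ∈ Ideal.span (Set.range f) := by
      rw [← hI, RingHom.mem_ker, map_sub, map_sub, hv', sub_eq_zero, ← hθ u, dot_apply, map_sum, map_sum,
        ← Finset.univ_sum_single u.1, map_sum]
      refine Finset.sum_congr rfl fun s _ => ?_
      rw [show (Pi.single s (u.1 s) : Fin r → P) = u.1 s • Pi.single s (1 : P) by
        rw [← Pi.single_smul', smul_eq_mul, mul_one], map_smul, map_mul, map_mul, hth, Algebra.smul_def, ← red_pmap (p := p) (V₀ s),
        show pmap p (V₀ s) = V s from hV₀ s]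
    obtain ⟨e, he⟩ := (Submodule.mem_span_range_iff_exists_fun P).1 hmem
    choose e' he' using fun s => red_surjective A' (e s)
    refine ⟨fun s => V₀ s - MvPolynomial.C j * e' s, fun s => ?_, ?_⟩
    · rw [map_sub, map_mul, MvPolynomial.map_C, show p.toAlgHom.toRingHom j = 0 from hpj, map_zero, zero_mul,
        sub_zero]
      exact hV₀ s
    · have h1 : MvPolynomial.C j * (v - dot th V₀ - dot F'' e') = 0 := by
        rw [C_mul_eq_zero_iff hjc, map_sub, ← he, dot_apply F'', map_sum, sub_eq_zero]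
        exact Finset.sum_congr rfl fun s _ => by rw [map_mul, hredF'', he']; rfl
      rw [← h1, mul_sub, mul_sub, hv, dot_apply, dot_apply, dot_apply, dot_apply, Finset.mul_sum, Finset.mul_sum,
        ← Finset.sum_sub_distrib, ← Finset.sum_sub_distrib]
      exact Finset.sum_congr rfl fun s _ => by simp only [F'']; ring
  exact ⟨F'', hF'', hexact⟩

/-- The candidate lift. -/
abbrev LiftRing (F'' : Fin r → MvPolynomial (Fin n) A') : Type u :=
  MvPolynomial (Fin n) A' ⧸ Ideal.span (Set.range F'')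

/-- Its structure map. -/
abbrev liftA (F'' : Fin r → MvPolynomial (Fin n) A') : A' →+* LiftRing F'' :=
  (Ideal.Quotient.mk _).comp MvPolynomial.C

omit hI hd in
theorem psi_eq_zero {F'' : Fin r → MvPolynomial (Fin n) A'} (hF'' : ∀ s, pmap p (F'' s) = D.F s)
    (G : MvPolynomial (Fin n) A') (hG : G ∈ Ideal.span (Set.range F'')) : D.ψ (pmap p G) = 0 := by
  have : Ideal.span (Set.range F'') ≤ RingHom.ker (D.ψ.comp (pmap p)) := Ideal.span_le.2 (by
    rintro _ ⟨s, rfl⟩
    rw [SetLike.mem_coe, RingHom.mem_ker, RingHom.comp_apply, hF'', D.ψ_F])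
  exact this hG

variable {κ : Type u} (e : κ → R)

omit hI in
theorem psi_combination (e₁ : κ → MvPolynomial (Fin n) A') (he₁ : ∀ i, D.ψ (pmap p (e₁ i)) = e i) (v : κ →₀ A') :
    D.ψ (pmap p (Finsupp.linearCombination A' e₁ v)) = comb a e (v.mapRange p (map_zero p.toAlgHom)) ∧
    algebraMap (MvPolynomial (Fin n) k) B₀ (red A' (Finsupp.linearCombination A' e₁ v)) =
      comb (cst k B₀ n) (q ∘ e) (v.mapRange A'.res (map_zero A'.res)) := by
  have h1 : D.ψ (pmap p (Finsupp.linearCombination A' e₁ v)) = comb a e (v.mapRange p (map_zero p.toAlgHom)) := by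
    rw [Finsupp.linearCombination_apply, comb, Finsupp.sum_mapRange_index fun i => by rw [map_zero, zero_mul],
      map_finsuppSum, map_finsuppSum]
    refine Finsupp.sum_congr fun i _ => ?_
    rw [Algebra.smul_def, map_mul, map_mul, he₁, MvPolynomial.algebraMap_eq, MvPolynomial.map_C, D.ψ_C]
    rfl
  refine ⟨h1, ?_⟩
  rw [← red_pmap (p := p), ← D.q_ψ, h1]
  refine (map_comb q A.res.toRingHom hd.comm e _).trans (congrArg _ (Finsupp.ext fun i => ?_))
  exact Art.res_app p _

theorem lift_injective (hp : Art.IsSmallExt p) {F'' : Fin r → MvPolynomial (Fin n) A'}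
    (hF'' : ∀ s, pmap p (F'' s) = D.F s)
    (hexact : ∀ V, dot D.F V = 0 → ∃ V', (∀ s, pmap p (V' s) = V s) ∧ dot F'' V' = 0)
    (hb : Function.Bijective (comb a e)) (he : Function.Bijective (comb (cst k B₀ n) (q ∘ e)))
    (e₁ : κ → MvPolynomial (Fin n) A') (he₁ : ∀ i, D.ψ (pmap p (e₁ i)) = e i) (y : κ →₀ A')
    (hz : Finsupp.linearCombination A' e₁ y ∈ Ideal.span (Set.range F'')) : y = 0 := by
  classical
  obtain ⟨j, hj, hjc⟩ := smallExt_gen hp
  have hps : Function.Surjective p := hp.1
  have hpj : p j = 0 := (hj ▸ Submodule.mem_span_singleton_self j : j ∈ RingHom.ker p.toAlgHom)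
  let P := MvPolynomial (Fin n) k
  have hredF'' : ∀ s, red A' (F'' s) = f s := fun s => by rw [← red_pmap (p := p), hF'', D.red_F]
  let Φ : (κ →₀ A') →ₗ[A'] MvPolynomial (Fin n) A' := Finsupp.linearCombination A' e₁
  change Φ y ∈ _ at hz
  have hΦψ := fun v => (psi_combination D hd e e₁ he₁ v).1
  have hΦred := fun v => (psi_combination D hd e e₁ he₁ v).2
  have hI'le := psi_eq_zero D hF''
  have hpy : y.mapRange p (map_zero p.toAlgHom) = 0 :=
    hb.1 ((hΦψ y).symm.trans ((hI'le _ hz).trans (by simp [comb])))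
  have hyj : ∀ i, ∃ c, c * j = y i := fun i => Ideal.mem_span_singleton'.1
    (hj ▸ (DFunLike.congr_fun hpy i : p (y i) = 0))
  choose c hc using hyj
  let y' : κ →₀ A' := Finsupp.onFinset y.support (fun i => if y i = 0 then 0 else c i)
    fun i hi => Finsupp.mem_support_iff.2 fun h => hi (if_pos h)
  have hy' : y = j • y' := Finsupp.ext fun i => by
    rw [Finsupp.smul_apply, Finsupp.onFinset_apply, smul_eq_mul]
    split_ifs with h
    · rw [h, mul_zero]
    · rw [mul_comm, hc]
  obtain ⟨u, hu⟩ := (Submodule.mem_span_range_iff_exists_fun _).1 hz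
  have hu' : dot D.F (fun s => pmap p (u s)) = 0 := by
    rw [dot_apply]
    refine Eq.trans (Finset.sum_congr rfl fun s _ => ?_) ((map_sum (pmap p) (fun s => u s • F'' s) _).symm.trans ?_)
    · rw [smul_eq_mul, map_mul, hF'']
    · rw [hu, hy', map_smul, Algebra.smul_def, map_mul, MvPolynomial.algebraMap_eq, MvPolynomial.map_C,
        show p.toAlgHom.toRingHom j = 0 from hpj, map_zero, zero_mul]
  obtain ⟨V', hV'₁, hV'₂⟩ := hexact _ hu'
  choose z hz' using fun s => exists_C_mul hj (G := u s - V' s) (by rw [map_sub, hV'₁, sub_self])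
  have h1 : MvPolynomial.C j * (Φ y' - dot F'' z) = 0 := by
    have e1 : MvPolynomial.C j * Φ y' = dot F'' u := by
      rw [dot_apply, ← MvPolynomial.algebraMap_eq, ← Algebra.smul_def, ← map_smul, ← hy', ← hu]
      rfl
    have e2 : MvPolynomial.C j * dot F'' z = dot F'' (fun s => u s - V' s) := by
      rw [dot_apply, dot_apply, Finset.mul_sum]
      exact Finset.sum_congr rfl fun s _ => by rw [← hz', mul_assoc]
    rw [mul_sub, e1, e2, show (fun s => u s - V' s) = u - V' from rfl, map_sub, hV'₂, sub_zero, sub_self]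
  have h2 := (C_mul_eq_zero_iff hjc _).1 h1
  rw [map_sub, sub_eq_zero] at h2
  have h3 : comb (cst k B₀ n) (q ∘ e) (y'.mapRange A'.res (map_zero A'.res)) = 0 := by
    rw [← hΦred]
    change algebraMap P B₀ (red A' (Φ y')) = 0
    rw [h2, dot_apply, map_sum, ← RingHom.mem_ker, hI]
    exact sum_mem fun s _ => by rw [map_mul, hredF'']; exact Ideal.mul_mem_left _ _ (Ideal.subset_span ⟨s, rfl⟩)
  have h4 := he.1 (h3.trans (by simp [comb] : (0 : B₀) = comb (cst k B₀ n) (q ∘ e) 0))
  rw [hy']
  exact Finsupp.ext fun i => (hjc _).2 (DFunLike.congr_fun h4 i)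

theorem lift_surjective (hp : Art.IsSmallExt p) {F'' : Fin r → MvPolynomial (Fin n) A'}
    (hF'' : ∀ s, pmap p (F'' s) = D.F s)
    (hb : Function.Bijective (comb a e)) (he : Function.Bijective (comb (cst k B₀ n) (q ∘ e)))
    (e₁ : κ → MvPolynomial (Fin n) A') (he₁ : ∀ i, D.ψ (pmap p (e₁ i)) = e i) (G : MvPolynomial (Fin n) A') :
    ∃ v, Ideal.Quotient.mk (Ideal.span (Set.range F'')) (Finsupp.linearCombination A' e₁ v) =
      Ideal.Quotient.mk _ G := by
  classical
  obtain ⟨j, hj, hjc⟩ := smallExt_gen hp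
  have hps : Function.Surjective p := hp.1
  have hpj : p j = 0 := (hj ▸ Submodule.mem_span_singleton_self j : j ∈ RingHom.ker p.toAlgHom)
  let P := MvPolynomial (Fin n) k
  have hredF'' : ∀ s, red A' (F'' s) = f s := fun s => by rw [← red_pmap (p := p), hF'', D.red_F]
  let Φ : (κ →₀ A') →ₗ[A'] MvPolynomial (Fin n) A' := Finsupp.linearCombination A' e₁
  have hΦψ := fun v => (psi_combination D hd e e₁ he₁ v).1
  have hΦred := fun v => (psi_combination D hd e e₁ he₁ v).2
  have hliftv : ∀ {S : Type u} [Zero S] (g : A' → S) (_ : g 0 = 0) (_ : Function.Surjective g) (v : κ →₀ S),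
      ∃ v' : κ →₀ A', ∀ i, g (v' i) = v i := fun {S} _ g h0 hg v => by
    choose c hc using fun i => hg (v i)
    refine ⟨Finsupp.onFinset v.support (fun i => if v i = 0 then 0 else c i)
      (fun i hi => Finsupp.mem_support_iff.2 fun h => hi (if_pos h)), fun i => ?_⟩
    rw [Finsupp.onFinset_apply]
    split_ifs with h
    · rw [h0, h]
    · exact hc i
  obtain ⟨v, hv⟩ := hb.2 (D.ψ (pmap p G))
  obtain ⟨v', hv'⟩ := hliftv p (map_zero p.toAlgHom) hps v
  have h0 : D.ψ (pmap p (G - Φ v')) = 0 := by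
    rw [map_sub, map_sub, hΦψ, show v'.mapRange p (map_zero p.toAlgHom) = v from Finsupp.ext hv', hv, sub_self]
  obtain ⟨c, hc⟩ := D.exists_dot_eq hI hd h0
  choose c' hc' using fun s => MvPolynomial.map_surjective p.toAlgHom.toRingHom hps (c s)
  obtain ⟨H, hH⟩ := exists_C_mul hj (G := G - Φ v' - dot F'' c') (by
    rw [map_sub, ← hc, dot_apply, dot_apply, map_sum, sub_eq_zero]
    exact Finset.sum_congr rfl fun s _ => by rw [map_mul, hF'', show pmap p (c' s) = c s from hc' s])
  obtain ⟨c₀, hc₀⟩ := (he.2 (algebraMap P B₀ (red A' H)))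
  obtain ⟨y, hy⟩ := hliftv A'.res (map_zero A'.res) A'.res_surjective c₀
  have hmem : red A' (H - Φ y) ∈ Ideal.span (Set.range f) := by
    rw [← hI, RingHom.mem_ker, map_sub, map_sub, hΦred,
      show y.mapRange A'.res (map_zero A'.res) = c₀ from Finsupp.ext hy, hc₀, sub_self]
  obtain ⟨g, hg⟩ := (Submodule.mem_span_range_iff_exists_fun P).1 hmem
  choose g' hg' using fun s => red_surjective A' (g s)
  have h1 : MvPolynomial.C j * (H - Φ y - dot F'' g') = 0 := by
    rw [C_mul_eq_zero_iff hjc, map_sub, ← hg, dot_apply, map_sum, sub_eq_zero]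
    exact Finset.sum_congr rfl fun s _ => by rw [map_mul, hredF'', hg']; rfl
  refine ⟨v' + j • y, ?_⟩
  change Ideal.Quotient.mk _ (Φ (v' + j • y)) = _
  rw [map_add Φ, map_smul, Algebra.smul_def, MvPolynomial.algebraMap_eq, eq_comm, Ideal.Quotient.eq]
  have e1 : G - (Φ v' + MvPolynomial.C j * Φ y) = dot F'' c' + MvPolynomial.C j * dot F'' g' := by
    rw [mul_sub, mul_sub, sub_eq_zero, hH] at h1
    linear_combination h1
  rw [e1, dot_apply, dot_apply]
  refine add_mem ?_ (Ideal.mul_mem_left _ _ ?_) <;>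
    exact sum_mem fun s _ => Ideal.mul_mem_left _ _ (Ideal.subset_span ⟨s, rfl⟩)


theorem exists_lift_small (hp : Art.IsSmallExt p) (hK : LCI.IsKoszulRegularIdeal (Ideal.span (Set.range f))) :
    ∃ (R' : Type u) (_ : CommRing R') (a' : A' →+* R') (q' : R' →+* B₀) (φ : R' →+* R),
      IsDef A' (cst k B₀ n) a' q' ∧ (∀ c, φ (a' c) = a (p c)) ∧ ∀ x, q (φ x) = q' x := by
  obtain ⟨F'', hF'', hexact⟩ := exists_exact_lifts D hI hd hp hK
  let φ : LiftRing F'' →+* R := Ideal.Quotient.lift _ (D.ψ.comp (pmap p)) (psi_eq_zero D hF'')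
  have hφ : ∀ c, φ (liftA F'' c) = a (p c) := fun c => by
    change D.ψ (pmap p (MvPolynomial.C c)) = _
    rw [MvPolynomial.map_C, D.ψ_C]
    rfl
  refine ⟨LiftRing F'', inferInstance, liftA F'', q.comp φ, φ, ?_, hφ, fun x => rfl⟩
  obtain ⟨κ, e, he⟩ := hd.exists_basis
  have hb := hd.bijective_comb he
  choose ee hee using fun i => D.surj (e i)
  choose e₁ he₁' using fun i => MvPolynomial.map_surjective p.toAlgHom.toRingHom hp.1 (ee i)
  have he₁ : ∀ i, D.ψ (pmap p (e₁ i)) = e i := fun i => (congrArg D.ψ (he₁' i)).trans (hee i)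
  have hmk : ∀ v, comb (liftA F'') (fun i => Ideal.Quotient.mk _ (e₁ i)) v =
      Ideal.Quotient.mk (Ideal.span (Set.range F'')) (Finsupp.linearCombination A' e₁ v) := fun v => by
    simp only [Finsupp.linearCombination_apply, comb, map_finsuppSum, Algebra.smul_def, map_mul,
      MvPolynomial.algebraMap_eq]
    rfl
  refine isDef_of_comb (e := fun i => Ideal.Quotient.mk _ (e₁ i)) ?_ (fun c => ?_) ⟨?_, ?_⟩
  · rw [show ⇑(q.comp φ) ∘ (fun i => Ideal.Quotient.mk (Ideal.span (Set.range F'')) (e₁ i)) = q ∘ e from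
      funext fun i => congrArg q (he₁ i)]
    exact he
  · exact (congrArg q (hφ c)).trans ((hd.comm _).trans (congrArg _ (Art.res_app p c)))
  · intro v v' hvv
    rw [← sub_eq_zero]
    refine lift_injective D hI hd e hp hF'' hexact hb he e₁ he₁ _ ?_
    rw [map_sub, ← Ideal.Quotient.eq, ← hmk, ← hmk]
    exact hvv
  · intro x
    obtain ⟨G, rfl⟩ := Ideal.Quotient.mk_surjective x
    obtain ⟨v, hv⟩ := lift_surjective D hI hd e hp hF'' hb he e₁ he₁ G
    exact ⟨v, (hmk v).trans hv⟩

end Small

end Groth.Agent.DefGlueLib.LiftLib
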