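import Groth.Agent.DefGlueLib.Affine
import Groth.Agent.DefGlueLib.Lift
import Groth.Prelude.Def_LCI2

/-! Unobstructedness of affine local complete intersections. -/

universe u

open CategoryTheory CategoryTheory.Limits AlgebraicGeometry ArtFun

noncomputable section

namespace Groth.Agent.DefGlueLib

variable {Λ k : Type u} [CommRing Λ] [Field k] [Algebra Λ k] [IsNoetherianRing Λ] [Module.Finite Λ k]

theorem isSmoothFunctor_defFunctor_affine {X : Scheme.{u}} [IsAffine X] (x : X ⟶ Art.specPt k) {n r : ℕ}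
    [Algebra (MvPolynomial (Fin n) k) Γ(X, ⊤)]
    (hc : str x (topAZ X) = LiftLib.cst k Γ(X, ⊤) n)
    (hs : Function.Surjective (algebraMap (MvPolynomial (Fin n) k) Γ(X, ⊤)))
    (f : Fin r → MvPolynomial (Fin n) k)
    (hI : RingHom.ker (algebraMap (MvPolynomial (Fin n) k) Γ(X, ⊤)) = Ideal.span (Set.range f))
    (hK : LCI.IsKoszulRegularIdeal (Ideal.span (Set.range f))) :
    ArtFun.IsSmoothFunctor (ArtFun.defFunctor (Λ := Λ) X x) := by
  intro B A μ hμ
  refine ArtFunLib.surjective_induction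
    (fun A B p => Function.Surjective ((ArtFun.defFunctor (Λ := Λ) X x).map p)) ?_ ?_ ?_ μ hμ
  · intro A B e _
    exact ((isIso_iff_bijective ((ArtFun.defFunctor (Λ := Λ) X x).map e)).1 inferInstance).2
  · intro A A' p hp y
    obtain ⟨ξ, rfl⟩ := cl_surjective y
    obtain ⟨R, _, a, q, hd, hξ⟩ := exists_defOf ξ
    rw [hξ]
    have hd' : IsDef A (LiftLib.cst k Γ(X, ⊤) n) a q := hc ▸ hd
    obtain ⟨D⟩ := LiftLib.nonempty_pres (f := f) hd' hs fun s => by
      rw [← RingHom.mem_ker, hI]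
      exact Ideal.subset_span ⟨s, rfl⟩
    obtain ⟨R', _, a', q', φ, hd'', hφ, hq⟩ := LiftLib.exists_lift_small D hI hd' hp hK
    have hd3 : IsDef A' (str x (topAZ X)) a' q' := hc ▸ hd''
    exact ⟨(defOf hd3).cl, map_cl p hd3 hd φ hφ hq⟩
  · intro A B C p q _ _ h1 h2 y
    obtain ⟨z, hz⟩ := h2 y
    obtain ⟨w, hw⟩ := h1 z
    exact ⟨w, by rw [ArtFunLib.map_comp', hw, hz]⟩

end Groth.Agent.DefGlueLib
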