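import Groth.Agent.DefGlueLib.Alg
import Mathlib.Algebra.TrivSqZeroExt.Basic
import Mathlib.RingTheory.Derivation.Basic
import Mathlib.RingTheory.Ideal.Quotient.Operations

/-! The square-zero extension of `B = P/I` attached to a homomorphism `I → M`. -/

universe u

open CategoryTheory TrivSqZeroExt

noncomputable section

namespace Groth.Agent.DefGlueLib.SqExt

/-- The right action of a commutative ring on a module. -/
@[implicit_reducible] def opModule (P : Type u) [CommRing P] (M : Type u) [AddCommGroup M] [Module P M] : Module Pᵐᵒᵖ M :=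
  Module.compHom M ((RingEquiv.toOpposite P).symm.toRingHom)

attribute [local instance 10] opModule

theorem opCentral (P : Type u) [CommRing P] (M : Type u) [AddCommGroup M] [Module P M] :
    IsCentralScalar P M :=
  ⟨fun _ _ => rfl⟩

attribute [local instance 10] opCentral

variable {P B : Type u} [CommRing P] [CommRing B] [Algebra P B]

/-- The kernel of `P → B`. -/
abbrev rel (P B : Type u) [CommRing P] [CommRing B] [Algebra P B] : Ideal P :=
  RingHom.ker (algebraMap P B)

variable {M M' : Type u} [AddCommGroup M] [Module P M] [Module B M] [IsScalarTower P B M]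
  [AddCommGroup M'] [Module P M'] [Module B M'] [IsScalarTower P B M']

theorem rel_smul (g : P) (hg : g ∈ rel P B) (m : M) : g • m = 0 := by
  rw [← algebraMap_smul B g m, RingHom.mem_ker.1 hg, zero_smul]

variable (h : rel P B →ₗ[P] M)

/-- The graph of `h`. -/
def J : Ideal (TrivSqZeroExt P M) where
  carrier := {z | ∃ g : rel P B, z = inl (g : P) + inr (h g)}
  add_mem' := by
    rintro _ _ ⟨g, rfl⟩ ⟨g', rfl⟩
    exact ⟨g + g', by rw [map_add, inr_add, Submodule.coe_add, inl_add]; abel⟩
  zero_mem' := ⟨0, by rw [map_zero, inr_zero, ZeroMemClass.coe_zero, inl_zero, add_zero]⟩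
  smul_mem' := by
    rintro z _ ⟨g, rfl⟩
    refine ⟨z.fst • g, TrivSqZeroExt.ext ?_ ?_⟩
    · simp
    · simp [rel_smul _ g.2]

/-- The extension ring. -/
abbrev E : Type u := TrivSqZeroExt P M ⧸ J h

instance (priority := 10000) instCommRingE : CommRing (E h) := Ideal.Quotient.commRing _

/-- The quotient map. -/
abbrev mkE : TrivSqZeroExt P M →+* E h := Ideal.Quotient.mk (J h)

/-- The projection to `B`. -/
def proj : E h →+* B :=
  Ideal.Quotient.lift (J h) ((algebraMap P B).comp (fstHom P P M).toRingHom) (by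
    rintro _ ⟨g, rfl⟩
    simp [RingHom.mem_ker.1 g.2])

@[simp] theorem proj_mk (z : TrivSqZeroExt P M) : proj h (mkE h z) = algebraMap P B z.fst := rfl

theorem proj_surjective (hs : Function.Surjective (algebraMap P B)) : Function.Surjective (proj h) :=
  fun b => (hs b).elim fun p hp => ⟨mkE h (inl p), by simpa using hp⟩

/-- The inclusion of `M`. -/
def incl : M →+ E h := (mkE h).toAddMonoidHom.comp (inrHom P M).toAddMonoidHom

theorem incl_apply (m : M) : incl h m = mkE h (inr m) := rfl

theorem proj_incl (m : M) : proj h (incl h m) = 0 := by simp [incl_apply]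

theorem incl_injective : Function.Injective (incl h) := by
  refine (injective_iff_map_eq_zero _).2 fun m hm => ?_
  obtain ⟨g, hg⟩ := Ideal.Quotient.eq_zero_iff_mem.1 hm
  have h1 := congrArg TrivSqZeroExt.fst hg
  have h2 := congrArg TrivSqZeroExt.snd hg
  simp at h1 h2
  rw [h2, show g = 0 from Subtype.ext h1.symm, map_zero]

theorem exists_incl (e : E h) (he : proj h e = 0) : ∃ m, incl h m = e := by
  obtain ⟨z, rfl⟩ := Ideal.Quotient.mk_surjective e
  refine ⟨z.snd - h ⟨z.fst, he⟩, ?_⟩
  rw [incl_apply]
  refine (Ideal.Quotient.eq.2 ?_).symm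
  refine ⟨⟨z.fst, he⟩, ?_⟩
  refine TrivSqZeroExt.ext ?_ ?_ <;> simp

theorem mul_incl (e : E h) (m : M) : e * incl h m = incl h (proj h e • m) := by
  obtain ⟨z, rfl⟩ := Ideal.Quotient.mk_surjective e
  rw [incl_apply, incl_apply, ← map_mul, proj_mk, algebraMap_smul]
  congr 1
  refine TrivSqZeroExt.ext ?_ ?_ <;> simp

variable {h}

/-- The map of extensions induced by a map of modules. -/
def map (f : M →ₗ[B] M') {h' : rel P B →ₗ[P] M'} (e : ∀ g, f (h g) = h' g) : E h →+* E h' :=
  Ideal.Quotient.lift (J h)
    ((mkE h').comp (TrivSqZeroExt.map (f.restrictScalars P)).toRingHom) (by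
      rintro _ ⟨g, rfl⟩
      refine Ideal.Quotient.eq_zero_iff_mem.2 ⟨g, ?_⟩
      simp [e])

@[simp] theorem map_mk (f : M →ₗ[B] M') {h' : rel P B →ₗ[P] M'} (e : ∀ g, f (h g) = h' g)
    (z : TrivSqZeroExt P M) :
    map f e (mkE h z) = mkE h' (inl z.fst + inr (f z.snd)) := by
  refine congrArg (mkE h') (TrivSqZeroExt.ext ?_ ?_) <;> simp

theorem proj_map (f : M →ₗ[B] M') {h' : rel P B →ₗ[P] M'} (e : ∀ g, f (h g) = h' g) (z : E h) :
    proj h' (map f e z) = proj h z := by
  obtain ⟨z, rfl⟩ := Ideal.Quotient.mk_surjective z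
  simp

/-- The translation by a derivation. -/
def shiftHom {k : Type u} [CommRing k] [Algebra k P] [Module k M] [IsScalarTower k P M]
    (D : Derivation k P M) : TrivSqZeroExt P M →+* TrivSqZeroExt P M where
  toFun z := inl z.fst + inr (z.snd + D z.fst)
  map_one' := TrivSqZeroExt.ext (by simp) (by simp)
  map_zero' := TrivSqZeroExt.ext (by simp) (by simp)
  map_add' a b := TrivSqZeroExt.ext (by simp) (by simp; abel)
  map_mul' a b := TrivSqZeroExt.ext (by simp) (by simp [smul_add]; abel)

/-- The extensions of `h` and of `h + D` are isomorphic. -/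
def shift {k : Type u} [CommRing k] [Algebra k P] [Module k M] [IsScalarTower k P M]
    (D : Derivation k P M) {h' : rel P B →ₗ[P] M} (e : ∀ g : rel P B, h g + D g.1 = h' g) :
    E h →+* E h' :=
  Ideal.Quotient.lift (J h) ((mkE h').comp (shiftHom D)) (by
    rintro _ ⟨g, rfl⟩
    refine Ideal.Quotient.eq_zero_iff_mem.2 ⟨g, ?_⟩
    refine TrivSqZeroExt.ext ?_ ?_ <;> simp [shiftHom, e])

@[simp] theorem shift_mk {k : Type u} [CommRing k] [Algebra k P] [Module k M] [IsScalarTower k P M]
    (D : Derivation k P M) {h' : rel P B →ₗ[P] M} (e : ∀ g : rel P B, h g + D g.1 = h' g)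
    (z : TrivSqZeroExt P M) :
    shift D e (mkE h z) = mkE h' (inl z.fst + inr (z.snd + D z.fst)) := rfl

section Coeff

variable {k : Type u} [Field k] [Algebra k P] [Algebra k B] [IsScalarTower k P B]
  {V : Type u} [AddCommGroup V] [Module k V] [Module kᵐᵒᵖ V] [IsCentralScalar k V] [Module k M] [IsScalarTower k P M] (j : V →ₗ[k] M)

variable (h) in
/-- The structure map `k ⊕ V → E`. -/
def coeff : TrivSqZeroExt k V →+* E h :=
  (mkE h).comp
    { toFun := fun z => inl (algebraMap k P z.fst) + inr (j z.snd)
      map_one' := TrivSqZeroExt.ext (by simp) (by simp)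
      map_zero' := TrivSqZeroExt.ext (by simp) (by simp)
      map_add' := fun a b => TrivSqZeroExt.ext (by simp) (by simp)
      map_mul' := fun a b => TrivSqZeroExt.ext (by simp) (by simp [algebraMap_smul]) }

theorem coeff_apply (z : TrivSqZeroExt k V) :
    coeff h j z = mkE h (inl (algebraMap k P z.fst) + inr (j z.snd)) := rfl

theorem proj_coeff (z : TrivSqZeroExt k V) : proj h (coeff h j z) = algebraMap k B z.fst := by
  rw [coeff_apply, proj_mk, IsScalarTower.algebraMap_apply k P B]
  simp

theorem coeff_eq (z : TrivSqZeroExt k V) :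
    coeff h j z = mkE h (inl (algebraMap k P z.fst)) + incl h (j z.snd) := by
  rw [coeff_apply, map_add, incl_apply]

theorem shift_coeff (D : Derivation k P M) {h' : rel P B →ₗ[P] M} (e : ∀ g : rel P B, h g + D g.1 = h' g)
    (z : TrivSqZeroExt k V) : shift D e (coeff h j z) = coeff h' j z := by
  rw [coeff_apply, coeff_apply, shift_mk]
  congr 1
  exact TrivSqZeroExt.ext (by simp) (by simp)

/-- `B`-linear combinations of the image of `V`. -/
def combV {κ : Type u} (b : κ → B) (v : κ →₀ V) : M := v.sum fun i x => b i • j x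

theorem bijective_comb {κ : Type u} (b : κ → B) (hb : Function.Bijective (comb (algebraMap k B) b))
    (hj : Function.Bijective (combV j b)) (p : κ → P) (hp : ∀ i, algebraMap P B (p i) = b i) :
    Function.Bijective (comb (coeff h j) fun i => mkE h (inl (p i))) := by
  have hadd : ∀ v w : κ →₀ TrivSqZeroExt k V, comb (coeff h j) (fun i => mkE h (inl (p i))) (v + w) =
      comb (coeff h j) (fun i => mkE h (inl (p i))) v + comb (coeff h j) (fun i => mkE h (inl (p i))) w :=
    fun v w => Finsupp.sum_add_index' (fun i => by rw [map_zero, zero_mul])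
      fun i x y => by rw [map_add, add_mul]
  have hq : ∀ v : κ →₀ TrivSqZeroExt k V, proj h (comb (coeff h j) (fun i => mkE h (inl (p i))) v) =
      comb (algebraMap k B) b (v.mapRange TrivSqZeroExt.fst TrivSqZeroExt.fst_zero) := fun v => by
    rw [comb, comb, map_finsuppSum, Finsupp.sum_mapRange_index fun i => by rw [map_zero, zero_mul]]
    exact Finsupp.sum_congr fun i _ => by rw [map_mul, proj_coeff, proj_mk, fst_inl, hp]
  have hz : ∀ w : κ →₀ V, comb (coeff h j) (fun i => mkE h (inl (p i)))
      (w.mapRange (inr : V → TrivSqZeroExt k V) (inr_zero k)) = incl h (combV j b w) := fun w => by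
    rw [comb, combV, map_finsuppSum, Finsupp.sum_mapRange_index fun i => by rw [map_zero, zero_mul]]
    refine Finsupp.sum_congr fun i _ => ?_
    rw [coeff_eq, fst_inr, snd_inr, map_zero, inl_zero, map_zero, zero_add, mul_comm, mul_incl,
      proj_mk, fst_inl, hp]
  refine ⟨fun v v' hv => ?_, fun e => ?_⟩
  · have h1 := hb.1 ((hq v).symm.trans ((congrArg (proj h) hv).trans (hq v')))
    have h1' : ∀ i, (v i).fst = (v' i).fst := fun i => DFunLike.congr_fun h1 i
    have h2 : v - v' = ((v - v').mapRange TrivSqZeroExt.snd TrivSqZeroExt.snd_zero).mapRange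
        (inr : V → TrivSqZeroExt k V) (inr_zero k) :=
      Finsupp.ext fun i => TrivSqZeroExt.ext (by simp [h1' i]) (by simp)
    have h3 : comb (coeff h j) (fun i => mkE h (inl (p i))) (v - v') = 0 := by
      rw [← add_left_inj (comb (coeff h j) (fun i => mkE h (inl (p i))) v'), ← hadd, sub_add_cancel, zero_add]
      exact hv
    rw [h2, hz, ← map_zero (incl h)] at h3
    have h4 := hj.1 ((incl_injective h h3).trans (by simp [combV]) : _ = combV j b 0)
    rw [← sub_eq_zero, h2, h4, Finsupp.mapRange_zero]
  · obtain ⟨c, hc⟩ := hb.2 (proj h e)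
    have hc' : proj h (e - comb (coeff h j) (fun i => mkE h (inl (p i)))
        (c.mapRange (inl : k → TrivSqZeroExt k V) (inl_zero V))) = 0 := by
      rw [map_sub, hq, show (c.mapRange (inl : k → TrivSqZeroExt k V) (inl_zero V)).mapRange
          TrivSqZeroExt.fst TrivSqZeroExt.fst_zero = c from Finsupp.ext fun i => rfl, hc, sub_self]
    obtain ⟨m, hm⟩ := exists_incl h _ hc'
    obtain ⟨w, rfl⟩ := hj.2 m
    exact ⟨c.mapRange (inl : k → TrivSqZeroExt k V) (inl_zero V) + w.mapRange inr (inr_zero k), by
      rw [hadd, hz, hm, add_sub_cancel]⟩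

end Coeff

end Groth.Agent.DefGlueLib.SqExt
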