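import Groth.Agent.DefGlueLib.Schless
import Groth.Agent.DefGlueLib.SqExt
import Groth.Agent.ArtFunLib.Tangent
import Mathlib.Algebra.MvPolynomial.Derivation
import Mathlib.RingTheory.FiniteType

/-! The tangent space of the deformation functor of an affine scheme of finite type. -/

universe u

open CategoryTheory CategoryTheory.Limits AlgebraicGeometry Opposite ArtFun

noncomputable section

namespace Groth.Agent.DefGlueLib

open Scheme (AffineZariskiSite)

attribute [local instance 10] SqExt.opModule SqExt.opCentral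

variable {Λ k : Type u} [CommRing Λ] [Field k] [Algebra Λ k]
variable {X : Scheme.{u}} [IsAffine X] {x : X ⟶ Art.specPt k} {A A' : Art Λ k}

/-- The whole of an affine scheme. -/
abbrev topAZ (X : Scheme.{u}) [IsAffine X] : AffineZariskiSite X := ⟨⊤, isAffineOpen_top X⟩

theorem isoSpec_SpecMap_str (x : X ⟶ Art.specPt k) :
    X.isoSpec.hom ≫ Spec.map (CommRingCat.ofHom (str x (topAZ X))) = x := by
  rw [SpecMap_str]
  change X.isoSpec.hom ≫ (isAffineOpen_top X).fromSpec ≫ x = x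
  rw [IsAffineOpen.fromSpec_top, Iso.hom_inv_id_assoc]

section OfRing

variable {R : Type u} [CommRing R] {a : A →+* R} {q : R →+* Γ(X, ⊤)}

/-- The deformation given by an algebra. -/
def defOf (hd : IsDef A (str x (topAZ X)) a q) : DefSch X x A where
  total := Spec (CommRingCat.of R)
  f := Spec.map (CommRingCat.ofHom a)
  flat := (HasRingHomProperty.Spec_iff (P := @AlgebraicGeometry.Flat)).2 hd.flat
  i := X.isoSpec.hom ≫ Spec.map (CommRingCat.ofHom q)
  isPullback := by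
    have h : IsPullback (Spec.map (CommRingCat.ofHom q)) (Spec.map (CommRingCat.ofHom (str x (topAZ X))))
        (Spec.map (CommRingCat.ofHom a)) (Art.specRes A) :=
      AffDefLib.isPullback_Spec_of_ker a A.res.toRingHom q (str x (topAZ X)) (RingHom.ext hd.comm)
        A.res_surjective hd.surjective (by
          rw [show RingHom.ker A.res.toRingHom = IsLocalRing.maximalIdeal A from
            Ideal.ext fun c => (Art.mem_maximalIdeal_iff A c).symm]
          exact hd.ker_le)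
    refine h.of_iso X.isoSpec.symm (CategoryTheory.Iso.refl _) (CategoryTheory.Iso.refl _) (CategoryTheory.Iso.refl _) ?_ ?_ ?_ ?_
    · simp
    · refine (Category.comp_id _).trans ?_
      refine Eq.trans ?_ (congrArg (X.isoSpec.symm.hom ≫ ·) (isoSpec_SpecMap_str x))
      exact (X.isoSpec.inv_hom_id_assoc _).symm
    · simp
    · simp

variable {R' : Type u} [CommRing R'] {a' : A' →+* R'} {q' : R' →+* Γ(X, ⊤)}

/-- A semilinear map of algebras gives a morphism of deformations. -/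
def ovOf (g : A ⟶ A') (hd : IsDef A (str x (topAZ X)) a q) (hd' : IsDef A' (str x (topAZ X)) a' q')
    (φ : R →+* R') (ha : ∀ c, φ (a c) = a' (g c)) (hq : ∀ r, q' (φ r) = q r) :
    Ov g (defOf hd) (defOf hd') where
  hom := Spec.map (CommRingCat.ofHom φ)
  w := by
    refine (Spec.map_comp _ _).symm.trans ((congrArg Spec.map ?_).trans (Spec.map_comp _ _))
    exact CommRingCat.hom_ext (RingHom.ext ha)
  i_hom := (Category.assoc _ _ _).trans (congrArg (X.isoSpec.hom ≫ ·)
    ((Spec.map_comp _ _).symm.trans (congrArg Spec.map (CommRingCat.hom_ext (RingHom.ext hq)))))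

theorem map_cl (g : A ⟶ A') (hd : IsDef A (str x (topAZ X)) a q) (hd' : IsDef A' (str x (topAZ X)) a' q')
    (φ : R →+* R') (ha : ∀ c, φ (a c) = a' (g c)) (hq : ∀ r, q' (φ r) = q r) :
    (defFunctor X x).map g (defOf hd).cl = (defOf hd').cl :=
  cl_eq_iff.2 ⟨(ovOf g hd hd' φ ha hq).toBC.symm⟩

end OfRing

theorem exists_defOf (ξ : DefSch X x A) :
    ∃ (R : Type u) (_ : CommRing R) (a : A →+* R) (q : R →+* Γ(X, ⊤))
      (hd : IsDef A (str x (topAZ X)) a q), ξ.cl = (defOf hd).cl := by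
  have hpre : ξ.i ⁻¹ᵁ (⊤ : ξ.total.Opens) = (topAZ X).toOpens := Scheme.Hom.preimage_top _
  have hd := isDef_sec ξ (topAZ X) hpre
  have hV : IsAffineOpen (⊤ : ξ.total.Opens) :=
    MorLib.Thick.isAffineOpen_of_preimage ξ.i ξ.i.surjective (hpre ▸ (topAZ X).2)
  refine ⟨_, inferInstance, _, _, hd, (cl_eq_iff.2 ⟨Ov.toIso (ξ := ξ) (η := defOf hd) ?_⟩).symm⟩
  refine { hom := hV.fromSpec, w := ?_, i_hom := ?_ }
  · rw [Art.specMap_id]
    exact (SpecMap_secA ξ hV).symm.trans (Category.comp_id _).symm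
  · refine (Category.assoc _ _ _).trans ?_
    refine (congrArg (X.isoSpec.hom ≫ ·)
      (IsAffineOpen.SpecMap_appLE_fromSpec ξ.i hV (topAZ X).2 hpre.ge)).trans ?_
    change X.isoSpec.hom ≫ (isAffineOpen_top X).fromSpec ≫ ξ.i = ξ.i
    rw [IsAffineOpen.fromSpec_top, Iso.hom_inv_id_assoc]

section Tangent

variable {P : Type u} [CommRing P] [Algebra k P] [Algebra k Γ(X, ⊤)] [Algebra P Γ(X, ⊤)]
  [IsScalarTower k P Γ(X, ⊤)]
variable {M M' : Type u} [AddCommGroup M] [Module P M] [Module Γ(X, ⊤) M] [IsScalarTower P Γ(X, ⊤) M]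
  [Module k M] [IsScalarTower k P M]
  [AddCommGroup M'] [Module P M'] [Module Γ(X, ⊤) M'] [IsScalarTower P Γ(X, ⊤) M']
  [Module k M'] [IsScalarTower k P M']
variable (hc : ∀ c : k, algebraMap k Γ(X, ⊤) c = str x (topAZ X) c)
variable (hs : Function.Surjective (algebraMap P Γ(X, ⊤)))

variable (Λ) in
/-- The structure map over `k[ε]`. -/
abbrev dualC (h : SqExt.rel P Γ(X, ⊤) →ₗ[P] M) (j : k →ₗ[k] M) : (Art.dual Λ k) →+* SqExt.E h :=
  SqExt.coeff h j

variable (Λ) in
/-- The structure map over `k[ε₁, ε₂]`. -/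
abbrev dual2C (h : SqExt.rel P Γ(X, ⊤) →ₗ[P] M) (j : (k × k) →ₗ[k] M) : (Art.dual2 Λ k) →+* SqExt.E h :=
  SqExt.coeff h j

include hc hs in
theorem isDef_dual (h : SqExt.rel P Γ(X, ⊤) →ₗ[P] M) (j : k →ₗ[k] M)
    (hj : ∀ (κ : Type u) (b : κ → Γ(X, ⊤)), Function.Bijective (comb (algebraMap k Γ(X, ⊤)) b) →
      Function.Bijective (SqExt.combV j b)) :
    IsDef (Art.dual Λ k) (str x (topAZ X)) (dualC Λ h j) (SqExt.proj h) := by
  let b := Module.Basis.ofVectorSpace k Γ(X, ⊤)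
  have hcs : algebraMap k Γ(X, ⊤) = str x (topAZ X) := RingHom.ext hc
  have hb : Function.Bijective (comb (algebraMap k Γ(X, ⊤)) b) := by
    rw [show comb (algebraMap k Γ(X, ⊤)) b = b.repr.symm from funext fun v => by rw [comb_eq, b.repr_symm_apply]]
    exact b.repr.symm.bijective
  choose p hp using fun i => hs (b i)
  refine isDef_of_comb (e := fun i => SqExt.mkE h (TrivSqZeroExt.inl (p i))) ?_ (fun z => ?_)
    (SqExt.bijective_comb j b hb (hj _ b hb) p hp)
  · rw [← hcs, show (SqExt.proj h) ∘ (fun i => SqExt.mkE h (TrivSqZeroExt.inl (p i))) = b from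
      funext fun i => by simp [hp]]
    exact hb
  · rw [← hcs]
    exact SqExt.proj_coeff j z

include hc hs in
theorem isDef_dual2 (h : SqExt.rel P Γ(X, ⊤) →ₗ[P] M) (j : (k × k) →ₗ[k] M)
    (hj : ∀ (κ : Type u) (b : κ → Γ(X, ⊤)), Function.Bijective (comb (algebraMap k Γ(X, ⊤)) b) →
      Function.Bijective (SqExt.combV j b)) :
    IsDef (Art.dual2 Λ k) (str x (topAZ X)) (dual2C Λ h j) (SqExt.proj h) := by
  let b := Module.Basis.ofVectorSpace k Γ(X, ⊤)
  have hcs : algebraMap k Γ(X, ⊤) = str x (topAZ X) := RingHom.ext hc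
  have hb : Function.Bijective (comb (algebraMap k Γ(X, ⊤)) b) := by
    rw [show comb (algebraMap k Γ(X, ⊤)) b = b.repr.symm from funext fun v => by rw [comb_eq, b.repr_symm_apply]]
    exact b.repr.symm.bijective
  choose p hp using fun i => hs (b i)
  refine isDef_of_comb (e := fun i => SqExt.mkE h (TrivSqZeroExt.inl (p i))) ?_ (fun z => ?_)
    (SqExt.bijective_comb j b hb (hj _ b hb) p hp)
  · rw [← hcs, show (SqExt.proj h) ∘ (fun i => SqExt.mkE h (TrivSqZeroExt.inl (p i))) = b from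
      funext fun i => by simp [hp]]
    exact hb
  · rw [← hcs]
    exact SqExt.proj_coeff j z

theorem bijective_combV_one (κ : Type u) (b : κ → Γ(X, ⊤))
    (hb : Function.Bijective (comb (algebraMap k Γ(X, ⊤)) b)) :
    Function.Bijective (SqExt.combV (Algebra.linearMap k Γ(X, ⊤)) b) := by
  rw [show SqExt.combV (Algebra.linearMap k Γ(X, ⊤)) b = comb (algebraMap k Γ(X, ⊤)) b from
    funext fun v => Finsupp.sum_congr fun i _ => mul_comm _ _]
  exact hb

theorem bijective_combV_two (κ : Type u) (b : κ → Γ(X, ⊤))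
    (hb : Function.Bijective (comb (algebraMap k Γ(X, ⊤)) b)) :
    Function.Bijective (SqExt.combV ((Algebra.linearMap k Γ(X, ⊤)).prodMap (Algebra.linearMap k Γ(X, ⊤))) b) := by
  let j := Algebra.linearMap k Γ(X, ⊤)
  have h1 : ∀ v : κ →₀ k × k, (SqExt.combV (j.prodMap j) b v).1 = SqExt.combV j b (v.mapRange Prod.fst rfl) :=
    fun v => by
      rw [SqExt.combV, SqExt.combV, Finsupp.sum_mapRange_index fun i => by rw [map_zero, smul_zero]]
      exact map_finsuppSum (AddMonoidHom.fst Γ(X, ⊤) Γ(X, ⊤)) v fun i y => b i • (j.prodMap j) y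
  have h2 : ∀ v : κ →₀ k × k, (SqExt.combV (j.prodMap j) b v).2 = SqExt.combV j b (v.mapRange Prod.snd rfl) :=
    fun v => by
      rw [SqExt.combV, SqExt.combV, Finsupp.sum_mapRange_index fun i => by rw [map_zero, smul_zero]]
      exact map_finsuppSum (AddMonoidHom.snd Γ(X, ⊤) Γ(X, ⊤)) v fun i y => b i • (j.prodMap j) y
  have hj := bijective_combV_one κ b hb
  refine ⟨fun v w hvw => ?_, fun m => ?_⟩
  · have e1 := hj.1 ((h1 v).symm.trans ((congrArg Prod.fst hvw).trans (h1 w)))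
    have e2 := hj.1 ((h2 v).symm.trans ((congrArg Prod.snd hvw).trans (h2 w)))
    exact Finsupp.ext fun i => Prod.ext (DFunLike.congr_fun e1 i) (DFunLike.congr_fun e2 i)
  · obtain ⟨v₁, hv₁⟩ := hj.2 m.1
    obtain ⟨v₂, hv₂⟩ := hj.2 m.2
    refine ⟨Finsupp.zipWith Prod.mk rfl v₁ v₂, Prod.ext ((h1 _).trans ?_) ((h2 _).trans ?_)⟩
    · rw [← hv₁]
      exact congrArg _ (Finsupp.ext fun i => rfl)
    · rw [← hv₂]
      exact congrArg _ (Finsupp.ext fun i => rfl)

variable (Λ) in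
/-- The tangent vector attached to `I → Γ(X, ⊤)`. -/
def tanOf (h : SqExt.rel P Γ(X, ⊤) →ₗ[P] Γ(X, ⊤)) : TangentSpace (defFunctor (Λ := Λ) X x) :=
  (defOf (isDef_dual hc hs h (Algebra.linearMap k Γ(X, ⊤)) bijective_combV_one)).cl

theorem map_coeff {V V' : Type u} [AddCommGroup V] [Module k V] [Module kᵐᵒᵖ V] [IsCentralScalar k V]
    [AddCommGroup V'] [Module k V'] [Module kᵐᵒᵖ V'] [IsCentralScalar k V']
    {h : SqExt.rel P Γ(X, ⊤) →ₗ[P] M} {h' : SqExt.rel P Γ(X, ⊤) →ₗ[P] M'} (F : M →ₗ[Γ(X, ⊤)] M')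
    (e : ∀ g, F (h g) = h' g) (j : V →ₗ[k] M) (j' : V' →ₗ[k] M') (f₀ : V →ₗ[k] V')
    (hj : ∀ v, F (j v) = j' (f₀ v)) (z : TrivSqZeroExt k V) (z' : TrivSqZeroExt k V')
    (h₁ : z'.fst = z.fst) (h₂ : z'.snd = f₀ z.snd) :
    SqExt.map F e (SqExt.coeff h j z) = SqExt.coeff h' j' z' := by
  rw [SqExt.coeff_apply, SqExt.coeff_apply, SqExt.map_mk, h₁, h₂]
  congr 1
  exact TrivSqZeroExt.ext (by simp) (by simp [hj])

theorem tanOf_smul (c : k) (h : SqExt.rel P Γ(X, ⊤) →ₗ[P] Γ(X, ⊤)) :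
    (defFunctor X x).map (Art.scale c) (tanOf Λ hc hs h) = tanOf Λ hc hs (c • h) :=
  map_cl (Art.scale c) _ _
    (SqExt.map (algebraMap k Γ(X, ⊤) c • LinearMap.id) fun g => (Algebra.smul_def c (h g)).symm)
    (fun z => map_coeff _ _ _ _ (c • LinearMap.id) (fun v => (map_mul (algebraMap k Γ(X, ⊤)) c v).symm)
      z _ rfl rfl)
    (SqExt.proj_map _ _)

theorem exists_tanOf_pair (h₁ h₂ : SqExt.rel P Γ(X, ⊤) →ₗ[P] Γ(X, ⊤)) :
    ∃ z, (defFunctor X x).map Art.pr₁ z = tanOf Λ hc hs h₁ ∧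
      (defFunctor X x).map Art.pr₂ z = tanOf Λ hc hs h₂ ∧
      (defFunctor X x).map Art.plus z = tanOf Λ hc hs (h₁ + h₂) := by
  let j := (Algebra.linearMap k Γ(X, ⊤)).prodMap (Algebra.linearMap k Γ(X, ⊤))
  have hd := isDef_dual2 (Λ := Λ) hc hs (h₁.prod h₂) j bijective_combV_two
  refine ⟨(defOf hd).cl, ?_, ?_, ?_⟩
  · exact map_cl Art.pr₁ hd _ (SqExt.map (LinearMap.fst Γ(X, ⊤) Γ(X, ⊤) Γ(X, ⊤)) fun g => rfl)
      (fun z => map_coeff _ _ j (Algebra.linearMap k Γ(X, ⊤)) (LinearMap.fst k k k) (fun v => rfl) z _ rfl rfl) (SqExt.proj_map _ _)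
  · exact map_cl Art.pr₂ hd _ (SqExt.map (LinearMap.snd Γ(X, ⊤) Γ(X, ⊤) Γ(X, ⊤)) fun g => rfl)
      (fun z => map_coeff _ _ j (Algebra.linearMap k Γ(X, ⊤)) (LinearMap.snd k k k) (fun v => rfl) z _ rfl rfl) (SqExt.proj_map _ _)
  · exact map_cl Art.plus hd _
      (SqExt.map (LinearMap.fst Γ(X, ⊤) Γ(X, ⊤) Γ(X, ⊤) + LinearMap.snd Γ(X, ⊤) Γ(X, ⊤) Γ(X, ⊤)) fun g => rfl)
      (fun z => map_coeff _ _ j (Algebra.linearMap k Γ(X, ⊤)) (LinearMap.fst k k k + LinearMap.snd k k k)
        (fun v => (map_add (algebraMap k Γ(X, ⊤)) v.1 v.2).symm) z _ rfl rfl) (SqExt.proj_map _ _)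

theorem tanOf_shift (h h' : SqExt.rel P Γ(X, ⊤) →ₗ[P] Γ(X, ⊤)) (D : Derivation k P Γ(X, ⊤))
    (e : ∀ g : SqExt.rel P Γ(X, ⊤), h g + D g.1 = h' g) : tanOf Λ hc hs h = tanOf Λ hc hs h' :=
  (cl_eq_iff.2 ⟨Ov.toIso (ovOf (𝟙 (Art.dual Λ k))
    (isDef_dual hc hs h (Algebra.linearMap k Γ(X, ⊤)) bijective_combV_one)
    (isDef_dual hc hs h' (Algebra.linearMap k Γ(X, ⊤)) bijective_combV_one) (SqExt.shift D e)
    (fun z => SqExt.shift_coeff _ D e z)
    (fun r => by
      obtain ⟨r, rfl⟩ := Ideal.Quotient.mk_surjective r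
      simp))⟩).symm

theorem tanOf_surjective
    (hlift : ∀ {R : Type u} [CommRing R] [Algebra k R] (q : R →ₐ[k] Γ(X, ⊤)), Function.Surjective q →
      ∃ ψ : P →ₐ[k] R, q.comp ψ = IsScalarTower.toAlgHom k P Γ(X, ⊤))
    (t : TangentSpace (defFunctor (Λ := Λ) X x)) : ∃ h, tanOf Λ hc hs h = t := by
  obtain ⟨ξ, hξ⟩ := cl_surjective (X := X) (x := x) (A := Art.dual Λ k) t
  obtain ⟨R, _, a, q, hd, hR⟩ := exists_defOf ξ
  let _ : Algebra k R := (a.comp (algebraMap k (DualNumber k))).toAlgebra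
  let qA : R →ₐ[k] Γ(X, ⊤) :=
    { q with commutes' := fun c => (hd.comm (algebraMap k (DualNumber k) c)).trans (hc c).symm }
  obtain ⟨ψ, hψ⟩ := hlift qA hd.surjective
  let a₀ : DualNumber k →+* R := a
  let eps : R := a₀ DualNumber.eps
  have heps2 : eps * eps = 0 :=
    (map_mul a₀ _ _).symm.trans ((congrArg a₀ DualNumber.eps_mul_eps).trans (map_zero a₀))
  have hker : ∀ r, q r = 0 → ∃ r', r = eps * r' := fun r hr => by
    have h1 : r ∈ (IsLocalRing.maximalIdeal (DualNumber k)).map a₀ := hd.ker_le (RingHom.mem_ker.2 hr)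
    rw [DualNumber.maximalIdeal_eq_span_singleton_eps, Ideal.map_span, Set.image_singleton,
      Ideal.mem_span_singleton] at h1
    exact h1
  have hqeps : q eps = 0 := (hd.comm _).trans (map_zero _)
  -- division by ε
  choose sec hsec using hd.surjective
  have hmul : ∀ r r', q r = q r' → eps * r = eps * r' := fun r r' hrr => by
    obtain ⟨s, hs'⟩ := hker (r - r') (by rw [map_sub, hrr, sub_self])
    rw [← sub_eq_zero, ← mul_sub, hs', ← mul_assoc, heps2, zero_mul]
  have hφ0 : ∀ z, q (eps * sec z) = 0 := fun z => by rw [map_mul, hqeps, zero_mul]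
  have hφadd : ∀ z z', eps * sec (z + z') = eps * sec z + eps * sec z' := fun z z' => by
    rw [← mul_add]
    exact hmul _ _ (by rw [map_add, hsec, hsec, hsec])
  have hφmul : ∀ r z, eps * sec (q r * z) = r * (eps * sec z) := fun r z => by
    rw [mul_left_comm]
    exact hmul _ _ (by rw [map_mul, hsec, hsec])
  -- injectivity of multiplication by ε, from flatness
  have hinj : ∀ z, eps * sec z = 0 → z = 0 := fun z hz => by
    obtain ⟨κ, e, hb⟩ := hd.exists_basis
    obtain ⟨v, hv⟩ : ∃ v : κ →₀ DualNumber k, comb a₀ e v = sec z := (hd.bijective_comb hb).2 (sec z)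
    have h1 : comb a₀ e (v.mapRange (fun w : DualNumber k => DualNumber.eps * w) (mul_zero _)) =
        comb a₀ e 0 := by
      rw [show comb a₀ e (0 : κ →₀ DualNumber k) = 0 from Finsupp.sum_zero_index, ← hz, ← hv, comb, comb,
        Finsupp.mul_sum, Finsupp.sum_mapRange_index fun i => by rw [map_zero, zero_mul]]
      exact Finsupp.sum_congr fun i _ => by rw [← mul_assoc, ← map_mul]
    have h2 : v.mapRange (fun w : DualNumber k => DualNumber.eps * w) (mul_zero _) = 0 :=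
      (hd.bijective_comb hb).1 h1
    have h3 : ∀ i, (v i).fst = 0 := fun i => by
      have h4 := congrArg TrivSqZeroExt.snd (DFunLike.congr_fun h2 i)
      simpa using h4
    rw [← hsec z, ← hv, comb, map_finsuppSum]
    exact Finset.sum_eq_zero fun i _ => by
      dsimp only
      rw [map_mul, show q (a₀ (v i)) = str x (topAZ X) (v i).fst from hd.comm _, h3 i, map_zero, zero_mul]
  have hq' : ∀ p, q (ψ p) = algebraMap P Γ(X, ⊤) p := fun p => AlgHom.congr_fun hψ p
  choose div hdiv using fun g : SqExt.rel P Γ(X, ⊤) => hker (ψ g.1) ((hq' g.1).trans g.2)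
  let φ : Γ(X, ⊤) →+ R := AddMonoidHom.mk' (fun z => eps * sec z) hφadd
  have hφdiv : ∀ g, φ (q (div g)) = ψ g.1 := fun g => (hmul _ _ (hsec _)).trans (hdiv g).symm
  have hφinj : Function.Injective φ := (injective_iff_map_eq_zero φ).2 hinj
  let h : SqExt.rel P Γ(X, ⊤) →ₗ[P] Γ(X, ⊤) :=
    { toFun := fun g => - q (div g)
      map_add' := fun g g' => hφinj (by
        simp only [map_neg, map_add, hφdiv, Submodule.coe_add]
        abel)
      map_smul' := fun p g => hφinj (by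
        have e1 : φ (algebraMap P Γ(X, ⊤) p * q (div g)) = ψ p * ψ g.1 := by
          rw [← hq' p, ← hφdiv g]
          exact hφmul _ _
        rw [RingHom.id_apply, show p • -q (div g) = -(algebraMap P Γ(X, ⊤) p * q (div g)) by
          rw [Algebra.smul_def, mul_neg], map_neg, map_neg, hφdiv, e1, Submodule.coe_smul, smul_eq_mul,
          map_mul]) }
  refine ⟨h, (hξ.symm.trans (hR.trans (cl_eq_iff.2 ⟨?_⟩))).symm⟩
  let Φ₀ : TrivSqZeroExt P Γ(X, ⊤) →+* R :=
    { toFun := fun z => ψ z.fst + φ z.snd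
      map_one' := by simp
      map_zero' := by simp
      map_add' := fun z w => by simp only [TrivSqZeroExt.fst_add, TrivSqZeroExt.snd_add, map_add]; abel
      map_mul' := fun z w => by
        have e1 : ∀ p b, φ (p • b) = ψ p * φ b := fun p b => by
          rw [Algebra.smul_def, ← hq' p]
          exact hφmul _ _
        have e2 : φ z.snd * φ w.snd = 0 := by
          change eps * sec _ * (eps * sec _) = 0
          rw [mul_mul_mul_comm, heps2, zero_mul]
        have e1' : ∀ p b, φ (MulOpposite.op p • b) = ψ p * φ b := fun p b => e1 p b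
        simp only [TrivSqZeroExt.fst_mul, TrivSqZeroExt.snd_mul, map_add, map_mul, e1, e1']
        linear_combination -e2 }
  let Φ : SqExt.E h →+* R := Ideal.Quotient.lift (SqExt.J h) Φ₀ (by
    rintro _ ⟨g, rfl⟩
    change ψ (_ : TrivSqZeroExt P Γ(X, ⊤)).fst + φ (_ : TrivSqZeroExt P Γ(X, ⊤)).snd = 0
    simp only [TrivSqZeroExt.fst_add, TrivSqZeroExt.fst_inl, TrivSqZeroExt.fst_inr, TrivSqZeroExt.snd_add,
      TrivSqZeroExt.snd_inl, TrivSqZeroExt.snd_inr, add_zero, zero_add]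
    change ψ g.1 + φ (- q (div g)) = 0
    rw [map_neg, hφdiv, add_neg_cancel])
  refine Ov.toIso (ovOf (𝟙 (Art.dual Λ k)) (isDef_dual hc hs h (Algebra.linearMap k Γ(X, ⊤)) bijective_combV_one) hd
    Φ (fun z => ?_) (fun r => ?_))
  · change ψ (_ : TrivSqZeroExt P Γ(X, ⊤)).fst + φ (_ : TrivSqZeroExt P Γ(X, ⊤)).snd = a₀ z
    have hz : z = algebraMap k (DualNumber k) (TrivSqZeroExt.fst (z : DualNumber k)) +
        (DualNumber.eps : DualNumber k) * algebraMap k (DualNumber k) (TrivSqZeroExt.snd (z : DualNumber k)) :=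
      TrivSqZeroExt.ext (by simp [TrivSqZeroExt.algebraMap_eq_inl']) (by simp [TrivSqZeroExt.algebraMap_eq_inl'])
    conv_rhs => rw [hz, map_add, map_mul]
    simp
    refine congrArg₂ (· + ·) rfl (hmul _ _ ((hsec _).trans ((hc _).trans ?_)))
    exact (congrArg (str x (topAZ X)) (show (TrivSqZeroExt.snd (z : DualNumber k)) = (Art.dual Λ k).res
      (algebraMap k (DualNumber k) (TrivSqZeroExt.snd (z : DualNumber k))) from rfl)).trans (hd.comm _).symm
  · obtain ⟨r, rfl⟩ := Ideal.Quotient.mk_surjective r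
    change q (ψ r.fst + φ r.snd) = algebraMap P Γ(X, ⊤) r.fst
    rw [map_add, hq', show q (φ r.snd) = 0 from hφ0 _, add_zero]

variable (Λ) in
theorem exists_linearMap [T : TangentStr (defFunctor (Λ := Λ) X x)] :
    ∃ Θ : (SqExt.rel P Γ(X, ⊤) →ₗ[P] Γ(X, ⊤)) →ₗ[k] TangentSpace (defFunctor (Λ := Λ) X x),
      ∀ h, Θ h = tanOf Λ hc hs h :=
  ⟨{ toFun := tanOf Λ hc hs
     map_add' := fun h₁ h₂ => by
        obtain ⟨z, e₁, e₂, e₃⟩ := exists_tanOf_pair (Λ := Λ) hc hs h₁ h₂
        rw [← e₁, ← e₂, ← e₃]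
        exact (T.add_eq z).symm
     map_smul' := fun c h => (tanOf_smul hc hs c h).symm.trans (T.smul_eq c _).symm },
    fun _ => rfl⟩

end Tangent

end Groth.Agent.DefGlueLib
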