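import Groth.Prelude.Def_ArtFun2
import Groth.Agent.ArtFunLib.Basic
import Mathlib.RingTheory.RingHom.Flat
import Mathlib.RingTheory.Flat.Localization
import Mathlib.RingTheory.Localization.Away.Basic
import Mathlib.RingTheory.LocalRing.Module
import Mathlib.RingTheory.LocalRing.ResidueField.Basic
import Mathlib.LinearAlgebra.Finsupp.LinearCombination
import Mathlib.LinearAlgebra.Basis.VectorSpace
import Mathlib.RingTheory.Artinian.Module

/-! Deformations of algebras over Artinian objects: bases, morphisms, fibre products, localisation. -/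

universe u

open CategoryTheory ArtFun ArtFun.Art

namespace Groth.Agent.DefGlueLib

variable {Λ k : Type u} [CommRing Λ] [Field k] [Algebra Λ k] {C C' : Art Λ k}

/-- `a : C → R` with reduction `q : R → B₀` is a deformation of the `k`-algebra `c : k → B₀`. -/
structure IsDef (C : Art Λ k) {R B₀ : Type u} [CommRing R] [CommRing B₀] (c : k →+* B₀)
    (a : C →+* R) (q : R →+* B₀) : Prop where
  flat : a.Flat
  surjective : Function.Surjective q
  comm : ∀ x, q (a x) = c (C.res x)
  ker_le : RingHom.ker q ≤ (IsLocalRing.maximalIdeal C).map a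

/-- `Σ a(vᵢ) eᵢ`. -/
noncomputable def comb {A R : Type u} [CommRing A] [CommRing R] {κ : Type u} (a : A →+* R)
    (e : κ → R) (v : κ →₀ A) : R :=
  v.sum fun i x => a x * e i

theorem comb_eq {A R : Type u} [CommRing A] [CommRing R] [Algebra A R] {κ : Type u} (e : κ → R)
    (v : κ →₀ A) : comb (algebraMap A R) e v = Finsupp.linearCombination A e v := by
  rw [comb, Finsupp.linearCombination_apply]
  exact Finsupp.sum_congr fun i _ => (Algebra.smul_def _ _).symm

theorem map_comb {A A' R R' : Type u} [CommRing A] [CommRing A'] [CommRing R] [CommRing R']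
    {κ : Type u} {a : A →+* R} {a' : A' →+* R'} (φ : R →+* R') (g : A →+* A')
    (h : ∀ x, φ (a x) = a' (g x)) (e : κ → R) (v : κ →₀ A) :
    φ (comb a e v) = comb a' (φ ∘ e) (v.mapRange g (map_zero g)) := by
  rw [comb, comb, map_finsuppSum, Finsupp.sum_mapRange_index fun i => by rw [map_zero, zero_mul]]
  exact Finsupp.sum_congr fun i _ => by rw [map_mul, h]; rfl

theorem comb_mem {A R : Type u} [CommRing A] [CommRing R] {κ : Type u} (a : A →+* R)
    (e : κ → R) (v : κ →₀ A) {J : Ideal A} (h : ∀ i, v i ∈ J) : comb a e v ∈ J.map a :=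
  Ideal.sum_mem _ fun i _ => Ideal.mul_mem_right _ _ (Ideal.mem_map_of_mem a (h i))

theorem eq_top_of_sup_smul {R M : Type*} [CommRing R] [AddCommGroup M] [Module R M]
    (I : Ideal R) {n : ℕ} (hn : I ^ n = ⊥) (S : Submodule R M) (h : ⊤ ≤ S ⊔ I • ⊤) : S = ⊤ := by
  refine top_unique ?_
  have : ∀ m : ℕ, (⊤ : Submodule R M) ≤ S ⊔ I ^ m • ⊤ := fun m => by
    induction m with
    | zero => rw [pow_zero, Ideal.one_eq_top, Submodule.top_smul]; exact le_sup_right
    | succ m ih =>
      refine ih.trans (sup_le le_sup_left ?_)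
      calc I ^ m • ⊤ ≤ I ^ m • (S ⊔ I • ⊤) := Submodule.smul_mono le_rfl h
        _ ≤ S ⊔ I ^ (m + 1) • ⊤ := by
          rw [Submodule.smul_sup, ← Submodule.smul_assoc, Ideal.smul_eq_mul, ← pow_succ]
          exact sup_le_sup_right Submodule.smul_le_right _
  refine (this n).trans (sup_le le_rfl ?_)
  rw [hn, Submodule.bot_smul]
  exact bot_le

variable {R R' B₀ : Type u} [CommRing R] [CommRing R'] [CommRing B₀]
variable {c : k →+* B₀} {a : C →+* R} {q : R →+* B₀}

theorem IsDef.exists_basis (h : IsDef C c a q) :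
    ∃ (κ : Type u) (e : κ → R), Function.Bijective (comb c (q ∘ e)) := by
  let _ := c.toAlgebra
  let b := Module.Free.chooseBasis k B₀
  choose e he using fun i => h.surjective (b i)
  refine ⟨_, e, ?_⟩
  rw [show q ∘ e = b from funext he]
  change Function.Bijective (comb (algebraMap k B₀) b)
  rw [funext (comb_eq (A := k) b)]
  exact ⟨b.linearIndependent, LinearMap.range_eq_top.1 (by
    rw [Finsupp.range_linearCombination, b.span_eq])⟩

theorem IsDef.q_comb (h : IsDef C c a q) {κ : Type u} (e : κ → R) (v : κ →₀ C) :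
    q (comb a e v) = comb c (q ∘ e) (v.mapRange C.res (map_zero _)) :=
  map_comb q C.res.toRingHom h.comm e v

/-- Lifts of a basis of the closed fibre form a basis. -/
theorem IsDef.bijective_comb (h : IsDef C c a q) {κ : Type u} {e : κ → R}
    (he : Function.Bijective (comb c (q ∘ e))) : Function.Bijective (comb a e) := by
  let _ := a.toAlgebra
  have hflat : Module.Flat C R := h.flat
  have hcomb : comb a e = Finsupp.linearCombination C e := funext (comb_eq (A := C) e)
  have hm : ∀ x : R, x ∈ (IsLocalRing.maximalIdeal C • ⊤ : Submodule C R) ↔ q x = 0 := fun x => by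
    rw [Ideal.smul_top_eq_map, Submodule.restrictScalars_mem]
    refine ⟨fun hx => ?_, fun hx => h.ker_le hx⟩
    refine (Ideal.map_le_iff_le_comap.2 fun y hy => ?_ : _ ≤ RingHom.ker q) hx
    rw [Ideal.mem_comap, RingHom.mem_ker]
    exact (h.comm y).trans (by rw [(mem_maximalIdeal_iff C y).1 hy, map_zero])
  constructor
  · rw [hcomb]
    refine Module.IsLocalRing.linearIndependent_of_flat e (linearIndependent_iff.2 fun w hw => ?_)
    obtain ⟨v, rfl⟩ := Finsupp.mapRange_surjective (α := κ) (algebraMap C (IsLocalRing.ResidueField C))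
      (map_zero _) IsLocalRing.residue_surjective w
    have h1 : TensorProduct.mk C (IsLocalRing.ResidueField C) R 1
        (Finsupp.linearCombination C e v) = 0 := by
      refine Eq.trans ?_ hw
      rw [Finsupp.linearCombination_apply, Finsupp.linearCombination_apply,
        Finsupp.sum_mapRange_index, map_finsuppSum]
      · exact Finsupp.sum_congr fun i _ => by
          rw [map_smul, algebraMap_smul]
          rfl
      · exact fun i => zero_smul _ _
    have h2 : Finsupp.linearCombination C e v ∈ LinearMap.ker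
      (TensorProduct.mk C (C.carrier ⧸ IsLocalRing.maximalIdeal C) R 1) := h1
    rw [LinearMap.ker_tensorProductMk, hm, ← hcomb, h.q_comb] at h2
    have h3 : v.mapRange C.res (map_zero _) = 0 := he.1 (h2.trans (by simp [comb]))
    ext i
    rw [Finsupp.mapRange_apply, Finsupp.zero_apply, ← RingHom.mem_ker]
    rw [show RingHom.ker (algebraMap C (IsLocalRing.ResidueField C)) = IsLocalRing.maximalIdeal C from
      IsLocalRing.ker_residue, mem_maximalIdeal_iff]
    exact DFunLike.congr_fun h3 i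
  · obtain ⟨n, hn⟩ := IsArtinianRing.isNilpotent_jacobson_bot (R := C)
    rw [IsLocalRing.jacobson_eq_maximalIdeal ⊥ bot_ne_top] at hn
    have hs : Submodule.span C (Set.range e) = ⊤ := eq_top_of_sup_smul _ hn _ fun x _ => by
      obtain ⟨w, hw⟩ := he.2 (q x)
      obtain ⟨v, rfl⟩ := Finsupp.mapRange_surjective (α := κ) C.res (map_zero _) C.res_surjective w
      refine Submodule.mem_sup.2 ⟨Finsupp.linearCombination C e v, ?_,
        x - Finsupp.linearCombination C e v, (hm _).2 ?_, add_sub_cancel _ _⟩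
      · exact Finsupp.range_linearCombination (R := C) (v := e) ▸ LinearMap.mem_range_self _ v
      · rw [map_sub, ← hcomb, h.q_comb, hw, sub_self]
    intro x
    rw [hcomb]
    exact LinearMap.range_eq_top.1 (by rw [Finsupp.range_linearCombination, hs]) x

theorem isDef_of_comb {κ : Type u} {e : κ → R} (he : Function.Bijective (comb c (q ∘ e)))
    (hcomm : ∀ x, q (a x) = c (C.res x)) (hb : Function.Bijective (comb a e)) : IsDef C c a q := by
  have hq : ∀ v, q (comb a e v) = comb c (q ∘ e) (v.mapRange C.res (map_zero _)) :=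
    map_comb q C.res.toRingHom hcomm e
  refine ⟨?_, fun y => ?_, hcomm, fun x hx => ?_⟩
  · let _ := a.toAlgebra
    have hcomb : comb a e = Finsupp.linearCombination C e := funext (comb_eq (A := C) e)
    rw [hcomb] at hb
    exact Module.Flat.of_linearEquiv (LinearEquiv.ofBijective _ hb).symm
  · obtain ⟨w, rfl⟩ := he.2 y
    obtain ⟨v, rfl⟩ := Finsupp.mapRange_surjective (α := κ) C.res (map_zero _) C.res_surjective w
    exact ⟨_, hq v⟩
  · obtain ⟨v, rfl⟩ := hb.2 x
    rw [RingHom.mem_ker, hq] at hx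
    have h3 : v.mapRange C.res (map_zero _) = 0 := he.1 (hx.trans (by simp [comb]))
    exact comb_mem a e v fun i => (mem_maximalIdeal_iff C _).2 (DFunLike.congr_fun h3 i)

theorem IsDef.map_ker {a' : C' →+* R'} {q' : R' →+* B₀} (h : IsDef C c a q) (h' : IsDef C' c a' q')
    (g : C ⟶ C') (φ : R →+* R') (ha : ∀ x, φ (a x) = a' (g x)) (hq : ∀ r, q' (φ r) = q r) :
    (Function.Injective g → Function.Injective φ) ∧
      (Function.Surjective g → Function.Surjective φ ∧
        RingHom.ker φ = (RingHom.ker g.toAlgHom).map a) := by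
  obtain ⟨κ, e, he⟩ := h.exists_basis
  have he' : Function.Bijective (comb c (q' ∘ φ ∘ e)) := by
    rwa [show q' ∘ φ ∘ e = q ∘ e from funext fun i => hq _]
  have hb := h.bijective_comb he
  have hb' := h'.bijective_comb he'
  have hφ : ∀ v, φ (comb a e v) = comb a' (φ ∘ e) (v.mapRange g (map_zero g.toAlgHom)) :=
    map_comb φ g.toAlgHom.toRingHom ha e
  refine ⟨fun hg x y hxy => ?_, fun hg => ⟨fun y => ?_, le_antisymm (fun x hx => ?_) ?_⟩⟩
  · obtain ⟨v, rfl⟩ := hb.2 x
    obtain ⟨w, rfl⟩ := hb.2 y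
    rw [hφ, hφ] at hxy
    exact congrArg _ (Finsupp.mapRange_injective _ (map_zero g.toAlgHom) hg (hb'.1 hxy))
  · obtain ⟨w, rfl⟩ := hb'.2 y
    obtain ⟨v, rfl⟩ := Finsupp.mapRange_surjective (α := κ) g (map_zero g.toAlgHom) hg w
    exact ⟨_, hφ v⟩
  · obtain ⟨v, rfl⟩ := hb.2 x
    rw [RingHom.mem_ker, hφ] at hx
    have h3 : v.mapRange g (map_zero g.toAlgHom) = 0 := hb'.1 (hx.trans (by simp [comb]))
    exact comb_mem a e v fun i => DFunLike.congr_fun h3 i
  · refine Ideal.map_le_iff_le_comap.2 fun y hy => ?_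
    rw [Ideal.mem_comap, RingHom.mem_ker, ha, RingHom.mem_ker.1 hy, map_zero]

/-- A morphism of deformations over the identity is bijective. -/
theorem IsDef.bijective {a' : C →+* R'} {q' : R' →+* B₀} (h : IsDef C c a q) (h' : IsDef C c a' q')
    (φ : R →+* R') (ha : ∀ x, φ (a x) = a' x) (hq : ∀ r, q' (φ r) = q r) : Function.Bijective φ :=
  ⟨(h.map_ker h' (𝟙 C) φ ha hq).1 Function.injective_id,
    ((h.map_ker h' (𝟙 C) φ ha hq).2 Function.surjective_id).1⟩

theorem IsDef.isUnit_of_isUnit (h : IsDef C c a q) {r : R} (hr : IsUnit (q r)) : IsUnit r := by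
  obtain ⟨y, hy⟩ := hr.exists_right_inv
  obtain ⟨s, rfl⟩ := h.surjective y
  obtain ⟨n, hn⟩ := IsArtinianRing.isNilpotent_jacobson_bot (R := C)
  rw [IsLocalRing.jacobson_eq_maximalIdeal ⊥ bot_ne_top] at hn
  have hnil : IsNilpotent (1 - r * s) := by
    refine ⟨n, ?_⟩
    have := Ideal.pow_mem_pow (h.ker_le (x := 1 - r * s) (by
      rw [RingHom.mem_ker, map_sub, map_one, map_mul, hy, sub_self])) n
    rw [← Ideal.map_pow, hn, Submodule.zero_eq_bot, Ideal.map_bot] at this
    exact this
  have hu := hnil.isUnit_one_sub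
  rw [sub_sub_cancel] at hu
  exact isUnit_of_mul_isUnit_left hu

/-- Deformations localise. -/
theorem IsDef.isLocalization_away {B₁ : Type u} [CommRing B₁] (h : IsDef C c a q)
    {aV : C →+* R'} {qV : R' →+* B₁} (ρ : B₀ →+* B₁) (hV : IsDef C (ρ.comp c) aV qV) (φ : R →+* R')
    (ha : ∀ x, φ (a x) = aV x) (hq : ∀ x, qV (φ x) = ρ (q x)) (r : R)
    (hloc : letI := ρ.toAlgebra; IsLocalization.Away (q r) B₁) :
    letI := φ.toAlgebra; IsLocalization.Away r R' := by
  let _ := ρ.toAlgebra
  let _ := φ.toAlgebra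
  have : IsLocalization.Away (q r) B₁ := hloc
  let L := Localization.Away r
  have hu : IsUnit ((ρ.comp q) r) := IsLocalization.Away.algebraMap_isUnit (q r)
  let qL : L →+* B₁ := IsLocalization.Away.lift r hu
  have hqL : ∀ x, qL (algebraMap R L x) = ρ (q x) := IsLocalization.Away.lift_eq r hu
  have hL : IsDef C (ρ.comp c) ((algebraMap R L).comp a) qL := by
    refine ⟨h.flat.comp (RingHom.flat_algebraMap_iff.2 (IsLocalization.flat L (Submonoid.powers r))),
      fun y => ?_, fun x => ?_, fun x hx => ?_⟩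
    · obtain ⟨n, y₀, hy₀⟩ := IsLocalization.Away.surj (q r) y
      obtain ⟨x₀, rfl⟩ := h.surjective y₀
      refine ⟨IsLocalization.mk' L x₀ (⟨r ^ n, n, rfl⟩ : Submonoid.powers r), ?_⟩
      refine (IsUnit.mul_left_inj ((IsLocalization.Away.algebraMap_isUnit (q r) (S := B₁)).pow n)).1 ?_
      rw [show (algebraMap B₀ B₁) (q r) = ρ (q r) from rfl]
      have h1 := congrArg qL (IsLocalization.mk'_spec L x₀ (⟨r ^ n, n, rfl⟩ : Submonoid.powers r))
      rw [map_mul, hqL, hqL, map_pow, map_pow] at h1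
      exact h1.trans hy₀.symm
    · exact (hqL _).trans (congrArg ρ (h.comm x))
    · obtain ⟨n, x₀, hx₀⟩ := IsLocalization.Away.surj r x
      have h1 : ρ (q x₀) = 0 := by
        rw [← hqL, ← hx₀, map_mul, RingHom.mem_ker.1 hx, zero_mul]
      obtain ⟨⟨_, m, rfl⟩, hm⟩ := (IsLocalization.map_eq_zero_iff (Submonoid.powers (q r)) B₁ _).1 h1
      have h2 : r ^ m * x₀ ∈ RingHom.ker q := by
        rw [RingHom.mem_ker, map_mul, map_pow]; exact hm
      have h3 := Ideal.mem_map_of_mem (algebraMap R L) (h.ker_le h2)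
      rw [Ideal.map_map, map_mul, ← hx₀, map_pow] at h3
      have hu' : IsUnit (algebraMap R L r) := IsLocalization.Away.algebraMap_isUnit r
      obtain ⟨w, hw⟩ := ((hu'.pow m).mul (hu'.pow n)).exists_left_inv
      convert Ideal.mul_mem_left _ w h3 using 1
      linear_combination (-x) * hw
  have hu' : IsUnit (φ r) := hV.isUnit_of_isUnit (by rw [hq]; exact hu)
  let ψ : L →+* R' := IsLocalization.Away.lift r hu'
  have hψ : ∀ x, ψ (algebraMap R L x) = φ x := IsLocalization.Away.lift_eq r hu'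
  have hb : Function.Bijective ψ := hL.bijective hV ψ (fun x => (hψ _).trans (ha x)) fun y => by
    refine RingHom.congr_fun (IsLocalization.ringHom_ext (Submonoid.powers r)
      (j := qV.comp ψ) (k := qL) (RingHom.ext fun x => ?_)) y
    exact ((congrArg qV (hψ x)).trans (hq x)).trans (hqL x).symm
  exact IsLocalization.isLocalization_of_algEquiv (Submonoid.powers r)
    (AlgEquiv.ofBijective { ψ with commutes' := hψ } hb)

section Fib

variable {A A' A'' B : Art Λ k} {R'' : Type u} [CommRing R'']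

/-- The fibre product of two rings. -/
abbrev fibRing (φ' : R' →+* R) (φ'' : R'' →+* R) : Subring (R' × R'') :=
  RingHom.eqLocus (φ'.comp (RingHom.fst R' R'')) (φ''.comp (RingHom.snd R' R''))

/-- Schlessinger's lemma: deformations glue along a fibre product. -/
theorem isDef_fib {p' : B ⟶ A'} {p'' : B ⟶ A''} {f' : A' ⟶ A} {f'' : A'' ⟶ A}
    (hB : IsFibreProd p' p'' f' f'') (hf : Function.Surjective f'') {aA : A →+* R} {qA : R →+* B₀}
    {a' : A' →+* R'} {q' : R' →+* B₀} {a'' : A'' →+* R''} {q'' : R'' →+* B₀}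
    (h : IsDef A c aA qA) (h' : IsDef A' c a' q') (h'' : IsDef A'' c a'' q'')
    {φ' : R' →+* R} {φ'' : R'' →+* R} (ha' : ∀ x, φ' (a' x) = aA (f' x))
    (ha'' : ∀ x, φ'' (a'' x) = aA (f'' x)) (hq' : ∀ r, qA (φ' r) = q' r)
    (hq'' : ∀ r, qA (φ'' r) = q'' r) {b : B →+* fibRing φ' φ''}
    (hb₁ : ∀ x, (b x : R' × R'').1 = a' (p' x)) (hb₂ : ∀ x, (b x : R' × R'').2 = a'' (p'' x)) :
    IsDef B c b (q'.comp ((RingHom.fst R' R'').comp (fibRing φ' φ'').subtype)) := by
  classical
  obtain ⟨κ, e', he⟩ := h'.exists_basis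
  obtain ⟨hs, -⟩ := (h''.map_ker h f'' φ'' ha'' hq'').2 hf
  choose e'' he'' using fun i => hs (φ' (e' i))
  let e : κ → fibRing φ' φ'' := fun i => ⟨(e' i, e'' i), (he'' i).symm⟩
  refine isDef_of_comb (e := e) he (fun x => ?_) ?_
  · exact (congrArg q' (hb₁ x)).trans ((h'.comm _).trans (congrArg c (res_app p' x)))
  have h1 : ∀ v, ((comb b e v : fibRing φ' φ'') : R' × R'').1 =
      comb a' e' (v.mapRange p' (map_zero p'.toAlgHom)) := fun v =>
    map_comb ((RingHom.fst R' R'').comp (fibRing φ' φ'').subtype) p'.toAlgHom.toRingHom hb₁ e v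
  have h2 : ∀ v, ((comb b e v : fibRing φ' φ'') : R' × R'').2 =
      comb a'' e'' (v.mapRange p'' (map_zero p''.toAlgHom)) := fun v =>
    map_comb ((RingHom.snd R' R'').comp (fibRing φ' φ'').subtype) p''.toAlgHom.toRingHom hb₂ e v
  have hbe' := h'.bijective_comb he
  have hbe'' : Function.Bijective (comb a'' e'') := h''.bijective_comb (by
    rwa [show q'' ∘ e'' = q' ∘ e' from funext fun i => by
      rw [Function.comp_apply, ← hq'', he'', hq']; rfl])
  have hbeA : Function.Bijective (comb aA (φ' ∘ e')) := h.bijective_comb (by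
    rwa [show qA ∘ φ' ∘ e' = q' ∘ e' from funext fun i => hq' _])
  constructor
  · intro v w hvw
    have e₁ := (h1 v).symm.trans ((congrArg (fun x : fibRing φ' φ'' => (x : R' × R'').1) hvw).trans (h1 w))
    have e₂ := (h2 v).symm.trans ((congrArg (fun x : fibRing φ' φ'' => (x : R' × R'').2) hvw).trans (h2 w))
    ext i
    exact hB.inj _ _ (DFunLike.congr_fun (hbe'.1 e₁) i) (DFunLike.congr_fun (hbe''.1 e₂) i)
  · rintro ⟨⟨r', r''⟩, hr⟩
    obtain ⟨v', rfl⟩ := hbe'.2 r'
    obtain ⟨v'', rfl⟩ := hbe''.2 r''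
    have hr' : φ' (comb a' e' v') = φ'' (comb a'' e'' v'') := hr
    rw [map_comb φ' f'.toAlgHom.toRingHom ha' e' v', map_comb φ'' f''.toAlgHom.toRingHom ha'' e'' v'',
      show φ'' ∘ e'' = φ' ∘ e' from funext he''] at hr'
    have hv : ∀ i, f' (v' i) = f'' (v'' i) := fun i => DFunLike.congr_fun (hbeA.1 hr') i
    choose w hw₁ hw₂ using fun i => hB.surj _ _ (hv i)
    let v : κ →₀ B := Finsupp.onFinset (v'.support ∪ v''.support) w fun i hi => by
      by_contra hni
      rw [Finset.mem_union, not_or, Finsupp.notMem_support_iff, Finsupp.notMem_support_iff] at hni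
      exact hi (hB.inj _ _ (by rw [hw₁, hni.1, map_zero]) (by rw [hw₂, hni.2, map_zero]))
    refine ⟨v, Subtype.ext (Prod.ext ((h1 v).trans ?_) ((h2 v).trans ?_))⟩
    · exact congrArg _ (Finsupp.ext fun i => hw₁ i)
    · exact congrArg _ (Finsupp.ext fun i => hw₂ i)

end Fib

end Groth.Agent.DefGlueLib
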