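import Groth.Agent.DefGlueLib.Glue
import Groth.Agent.OmegaUniv.Universal

/-! Derivations given on affine opens, and maps out of the sheaf of differentials. -/

set_option autoImplicit false
set_option backward.isDefEq.respectTransparency false
set_option backward.isDefEq.respectTransparency.types false
universe u

open CategoryTheory CategoryTheory.Limits AlgebraicGeometry Opposite TopologicalSpace ArtFun

noncomputable section

namespace Groth.Agent.DefGlueLib

open Scheme (AffineZariskiSite)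

variable {k : Type u} [Field k] {X : Scheme.{u}}

/-- Restriction of functions. -/
abbrev rs {U V : X.Opens} (h : V ≤ U) : Γ(X, U) →+* Γ(X, V) := (X.presheaf.map (homOfLE h).op).hom

theorem rs_rs {U V W : X.Opens} (h : V ≤ U) (h' : W ≤ V) (s : Γ(X, U)) : rs h' (rs h s) = rs (h'.trans h) s :=
  (ConcreteCategory.congr_hom (X.presheaf.map_comp (homOfLE h).op (homOfLE h').op) s).symm

theorem eq_of_locally {U : X.Opens} {a b : Γ(X, U)}
    (h : ∀ p ∈ U, ∃ (V : X.Opens) (hV : V ≤ U), p ∈ V ∧ rs hV a = rs hV b) : a = b := by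
  choose V hV hp he using fun p : U => h p.1 p.2
  exact TopCat.Sheaf.eq_of_locally_eq' X.sheaf V U (fun p => homOfLE (hV p))
    (fun p hp' => Opens.mem_iSup.2 ⟨⟨p, hp'⟩, hp ⟨p, hp'⟩⟩) a b he

theorem exists_site_le {W : X.Opens} {p : X} (hp : p ∈ W) :
    ∃ U : AffineZariskiSite X, p ∈ U.toOpens ∧ U.toOpens ≤ W := by
  obtain ⟨U, hU, hpU, hle⟩ := Opens.isBasis_iff_nbhd.mp X.isBasis_affineOpens hp
  exact ⟨⟨U, hU⟩, hpU, hle⟩

theorem exists_common (U V : AffineZariskiSite X) {p : X} (hp : p ∈ U.toOpens ⊓ V.toOpens) :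
    ∃ B : AffineZariskiSite X, B ≤ U ∧ B ≤ V ∧ p ∈ B.toOpens := by
  obtain ⟨f, g, hfg, hf⟩ := exists_basicOpen_le_affine_inter U.2 V.2 p hp
  exact ⟨U.basicOpen f, U.basicOpen_le f,
    (show U.basicOpen f = V.basicOpen g from Subtype.ext hfg) ▸ V.basicOpen_le g, hf⟩

variable (x : X ⟶ Art.specPt k)

/-- Compatible derivations of the affine pieces. -/
structure FamDer : Type u where
  /-- the derivations -/
  D : ∀ U : AffineZariskiSite X, Γ(X, U.toOpens) →+ Γ(X, U.toOpens)
  mul : ∀ U a b, D U (a * b) = a * D U b + b * D U a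
  const : ∀ U c, D U (str x U c) = 0
  res : ∀ {U V : AffineZariskiSite X} (h : V ≤ U) a,
    D V (rs (AffineZariskiSite.toOpens_mono h) a) = rs (AffineZariskiSite.toOpens_mono h) (D U a)

variable {x}

namespace FamDer

variable (δ : FamDer x)

theorem res' {U V : AffineZariskiSite X} (h : V.toOpens ≤ U.toOpens) (a : Γ(X, U.toOpens)) :
    δ.D V (rs h a) = rs h (δ.D U a) := by
  refine eq_of_locally fun p hp => ?_
  obtain ⟨B, hBV, hBU, hpB⟩ := exists_common V U ⟨hp, h hp⟩
  refine ⟨B.toOpens, AffineZariskiSite.toOpens_mono hBV, hpB, ?_⟩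
  rw [← δ.res hBV, rs_rs, rs_rs]
  exact δ.res hBU a

/-- The value on a section over any open. -/
def Val (W : X.Opens) (s t : Γ(X, W)) : Prop :=
  ∀ (U : AffineZariskiSite X) (h : U.toOpens ≤ W), δ.D U (rs h s) = rs h t

theorem val_unique {W : X.Opens} {s t t' : Γ(X, W)} (h : δ.Val W s t) (h' : δ.Val W s t') : t = t' :=
  eq_of_locally fun p hp => by
    obtain ⟨U, hpU, hle⟩ := exists_site_le hp
    exact ⟨U.toOpens, hle, hpU, (h U hle).symm.trans (h' U hle)⟩

theorem exists_val (W : X.Opens) (s : Γ(X, W)) : ∃ t, δ.Val W s t := by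
  let ι := {U : AffineZariskiSite X // U.toOpens ≤ W}
  obtain ⟨t, ht, -⟩ := TopCat.Sheaf.existsUnique_gluing' X.sheaf (fun i : ι => i.1.toOpens) W
    (fun i => homOfLE i.2) (fun p hp => by
      obtain ⟨U, hpU, hle⟩ := exists_site_le hp
      exact Opens.mem_iSup.2 ⟨⟨U, hle⟩, hpU⟩)
    (fun i => δ.D i.1 (rs i.2 s)) (fun i j => eq_of_locally fun p hp => by
      obtain ⟨U, hpU, hle⟩ := exists_site_le hp
      refine ⟨U.toOpens, hle, hpU, ?_⟩
      refine (rs_rs inf_le_left hle (δ.D i.1 (rs i.2 s))).trans (Eq.trans ?_ (rs_rs inf_le_right hle _).symm)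
      rw [← δ.res', ← δ.res', rs_rs, rs_rs])
  exact ⟨t, fun U h => (ht ⟨U, h⟩).symm⟩

/-- The extension to all opens. -/
def val (W : X.Opens) (s : Γ(X, W)) : Γ(X, W) := (δ.exists_val W s).choose

theorem val_spec (W : X.Opens) (s : Γ(X, W)) : δ.Val W s (δ.val W s) := (δ.exists_val W s).choose_spec

theorem val_eq {W : X.Opens} {s t : Γ(X, W)} (h : δ.Val W s t) : δ.val W s = t :=
  δ.val_unique (δ.val_spec W s) h

theorem val_res {W W' : X.Opens} (h : W' ≤ W) (s : Γ(X, W)) : δ.val W' (rs h s) = rs h (δ.val W s) :=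
  δ.val_eq fun U hU => by rw [rs_rs, rs_rs]; exact δ.val_spec W s U (hU.trans h)

theorem app_const (V : (Art.specPt k).Opens) (s : Γ(Art.specPt k, V)) : δ.val (x ⁻¹ᵁ V) (x.app V s) = 0 :=
  δ.val_eq fun U hU => by
    rw [map_zero]
    by_cases hV : V = ⊤
    · subst hV
      obtain ⟨c, rfl⟩ := (ConcreteCategory.bijective_of_isIso (Scheme.ΓSpecIso (CommRingCat.of k)).inv).2 s
      refine (congrArg (δ.D U) ?_).trans (δ.const U c)
      rfl
    · have : V = ⊥ := by
        refine Opens.ext (Set.eq_empty_iff_forall_notMem.2 fun q hq => hV ?_)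
        exact top_le_iff.1 fun r _ => (Subsingleton.elim q r) ▸ hq
      subst this
      have he : U.toOpens = ⊥ := le_bot_iff.1 hU
      have : Subsingleton Γ(X, U.toOpens) := CommRingCat.subsingleton_of_isTerminal (X.sheaf.isTerminalOfEqEmpty he)
      exact Subsingleton.elim _ _

/-- The derivation of the sheaf. -/
def toDer : OmegaSh.Der x (Coh.structureModule X) where
  d {W} := AddMonoidHom.mk' (fun s => OmegaSh.strSect X W.unop (δ.val W.unop s)) fun a b => by
    refine (congrArg (OmegaSh.strSect X W.unop) (δ.val_eq fun U hU => ?_)).trans (map_add _ _ _)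
    rw [map_add, map_add, map_add, δ.val_spec _ a U hU, δ.val_spec _ b U hU]
  d_mul {W} a b := δ.val_eq fun U hU => by
    refine (congrArg (δ.D U) (map_mul (rs hU) a b)).trans ((δ.mul U _ _).trans ?_)
    rw [δ.val_spec _ a U hU, δ.val_spec _ b U hU, ← map_mul, ← map_mul, ← map_add]
    rfl
  d_map {_ _} i s := δ.val_res i.unop.le s
  d_app {V} s := δ.app_const V.unop s

theorem toDer_app (U : AffineZariskiSite X) (s : Γ(X, U.toOpens)) :
    OmegaSh.fnSect X U.toOpens (δ.toDer.app U.toOpens s) = δ.D U s :=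
  δ.val_eq fun V hV => δ.res' hV s

variable [QuasiSeparated x]

theorem eq_zero_of_subsingleton (h : Subsingleton (Omega.sheaf x ⟶ Coh.structureModule X)) (U : AffineZariskiSite X)
    (s : Γ(X, U.toOpens)) : δ.D U s = 0 := by
  obtain ⟨α, hα, -⟩ := OmegaUniv.isUniversal_dOmega x _ δ.toDer
  rw [← toDer_app]
  obtain rfl : α = 0 := h.elim _ _
  exact (congrArg (OmegaSh.fnSect X U.toOpens)
    (PresheafOfModules.Derivation.congr_d hα (X := op U.toOpens) s).symm).trans rfl

end FamDer

variable (x) in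
theorem exists_famDer_ne_zero [QuasiSeparated x] (h : ¬Subsingleton (Omega.sheaf x ⟶ Coh.structureModule X)) :
    ∃ (δ : FamDer x) (U : AffineZariskiSite X) (s : Γ(X, U.toOpens)), δ.D U s ≠ 0 := by
  by_contra hne
  refine h (subsingleton_of_forall_eq 0 fun α => ?_)
  let E : OmegaSh.Der x (Coh.structureModule X) := (OmegaSh.dOmega x).postcomp α.val
  have hres : ∀ {U V : X.Opens} (hle : V ≤ U) (a : Γ(X, U)),
      OmegaSh.fnSect X V (E.app V (rs hle a)) = rs hle (OmegaSh.fnSect X U (E.app U a)) :=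
    fun hle a => E.d_map (homOfLE hle).op a
  let δ : FamDer x :=
    { D := fun U => (OmegaSh.fnSect X U.toOpens).comp (E.app U.toOpens)
      mul := fun U a b => E.d_mul (X := op U.toOpens) a b
      const := fun U c => (hres (le_top (a := U.toOpens)) _).trans ((congrArg (rs le_top)
        (E.d_app (X := op ⊤) ((Scheme.ΓSpecIso (CommRingCat.of k)).inv c))).trans (map_zero _))
      res := fun h a => hres _ a }
  obtain ⟨β, -, hβ⟩ := OmegaUniv.isUniversal_dOmega x _ E
  refine (hβ α rfl).trans (hβ 0 ?_).symm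
  refine PresheafOfModules.Derivation.ext (funext fun W => AddMonoidHom.ext fun s => ?_)
  refine Eq.trans (b := 0) rfl (Eq.symm ?_)
  change OmegaSh.fnSect X W.unop (E.app W.unop s) = 0
  refine eq_of_locally fun p hp => ?_
  obtain ⟨U, hpU, hle⟩ := exists_site_le hp
  refine ⟨U.toOpens, hle, hpU, ?_⟩
  rw [map_zero, ← hres]
  by_contra h0
  exact hne ⟨δ, U, _, h0⟩

end Groth.Agent.DefGlueLib
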