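import Groth.Agent.DefGlueLib.Schless
import Groth.Agent.DefGlueLib.Der
import Groth.Agent.AffDefLib.Dual

/-! Automorphisms of deformations and derivations. -/

set_option autoImplicit false
set_option backward.isDefEq.respectTransparency false
set_option backward.isDefEq.respectTransparency.types false
universe u

open CategoryTheory CategoryTheory.Limits AlgebraicGeometry Opposite IsLocalRing ArtFun

noncomputable section

namespace Groth.Agent.DefGlueLib

open Scheme (AffineZariskiSite)

variable {k : Type u} [Field k]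

section Algebra

variable {C : Art k k} {R R' B₀ B₀' : Type u} [CommRing R] [CommRing R'] [CommRing B₀] [CommRing B₀']
  {c : k →+* B₀} {a : C →+* R} {q : R →+* B₀} {c' : k →+* B₀'} {a' : C →+* R'} {q' : R' →+* B₀'}

/-- A functional on an ideal killing `m I`. -/
def IsFun (I : Ideal C) (l : C →ₗ[k] k) : Prop := ∀ m ∈ maximalIdeal C, ∀ y ∈ I, l (m * y) = 0

theorem IsFun.mul {I : Ideal C} {l : C →ₗ[k] k} (hl : IsFun I l) (d : C) {y : C} (hy : y ∈ I) :
    l (d * y) = C.res d * l y := by
  have hm : d - algebraMap k C (C.res d) ∈ maximalIdeal C := by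
    rw [Art.mem_maximalIdeal_iff, map_sub, C.res.commutes]
    exact sub_self _
  have := hl _ hm y hy
  rw [sub_mul, map_sub, sub_eq_zero, ← Algebra.smul_def, map_smul, smul_eq_mul] at this
  exact this

theorem exists_pair (h : IsDef C c a q) {I : Ideal C} {l : C →ₗ[k] k} (hl : IsFun I l) :
    ∃ L : R → B₀, (∀ w w', w ∈ I.map a → w' ∈ I.map a → L (w + w') = L w + L w') ∧
      ∀ y ∈ I, ∀ s, L (a y * s) = c (l y) * q s := by
  obtain ⟨κ, e, he⟩ := h.exists_basis
  have hb := h.bijective_comb he
  let co : R → (κ →₀ C) := fun w => (hb.2 w).choose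
  have hco : ∀ w, comb a e (co w) = w := fun w => (hb.2 w).choose_spec
  refine ⟨fun w => comb c (q ∘ e) ((co w).mapRange l (map_zero l)), fun w w' _ _ => ?_, fun y hy s => ?_⟩
  · have h1 : co (w + w') = co w + co w' := hb.1 (by
      rw [hco]
      simp only [comb]
      rw [Finsupp.sum_add_index' (fun i => by rw [map_zero, zero_mul]) fun i u v => by rw [map_add, add_mul]]
      exact (congrArg₂ (· + ·) (hco w) (hco w')).symm)
    simp only [h1, comb]
    rw [Finsupp.mapRange_add (fun u v => map_add l u v),
      Finsupp.sum_add_index' (fun i => by rw [map_zero, zero_mul]) fun i u v => by rw [map_add, add_mul]]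
  · have h1 : co (a y * s) = (co s).mapRange (y * ·) (mul_zero y) := hb.1 (by
      rw [hco]
      refine Eq.trans (congrArg (a y * ·) (hco s).symm) ?_
      simp only [comb]
      rw [Finsupp.sum_mapRange_index fun i => by rw [map_zero, zero_mul], Finsupp.mul_sum]
      exact Finsupp.sum_congr fun i _ => by rw [map_mul, mul_assoc])
    have h2 : q s = comb c (q ∘ e) ((co s).mapRange C.res (map_zero _)) :=
      (congrArg q (hco s).symm).trans (h.q_comb e (co s))
    simp only [h1, h2, comb, Finsupp.mul_sum]
    rw [Finsupp.sum_mapRange_index (fun i => by simp), Finsupp.sum_mapRange_index (fun i => by simp),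
      Finsupp.sum_mapRange_index (fun i => by simp)]
    refine Finsupp.sum_congr fun i _ => ?_
    rw [mul_comm y, hl.mul _ hy, map_mul]
    ring

/-- The pairing of `I R` with a functional. -/
def pair (h : IsDef C c a q) {I : Ideal C} {l : C →ₗ[k] k} (hl : IsFun I l) : R → B₀ :=
  (exists_pair h hl).choose

section Pair

variable (h : IsDef C c a q) {I : Ideal C} {l : C →ₗ[k] k} (hl : IsFun I l)

theorem pair_add {w w' : R} (hw : w ∈ I.map a) (hw' : w' ∈ I.map a) :
    pair h hl (w + w') = pair h hl w + pair h hl w' := (exists_pair h hl).choose_spec.1 w w' hw hw'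

theorem pair_gen {y : C} (hy : y ∈ I) (s : R) : pair h hl (a y * s) = c (l y) * q s :=
  (exists_pair h hl).choose_spec.2 y hy s

theorem pair_zero : pair h hl 0 = 0 := by
  have := pair_gen h hl I.zero_mem (0 : R)
  rwa [mul_zero, map_zero q, mul_zero] at this

/-- Induction on elements of `I R`. -/
theorem map_induction {P : R → Prop} {I : Ideal C} (h0 : P 0)
    (hadd : ∀ w w', w ∈ I.map a → w' ∈ I.map a → P w → P w' → P (w + w'))
    (hgen : ∀ y ∈ I, ∀ s, P (a y * s)) {w : R} (hw : w ∈ I.map a) : P w := by
  suffices key : w ∈ I.map a ∧ ∀ s, P (s * w) by simpa using key.2 1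
  induction hw using Submodule.span_induction with
  | mem x hx =>
    obtain ⟨y, hy, rfl⟩ := hx
    exact ⟨Ideal.mem_map_of_mem a hy, fun s => by rw [mul_comm]; exact hgen y hy s⟩
  | zero => exact ⟨zero_mem _, fun s => by rw [mul_zero]; exact h0⟩
  | add x y _ _ hx hy =>
    exact ⟨add_mem hx.1 hy.1, fun s => by
      rw [mul_add]; exact hadd _ _ (Ideal.mul_mem_left _ _ hx.1) (Ideal.mul_mem_left _ _ hy.1) (hx.2 s) (hy.2 s)⟩
  | smul r x _ hx =>
    exact ⟨Ideal.mul_mem_left _ _ hx.1, fun s => by rw [smul_eq_mul, ← mul_assoc]; exact hx.2 _⟩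

theorem pair_smul (s : R) {w : R} (hw : w ∈ I.map a) : pair h hl (s * w) = q s * pair h hl w := by
  refine map_induction (a := a) (I := I) (P := fun w => pair h hl (s * w) = q s * pair h hl w) ?_ ?_ ?_ hw
  · rw [mul_zero, pair_zero, mul_zero]
  · intro w w' hw hw' e e'
    rw [mul_add, pair_add h hl (Ideal.mul_mem_left _ _ hw) (Ideal.mul_mem_left _ _ hw'), pair_add h hl hw hw',
      e, e', mul_add]
  · intro y hy t
    rw [show s * (a y * t) = a y * (s * t) by ring, pair_gen h hl hy, pair_gen h hl hy, map_mul]; ring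

theorem pair_mul_ker {w : R} (hw : w ∈ (maximalIdeal C * I).map a) : pair h hl w = 0 := by
  have hle : maximalIdeal C * I ≤ I := Ideal.mul_le_right
  have hly : ∀ y ∈ maximalIdeal C * I, l y = 0 := fun y hy =>
    Submodule.mul_induction_on hy (fun m hm z hz => hl m hm z hz) (fun u v eu ev => by rw [map_add, eu, ev, add_zero])
  have key : w ∈ I.map a ∧ pair h hl w = 0 := by
    refine map_induction (a := a) (I := maximalIdeal C * I) (P := fun w => w ∈ I.map a ∧ pair h hl w = 0) ?_ ?_ ?_ hw
    · exact ⟨Submodule.zero_mem _, pair_zero h hl⟩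
    · exact fun w w' _ _ e e' => ⟨Submodule.add_mem _ e.1 e'.1, by rw [pair_add h hl e.1 e'.1, e.2, e'.2, add_zero]⟩
    · intro y hy s
      exact ⟨Ideal.mul_mem_right _ _ (Ideal.mem_map_of_mem a (hle hy)), by
        rw [pair_gen h hl (hle hy), hly y hy, map_zero, zero_mul]⟩
  exact key.2

theorem pair_natural (h' : IsDef C c' a' q') (ψ : R →+* R') (ρ : B₀ →+* B₀') (hψa : ∀ y, ψ (a y) = a' y)
    (hq : ∀ r, q' (ψ r) = ρ (q r)) (hc : ∀ t, ρ (c t) = c' t) {w : R} (hw : w ∈ I.map a) :
    ρ (pair h hl w) = pair h' hl (ψ w) := by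
  have hmem : ∀ {w : R}, w ∈ I.map a → ψ w ∈ I.map a' := fun {w} hw => by
    have h1 := Ideal.mem_map_of_mem ψ hw
    rwa [Ideal.map_map, show ψ.comp a = a' from RingHom.ext hψa] at h1
  refine map_induction (a := a) (I := I) (P := fun w => ρ (pair h hl w) = pair h' hl (ψ w)) ?_ ?_ ?_ hw
  · rw [map_zero, pair_zero, pair_zero, map_zero]
  · intro w w' hw hw' e e'
    rw [pair_add h hl hw hw', map_add, map_add, pair_add h' hl (hmem hw) (hmem hw'), e, e']
  · intro y hy t
    rw [pair_gen h hl hy, map_mul, map_mul, hc, hψa, pair_gen h' hl hy, hq]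

end Pair

theorem mem_of_pair_eq_zero (h : IsDef C c a q) {I : Ideal C} {w : R} (hw : w ∈ I.map a)
    (h0 : ∀ (l : C →ₗ[k] k) (hl : IsFun I l), pair h hl w = 0) : w ∈ (maximalIdeal C * I).map a := by
  classical
  obtain ⟨κ, e, he⟩ := h.exists_basis
  have hb := h.bijective_comb he
  obtain ⟨v, rfl, hv⟩ : ∃ v, comb a e v = w ∧ ∀ i, v i ∈ I := by
    refine map_induction (a := a) (I := I) (P := fun w => ∃ v, comb a e v = w ∧ ∀ i, v i ∈ I) ?_ ?_ ?_ hw
    · exact ⟨0, by simp [comb], fun i => I.zero_mem⟩
    · intro w w' _ _ e₁ e₂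
      obtain ⟨v, rfl, hv⟩ := e₁
      obtain ⟨v', rfl, hv'⟩ := e₂
      exact ⟨v + v', Finsupp.sum_add_index' (fun i => by rw [map_zero, zero_mul])
        (fun i x y => by rw [map_add, add_mul]), fun i => I.add_mem (hv i) (hv' i)⟩
    · intro y hy s
      obtain ⟨v, rfl⟩ := hb.2 s
      refine ⟨v.mapRange (y * ·) (mul_zero y), ?_, fun i => by
        rw [Finsupp.mapRange_apply]; exact I.mul_mem_right _ hy⟩
      simp only [comb]
      rw [Finsupp.sum_mapRange_index fun i => by rw [map_zero, zero_mul], Finsupp.mul_sum]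
      exact Finsupp.sum_congr fun i _ => by rw [map_mul, mul_assoc]
  refine comb_mem a e v fun i => by_contra fun hi => ?_
  obtain ⟨l, hl1, hl2⟩ := Submodule.exists_dual_map_eq_bot_of_notMem
    (p := (maximalIdeal C * I).restrictScalars k) (x := v i) hi inferInstance
  have hl : IsFun I l := fun m hm y hy => by
    have : l (m * y) ∈ ((maximalIdeal C * I).restrictScalars k).map l :=
      ⟨_, Ideal.mul_mem_mul hm hy, rfl⟩
    rw [hl2] at this
    exact (Submodule.mem_bot _).1 this
  refine hl1 (DFunLike.congr_fun (he.1 (a₁ := v.mapRange l (map_zero l)) (a₂ := 0) ?_) i)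
  refine Eq.trans ?_ ((h0 l hl).trans (by simp [comb]))
  have key : ∀ S : Finset κ, pair h hl (∑ i ∈ S, a (v i) * e i) = ∑ i ∈ S, c (l (v i)) * q (e i) := fun S => by
    induction S using Finset.induction with
    | empty => simp [pair_zero]
    | insert i S hi ih =>
      rw [Finset.sum_insert hi, Finset.sum_insert hi, pair_add h hl
        (Ideal.mul_mem_right _ _ (Ideal.mem_map_of_mem a (hv i)))
        (Ideal.sum_mem _ fun j _ => Ideal.mul_mem_right _ _ (Ideal.mem_map_of_mem a (hv j))),
        pair_gen h hl (hv i), ih]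
  refine Eq.trans ?_ (key v.support).symm
  simp only [comb]
  rw [Finsupp.sum_mapRange_index fun i => by rw [map_zero, zero_mul]]
  rfl

theorem mem_map_mul_ker (h : IsDef C c a q) (f : R →+* R) (hfa : ∀ y, f (a y) = a y) {I : Ideal C}
    (hI : ∀ r, f r - r ∈ I.map a) {r : R} (hr : q r = 0) : f r - r ∈ (maximalIdeal C * I).map a := by
  refine map_induction (a := a) (I := maximalIdeal C) (P := fun r => f r - r ∈ (maximalIdeal C * I).map a) ?_ ?_ ?_
    (h.ker_le (RingHom.mem_ker.2 hr))
  · rw [map_zero, sub_zero]; exact zero_mem _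
  · intro w w' _ _ e e'
    rw [map_add, add_sub_add_comm]; exact add_mem e e'
  · intro y hy s
    rw [map_mul, hfa, ← mul_sub, Ideal.map_mul]
    exact Ideal.mul_mem_mul (Ideal.mem_map_of_mem a hy) (hI s)

end Algebra

variable {X : Scheme.{u}} {x : X ⟶ Art.specPt k} {C : Art k k}

theorem map_qU_surjective (D : PDef x C) (U : AffineZariskiSite X) : Function.Surjective (D.q.app (op U)).hom :=
  (D.isDef (op U)).surjective

theorem q_end {D : PDef x C} (φ : PHom (𝟙 C) D D) (U : (AffineZariskiSite X)ᵒᵖ) (r : D.R.obj U) :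
    (D.q.app U).hom ((φ.app.app U).hom r) = (D.q.app U).hom r :=
  ConcreteCategory.congr_hom (congrArg (fun t => NatTrans.app t U) φ.q_app) r

/-- The derivation attached to an endomorphism congruent to the identity modulo `I`. -/
def famDerOf {D : PDef x C} (φ : PHom (𝟙 C) D D) {I : Ideal C}
    (hI : ∀ U r, (φ.app.app U).hom r - r ∈ I.map (D.a U)) {l : C →ₗ[k] k} (hl : IsFun I l) : FamDer x :=
  let L := fun U => pair (D.isDef U) hl
  let f := fun U : AffineZariskiSite X => (φ.app.app (op U)).hom
  have wd : ∀ (U : AffineZariskiSite X) r r', (D.q.app (op U)).hom r = (D.q.app (op U)).hom r' →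
      L (op U) (f U r - r) = L (op U) (f U r' - r') := fun U r r' e => by
    have h1 := pair_mul_ker (D.isDef (op U)) hl (mem_map_mul_ker (D.isDef (op U)) (f U) (φ.comm (op U))
      (hI (op U)) (r := r - r') ((map_sub _ _ _).trans (sub_eq_zero.2 e)))
    rw [show f U r - r = (f U (r - r') - (r - r')) + (f U r' - r') by rw [map_sub]; ring]
    refine (pair_add (D.isDef (op U)) hl (hI (op U) _) (hI (op U) _)).trans ?_
    rw [h1, zero_add]
  let g := fun (U : AffineZariskiSite X) b => (map_qU_surjective D U b).choose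
  have hg : ∀ U b, (D.q.app (op U)).hom (g U b) = b := fun U b => (map_qU_surjective D U b).choose_spec
  { D := fun U => AddMonoidHom.mk' (fun b => L (op U) (f U (g U b) - g U b)) fun b b' => by
      refine (wd U _ (g U b + g U b') ((hg U _).trans ((congrArg₂ (· + ·) (hg U b) (hg U b')).symm.trans
        (map_add _ _ _).symm))).trans ?_
      rw [map_add, add_sub_add_comm]
      exact pair_add (D.isDef (op U)) hl (hI _ _) (hI _ _)
    mul := fun U b b' => by
      refine (wd U _ (g U b * g U b') ((hg U _).trans ((congrArg₂ (· * ·) (hg U b) (hg U b')).symm.trans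
        (map_mul _ _ _).symm))).trans ?_
      rw [map_mul, show f U (g U b) * f U (g U b') - g U b * g U b' =
        f U (g U b) * (f U (g U b') - g U b') + g U b' * (f U (g U b) - g U b) by ring]
      refine (pair_add (D.isDef (op U)) hl (Ideal.mul_mem_left _ _ (hI _ _)) (Ideal.mul_mem_left _ _ (hI _ _))).trans ?_
      rw [pair_smul _ hl _ (hI _ _), pair_smul _ hl _ (hI _ _)]
      exact congrArg₂ (· + ·) (congrArg₂ (· * ·) ((q_end φ _ _).trans (hg _ _)) rfl)
        (congrArg₂ (· * ·) (hg _ _) rfl)
    const := fun U c => by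
      refine (wd U _ (D.a (op U) (algebraMap k C c)) ?_).trans ?_
      · exact (hg _ _).trans (((D.isDef (op U)).comm _).trans (congrArg (str x U) (C.res.commutes c))).symm
      · rw [show f U (D.a (op U) (algebraMap k C c)) = D.a (op U) (algebraMap k C c) from φ.comm (op U) _, sub_self]
        exact pair_zero _ hl
    res := fun {U V} h b => by
      let ψ := (D.R.map (homOfLE h).op).hom
      let ρ := rs (X := X) (AffineZariskiSite.toOpens_mono h)
      have hq : ∀ r, (D.q.app (op V)).hom (ψ r) = ρ ((D.q.app (op U)).hom r) := D.q_map (homOfLE h).op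
      refine (wd V _ (ψ (g U b)) ((hg V _).trans ((hq _).trans (congrArg ρ (hg U b))).symm)).trans ?_
      refine Eq.trans ?_ (pair_natural (D.isDef (op U)) hl (D.isDef (op V)) ψ ρ (D.a_map (homOfLE h).op) hq
        (fun t => DFunLike.congr_fun (str_res x h) t) (hI (op U) (g U b))).symm
      rw [map_sub]
      exact congrArg (fun z => L (op V) (z - _)) (ConcreteCategory.congr_hom (φ.app.naturality (homOfLE h).op) _) }

theorem famDerOf_apply {D : PDef x C} (φ : PHom (𝟙 C) D D) {I : Ideal C}
    (hI : ∀ U r, (φ.app.app U).hom r - r ∈ I.map (D.a U)) {l : C →ₗ[k] k} (hl : IsFun I l)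
    (U : AffineZariskiSite X) (r : D.R.obj (op U)) :
    (famDerOf φ hI hl).D U ((D.q.app (op U)).hom r) = pair (D.isDef (op U)) hl ((φ.app.app (op U)).hom r - r) := by
  let r' := (map_qU_surjective D U ((D.q.app (op U)).hom r)).choose
  have e : (D.q.app (op U)).hom r' = (D.q.app (op U)).hom r :=
    (map_qU_surjective D U ((D.q.app (op U)).hom r)).choose_spec
  show pair (D.isDef (op U)) hl ((φ.app.app (op U)).hom r' - r') = _
  have h1 := pair_mul_ker (D.isDef (op U)) hl (mem_map_mul_ker (D.isDef (op U)) _ (φ.comm (op U))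
    (hI (op U)) (r := r' - r) ((map_sub _ _ _).trans (sub_eq_zero.2 e)))
  rw [show (φ.app.app (op U)).hom r' - r' = ((φ.app.app (op U)).hom (r' - r) - (r' - r)) +
    ((φ.app.app (op U)).hom r - r) by rw [map_sub]; ring]
  refine (pair_add (D.isDef (op U)) hl (hI _ _) (hI _ _)).trans ?_
  rw [h1, zero_add]

/-- Without derivations, endomorphisms of deformations are trivial. -/
theorem app_eq_id {D : PDef x C} (φ : PHom (𝟙 C) D D) (h0 : ∀ (δ : FamDer x) U s, δ.D U s = 0) :
    φ.app = 𝟙 D.R := by
  have key : ∀ n U r, (φ.app.app U).hom r - r ∈ (maximalIdeal C ^ n).map (D.a U) := fun n => by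
    induction n with
    | zero => intro U r; rw [pow_zero, Ideal.one_eq_top, Ideal.map_top]; exact Submodule.mem_top
    | succ n ih =>
      intro U r
      rw [pow_succ']
      refine mem_of_pair_eq_zero (D.isDef U) (ih U r) fun l hl => ?_
      induction U using Opposite.rec with
      | op U => exact (famDerOf_apply φ ih hl U r).symm.trans (h0 _ _ _)
  obtain ⟨n, hn⟩ := IsArtinianRing.isNilpotent_jacobson_bot (R := C)
  rw [jacobson_eq_maximalIdeal ⊥ bot_ne_top] at hn
  refine NatTrans.ext (funext fun U => CommRingCat.hom_ext (RingHom.ext fun r => sub_eq_zero.1 ?_))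
  have := key n U r
  rwa [hn, Submodule.zero_eq_bot, Ideal.map_bot, Ideal.mem_bot] at this

theorem glue_hom_eq_id {D : PDef x C} (φ : PHom (𝟙 C) D D) (h : φ.app = 𝟙 D.R) : φ.glue.hom = 𝟙 _ :=
  colimit.hom_ext fun U => by
    refine (φ.ι_glue U).trans ?_
    rw [h]
    exact ((congrArg (· ≫ _) (Spec.map_id _)).trans (Category.id_comp _)).trans (Category.comp_id _).symm

/-- Without derivations, automorphisms of deformations are trivial. -/
theorem iso_hom_eq_id (h0 : ∀ (δ : FamDer x) U s, δ.D U s = 0) (ξ : DefSch X x C) (e : ξ.Iso ξ) :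
    e.iso.hom = 𝟙 ξ.total := by
  have h1 := counit_naturality (Ov.ofIso e)
  rw [glue_hom_eq_id _ (app_eq_id (Ov.ofIso e).sec h0)] at h1
  exact (cancel_epi (counit ξ).iso.hom).1 ((h1.symm.trans (Category.id_comp _)).trans (Category.comp_id _).symm)

section Dual

open Groth.Agent.AffDefLib

theorem smul_eps_eq_zero {D : PDef x (Art.dual k k)} (U : (AffineZariskiSite X)ᵒᵖ) {r : D.R.obj U}
    (hr : (D.q.app U).hom r = 0) : D.a U deps * r = 0 := by
  have := (D.isDef U).ker_le (RingHom.mem_ker.2 hr)
  rw [dual_maximalIdeal, Ideal.map_span, Set.image_singleton, Ideal.mem_span_singleton'] at this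
  obtain ⟨s, rfl⟩ := this
  rw [← mul_comm (D.a U deps) s, ← mul_assoc, ← map_mul, deps_mul_deps, map_zero, zero_mul]

theorem q_eq_zero_of_smul_eps {D : PDef x (Art.dual k k)} (U : (AffineZariskiSite X)ᵒᵖ) {r : D.R.obj U}
    (hr : D.a U deps * r = 0) : (D.q.app U).hom r = 0 := by
  have hl : IsFun (maximalIdeal (Art.dual k k)) (TrivSqZeroExt.sndHom k k : DualNumber k →ₗ[k] k) := fun m hm y hy => by
    rw [Art.mem_maximalIdeal_iff] at hm hy
    have key : ∀ a b : DualNumber k, TrivSqZeroExt.fst a = 0 → TrivSqZeroExt.fst b = 0 →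
        TrivSqZeroExt.snd (a * b) = 0 := fun a b ha hb => by simp [ha, hb]
    exact key m y hm hy
  have h1 := pair_gen (D.isDef U) hl (y := deps) (by rw [dual_maximalIdeal]; exact Ideal.mem_span_singleton_self _) r
  rw [hr, pair_zero] at h1
  have hd : (TrivSqZeroExt.sndHom k k : DualNumber k →ₗ[k] k) deps = (1 : k) := TrivSqZeroExt.snd_inr k 1
  have h2 : str x U.unop ((TrivSqZeroExt.sndHom k k : DualNumber k →ₗ[k] k) deps) = 1 :=
    (congrArg (str x U.unop) hd).trans (map_one _)
  exact ((h1.trans (congrArg₂ (· * ·) h2 rfl)).trans (one_mul _)).symm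

/-- The endomorphism attached to a derivation. -/
def endOf (D : PDef x (Art.dual k k)) (δ : FamDer x) : PHom (𝟙 (Art.dual k k)) D D :=
  let g := fun (U : AffineZariskiSite X) b => (map_qU_surjective D U b).choose
  have hg : ∀ U b, (D.q.app (op U)).hom (g U b) = b := fun U b => (map_qU_surjective D U b).choose_spec
  let d := fun (U : (AffineZariskiSite X)ᵒᵖ) r =>
    D.a U deps * g U.unop (δ.D U.unop ((D.q.app U).hom r))
  have ext : ∀ (U : (AffineZariskiSite X)ᵒᵖ) (b : Γ(X, U.unop.toOpens)) (z : D.R.obj U),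
      (D.q.app U).hom z = b → D.a U deps * g U.unop b = D.a U deps * z := fun U b z e => by
    refine sub_eq_zero.1 ((mul_sub _ _ _).symm.trans (smul_eps_eq_zero U ?_))
    rw [map_sub, e]
    exact sub_eq_zero.2 (hg U.unop b)
  { app :=
      { app := fun U => CommRingCat.ofHom
          { toFun := fun r => r + d U r
            map_zero' := by
              rw [show d U 0 = D.a U deps * 0 from ext U _ 0 (by simp only [map_zero]), mul_zero, add_zero]
            map_one' := by
              have h1 : δ.D U.unop 1 = 0 := by rw [← map_one (str x U.unop)]; exact δ.const _ _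
              rw [show d U 1 = D.a U deps * 0 from ext U _ 0 (by rw [map_one, map_zero]; exact h1.symm), mul_zero, add_zero]
            map_add' := fun r r' => by
              rw [show d U (r + r') = D.a U deps * (g U.unop (δ.D U.unop ((D.q.app U).hom r)) +
                g U.unop (δ.D U.unop ((D.q.app U).hom r'))) from ext U _ _ (by
                  rw [map_add, map_add, map_add]; exact congrArg₂ (· + ·) (hg _ _) (hg _ _))]
              ring
            map_mul' := fun r r' => by
              rw [show d U (r * r') = D.a U deps * (r * g U.unop (δ.D U.unop ((D.q.app U).hom r')) +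
                r' * g U.unop (δ.D U.unop ((D.q.app U).hom r))) from ext U _ _ (by
                  rw [map_add, map_mul, map_mul, map_mul]
                  exact (congrArg₂ (· + ·) (congrArg _ (hg _ _)) (congrArg _ (hg _ _))).trans (δ.mul _ _ _).symm)]
              have h2 : D.a U deps * D.a U deps = 0 := by rw [← map_mul, deps_mul_deps, map_zero]
              linear_combination (-(g U.unop (δ.D U.unop ((D.q.app U).hom r)) *
                g U.unop (δ.D U.unop ((D.q.app U).hom r')))) * h2 }
        naturality := fun U V i => CommRingCat.hom_ext (RingHom.ext fun r => by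
          show (D.R.map i).hom r + d V ((D.R.map i).hom r) = (D.R.map i).hom (r + d U r)
          rw [map_add, map_mul, show (D.R.map i).hom (D.a U deps) = D.a V deps from D.a_map i deps]
          congr 1
          refine ext V _ _ ?_
          rw [D.q_map i, D.q_map i, hg U.unop]
          exact (δ.res i.unop.le _).symm) }
    comm := fun U c => by
      show D.a U c + d U (D.a U c) = D.a U c
      rw [show d U (D.a U c) = D.a U deps * 0 from ext U _ 0 ((map_zero _).trans
        ((δ.const _ _).symm.trans (congrArg (δ.D U.unop) ((D.isDef U).comm c).symm))), mul_zero, add_zero]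
    q_app := NatTrans.ext (funext fun U => CommRingCat.hom_ext (RingHom.ext fun r => by
      show (D.q.app U).hom (r + d U r) = (D.q.app U).hom r
      refine (map_add _ _ _).trans (add_eq_left.2 ((map_mul _ _ _).trans ?_))
      exact mul_eq_zero_of_left (((D.isDef U).comm deps).trans ((congrArg (str x U.unop)
        (show (Art.dual k k).res deps = (0 : k) from TrivSqZeroExt.fst_inr k 1)).trans (map_zero _))) _)) }

theorem eq_zero_of_glue_eq_id (D : PDef x (Art.dual k k)) (δ : FamDer x) (h : (endOf D δ).glue.hom = 𝟙 _)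
    (U : AffineZariskiSite X) (s : Γ(X, U.toOpens)) : δ.D U s = 0 := by
  obtain ⟨r, rfl⟩ := map_qU_surjective D U s
  have h1 := (endOf D δ).ι_glue U
  rw [h] at h1
  have h2 : Spec.map ((endOf D δ).app.app (op U)) = 𝟙 _ :=
    (cancel_mono (colimit.ι D.diagram U)).1 (h1.symm.trans ((Category.comp_id _).trans (Category.id_comp _).symm))
  have h3 : (endOf D δ).app.app (op U) = 𝟙 _ := Spec.map_injective (h2.trans (Spec.map_id _).symm)
  have h4 : r + D.a (op U) deps * _ = r := ConcreteCategory.congr_hom h3 r
  exact ((map_qU_surjective D U _).choose_spec).symm.trans (q_eq_zero_of_smul_eps (op U) (add_eq_left.1 h4))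

end Dual

end Groth.Agent.DefGlueLib
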