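import Groth.Agent.DefGlueLib.SqExt
import Mathlib.Algebra.MvPolynomial.Derivation
import Mathlib.RingTheory.Smooth.Basic
import Mathlib.RingTheory.Localization.Away.Basic
import Mathlib.RingTheory.Jacobson.Artinian
import Mathlib.RingTheory.Jacobson.Ring
import Mathlib.RingTheory.Spectrum.Prime.RingHom
import Mathlib.RingTheory.FiniteType
import Mathlib.RingTheory.Polynomial.Basic

/-! Finiteness of `T¹` of an affine algebra with isolated non-smooth points. -/

universe u

open TrivSqZeroExt

noncomputable section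

namespace Groth.Agent.DefGlueLib

attribute [local instance 10] SqExt.opModule SqExt.opCentral

variable {k B : Type u} [Field k] [CommRing B] [Algebra k B] {n : ℕ}
  [Algebra (MvPolynomial (Fin n) k) B] [IsScalarTower k (MvPolynomial (Fin n) k) B]

/-- The derivation submodule of `Hom(I, B)`. -/
def derRange (k B : Type u) [Field k] [CommRing B] [Algebra k B] (P : Type u) [CommRing P] [Algebra k P]
    [Algebra P B] [IsScalarTower k P B] :
    Submodule B (SqExt.rel P B →ₗ[P] B) where
  carrier := {h | ∃ D : Derivation k P B, ∀ g, h g = D g.1}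
  add_mem' := fun ⟨D, hD⟩ ⟨D', hD'⟩ => ⟨D + D', fun g => by simp [hD, hD']⟩
  zero_mem' := ⟨0, fun g => by simp⟩
  smul_mem' := fun b h ⟨D, hD⟩ => ⟨b • D, fun g => by simp [hD]⟩

theorem mem_derRange {P : Type u} [CommRing P] [Algebra k P] [Algebra P B] [IsScalarTower k P B]
    {h : SqExt.rel P B →ₗ[P] B} : h ∈ derRange k B P ↔ ∃ D : Derivation k P B, ∀ g, h g = D g.1 :=
  Iff.rfl

section Abstract

variable {E : Type u} [CommRing E] [Algebra k E] (proj : E →ₐ[k] B) (incl : B →+ E)

theorem derivation_of_diff {L : Type u} [CommRing L] [Algebra k L] (σ τ : MvPolynomial (Fin n) k →ₐ[k] L)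
    (ι : B →+ L) (hτ : ∀ p b, τ p * ι b = ι (algebraMap (MvPolynomial (Fin n) k) B p * b))
    (hsq : ∀ p q, (σ p - τ p) * (σ q - τ q) = 0) (b : Fin n → B)
    (hb : ∀ i, σ (MvPolynomial.X i) - τ (MvPolynomial.X i) = ι (b i)) (p : MvPolynomial (Fin n) k) :
    σ p - τ p = ι (MvPolynomial.mkDerivation k b p) := by
  induction p using MvPolynomial.induction_on with
  | C c =>
    rw [show MvPolynomial.C c = algebraMap k (MvPolynomial (Fin n) k) c from rfl, AlgHom.commutes,
      AlgHom.commutes, Derivation.map_algebraMap, map_zero, sub_self]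
  | add p q hp hq => rw [map_add, map_add, add_sub_add_comm, hp, hq, map_add, map_add]
  | mul_X p i hp =>
    have e2 := hsq p (MvPolynomial.X i)
    have e3 := hτ p (b i)
    have e4 := hτ (MvPolynomial.X i) (MvPolynomial.mkDerivation k b p)
    rw [← hb] at e3
    rw [← hp] at e4
    rw [map_mul, map_mul, Derivation.leibniz, MvPolynomial.mkDerivation_X, Algebra.smul_def, Algebra.smul_def,
      map_add, ← e3, ← e4]
    linear_combination e2

theorem exists_derivation (hs : Function.Surjective proj) (hinj : Function.Injective incl)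
    (hexact : ∀ e, proj e = 0 → ∃ b, incl b = e) (hmul : ∀ e b, e * incl b = incl (proj e * b))
    (hproj : ∀ b, proj (incl b) = 0) (hat : MvPolynomial (Fin n) k →ₐ[k] E)
    (hhat : ∀ p, proj (hat p) = algebraMap (MvPolynomial (Fin n) k) B p) (f : B)
    (fP : MvPolynomial (Fin n) k) (hfP : algebraMap (MvPolynomial (Fin n) k) B fP = f)
    [Algebra.FormallySmooth k (Localization.Away f)] :
    ∃ (N : ℕ) (D : Derivation k (MvPolynomial (Fin n) k) B), ∀ g b,
      algebraMap (MvPolynomial (Fin n) k) B g = 0 → hat g = incl b → ∃ j, f ^ j * (f ^ N * b + D g) = 0 := by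
  let fh : E := hat fP
  have hfh : proj fh = f := (hhat fP).trans hfP
  let L := Localization.Away fh
  have hu : IsUnit (((algebraMap B (Localization.Away f)).comp proj.toRingHom) fh) := by
    change IsUnit (algebraMap B (Localization.Away f) (proj fh))
    rw [hfh]
    exact IsLocalization.Away.algebraMap_isUnit f
  let qL₀ : L →+* Localization.Away f := IsLocalization.Away.lift fh hu
  have hqι : ∀ e, qL₀ (algebraMap E L e) = algebraMap B _ (proj e) := fun e =>
    IsLocalization.Away.lift_eq fh hu e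
  let qL : L →ₐ[k] Localization.Away f :=
    { qL₀ with
      commutes' := fun c => by
        change qL₀ (algebraMap k L c) = _
        rw [IsScalarTower.algebraMap_apply k E L, hqι, AlgHom.commutes,
          ← IsScalarTower.algebraMap_apply k B (Localization.Away f)] }
  let u : L := IsLocalization.Away.invSelf fh
  have hfu : algebraMap E L fh * u = 1 := IsLocalization.Away.mul_invSelf fh
  have hpow : ∀ N, algebraMap E L fh ^ N * u ^ N = 1 := fun N => by rw [← mul_pow, hfu, one_pow]
  have hincl : ∀ (e : E) (b : B), algebraMap E L e * algebraMap E L (incl b) =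
      algebraMap E L (incl (proj e * b)) := fun e b => by rw [← map_mul, hmul]
  have hfincl : ∀ (N : ℕ) (b : B), algebraMap E L fh ^ N * algebraMap E L (incl b) =
      algebraMap E L (incl (f ^ N * b)) := fun N b => by
    rw [← map_pow, hincl, map_pow, hfh]
  have hker : ∀ z, qL z = 0 → ∃ N b, z = algebraMap E L (incl b) * u ^ N := fun z hz => by
    obtain ⟨N, e, he⟩ := IsLocalization.Away.surj fh z
    have h1 : algebraMap B (Localization.Away f) (proj e) = 0 := by
      rw [← hqι, ← he, map_mul, show qL₀ z = 0 from hz, zero_mul]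
    obtain ⟨j, hj⟩ := IsLocalization.Away.exists_of_eq f (h1.trans (map_zero _).symm)
    rw [mul_zero] at hj
    obtain ⟨b, hb⟩ := hexact (fh ^ j * e) (by rw [map_mul, map_pow, hfh, hj])
    refine ⟨N + j, b, ?_⟩
    rw [hb, map_mul, map_pow, ← he]
    calc z = z * ((algebraMap E L fh ^ N * u ^ N) * (algebraMap E L fh ^ j * u ^ j)) := by
          rw [hpow, hpow, one_mul, mul_one]
      _ = _ := by rw [pow_add]; ring
  have hsq : ∀ z z', qL z = 0 → qL z' = 0 → z * z' = 0 := fun z z' hz hz' => by
    obtain ⟨N, b, rfl⟩ := hker z hz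
    obtain ⟨N', b', rfl⟩ := hker z' hz'
    rw [mul_mul_mul_comm, hincl, hproj, zero_mul, map_zero, map_zero, zero_mul]
  have hsurj : Function.Surjective qL := fun y => by
    obtain ⟨N, a, ha⟩ := IsLocalization.Away.surj f y
    obtain ⟨e, rfl⟩ := hs a
    refine ⟨algebraMap E L e * u ^ N, ?_⟩
    have hN : qL₀ (u ^ N) * algebraMap B (Localization.Away f) f ^ N = 1 := by
      have h2 := congrArg qL₀ (hpow N)
      rw [map_mul, map_pow qL₀ (algebraMap E L fh), hqι, hfh, map_one] at h2
      rw [mul_comm]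
      exact h2
    change qL₀ _ = y
    rw [map_mul, hqι, ← ha, mul_assoc, mul_comm (algebraMap B _ f ^ N), hN, mul_one]
  have hnil : IsNilpotent (RingHom.ker (qL : L →+* Localization.Away f)) := by
    refine ⟨2, ?_⟩
    rw [pow_two, Ideal.zero_eq_bot, eq_bot_iff, Ideal.mul_le]
    intro z hz z' hz'
    rw [Ideal.mem_bot]
    exact hsq z z' hz hz'
  let s : Localization.Away f →ₐ[k] L :=
    Algebra.FormallySmooth.liftOfSurjective (AlgHom.id k _) qL hsurj hnil
  have hqs : ∀ y, qL (s y) = y := fun y =>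
    Algebra.FormallySmooth.liftOfSurjective_apply (AlgHom.id k _) qL hsurj hnil y
  let σ : MvPolynomial (Fin n) k →ₐ[k] L :=
    s.comp ((IsScalarTower.toAlgHom k B (Localization.Away f)).comp
      (IsScalarTower.toAlgHom k (MvPolynomial (Fin n) k) B))
  let τ : MvPolynomial (Fin n) k →ₐ[k] L := (IsScalarTower.toAlgHom k E L).comp hat
  have hστ : ∀ p, qL (σ p - τ p) = 0 := fun p => by
    rw [map_sub, sub_eq_zero]
    exact (hqs _).trans ((congrArg (algebraMap B (Localization.Away f)) (hhat p)).symm.trans (hqι _).symm)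
  choose N₀ b₀ hb₀ using fun i => hker _ (hστ (MvPolynomial.X i))
  let N := ∑ i, N₀ i
  have hb : ∀ i, σ (MvPolynomial.X i) - τ (MvPolynomial.X i) =
      algebraMap E L (incl (f ^ (N - N₀ i) * b₀ i)) * u ^ N := fun i => by
    have hle : N₀ i ≤ N := Finset.single_le_sum (fun j _ => Nat.zero_le (N₀ j)) (Finset.mem_univ i)
    calc σ (MvPolynomial.X i) - τ (MvPolynomial.X i)
        = (algebraMap E L fh ^ (N - N₀ i) * u ^ (N - N₀ i)) *
            (algebraMap E L (incl (b₀ i)) * u ^ N₀ i) := by rw [hpow, one_mul]; exact hb₀ i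
      _ = (algebraMap E L fh ^ (N - N₀ i) * algebraMap E L (incl (b₀ i))) *
            (u ^ (N - N₀ i) * u ^ N₀ i) := by ring
      _ = _ := by rw [hfincl, ← pow_add, Nat.sub_add_cancel hle]
  let ι : B →+ L := (AddMonoidHom.mulRight (u ^ N)).comp ((algebraMap E L).toAddMonoidHom.comp incl)
  let D := MvPolynomial.mkDerivation k fun i => f ^ (N - N₀ i) * b₀ i
  have hD : ∀ p, σ p - τ p = ι (D p) := derivation_of_diff σ τ ι (fun p b => by
      change algebraMap E L (hat p) * (algebraMap E L (incl b) * u ^ N) = _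
      rw [← mul_assoc, hincl, hhat]
      rfl) (fun p q => hsq _ _ (hστ p) (hστ q)) _ hb
  refine ⟨N, D, fun g b hg hb' => ?_⟩
  have e1 : σ g = 0 := by
    change s (algebraMap B (Localization.Away f) (algebraMap _ B g)) = 0
    rw [hg, map_zero, map_zero]
  have e2 : τ g = algebraMap E L (incl b) := congrArg (algebraMap E L) hb'
  have e5 := hD g
  rw [e1, e2, zero_sub] at e5
  have e4 : algebraMap E L (incl (f ^ N * b + D g)) = 0 := by
    rw [map_add, map_add, ← hfincl]
    calc algebraMap E L fh ^ N * algebraMap E L (incl b) + algebraMap E L (incl (D g))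
        = algebraMap E L fh ^ N * algebraMap E L (incl b) +
            (algebraMap E L fh ^ N * u ^ N) * algebraMap E L (incl (D g)) := by rw [hpow, one_mul]
      _ = algebraMap E L fh ^ N * (algebraMap E L (incl b) + ι (D g)) := by
          change _ = algebraMap E L fh ^ N * (_ + algebraMap E L (incl (D g)) * u ^ N)
          ring
      _ = 0 := by rw [← e5, add_neg_cancel, mul_zero]
  obtain ⟨j, hj⟩ := IsLocalization.Away.exists_of_eq fh (e4.trans (map_zero _).symm)
  refine ⟨j, hinj ?_⟩
  rw [map_zero, ← hfh, ← map_pow, ← hmul, hfh, hj, mul_zero]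

end Abstract

theorem exists_pow_smul_mem (hs : Function.Surjective (algebraMap (MvPolynomial (Fin n) k) B)) (f : B)
    [Algebra.FormallySmooth k (Localization.Away f)]
    (h : SqExt.rel (MvPolynomial (Fin n) k) B →ₗ[MvPolynomial (Fin n) k] B) :
    ∃ m, f ^ m • h ∈ derRange k B (MvPolynomial (Fin n) k) := by
  let P := MvPolynomial (Fin n) k
  obtain ⟨fP, hfP⟩ := hs f
  letI : Algebra k (SqExt.E h) := ((SqExt.mkE h).comp ((inlHom P B).comp (algebraMap k P))).toAlgebra
  let hat : P →ₐ[k] SqExt.E h := { (SqExt.mkE h).comp (inlHom P B) with commutes' := fun c => rfl }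
  have hproj : ∀ p, SqExt.proj h (hat p) = algebraMap P B p := fun p => by
    change SqExt.proj h (SqExt.mkE h (inl p)) = _
    simp
    rfl
  let proj : SqExt.E h →ₐ[k] B :=
    { SqExt.proj h with
      commutes' := fun c => (hproj (algebraMap k P c)).trans (IsScalarTower.algebraMap_apply k P B c).symm }
  obtain ⟨N, D, hND⟩ := exists_derivation proj (SqExt.incl h) (SqExt.proj_surjective h hs)
    (SqExt.incl_injective h) (SqExt.exists_incl h) (SqExt.mul_incl h) (SqExt.proj_incl h) hat hproj f fP hfP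
  have hrel : ∀ g : SqExt.rel P B, ∃ j, f ^ j * (f ^ N * h g - D g.1) = 0 := fun g => by
    have e2 : SqExt.mkE h (inl g.1) + SqExt.mkE h (inr (h g)) = 0 := by
      rw [← map_add]
      exact Ideal.Quotient.eq_zero_iff_mem.2 ⟨g, rfl⟩
    obtain ⟨j, hj⟩ := hND g.1 (- h g) g.2
      ((eq_neg_of_add_eq_zero_left e2).trans (map_neg (SqExt.incl h) _).symm)
    exact ⟨j, by linear_combination -hj⟩
  obtain ⟨S, hS⟩ := (IsNoetherian.noetherian (SqExt.rel P B : Ideal P))
  choose j hj using hrel
  have hmem : ∀ g ∈ S, g ∈ SqExt.rel P B := fun g hg => hS.le (Submodule.subset_span hg)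
  let J := ∑ g ∈ S.attach, j ⟨g.1, hmem g.1 g.2⟩
  refine ⟨J + N, mem_derRange.2 ⟨f ^ J • D, ?_⟩⟩
  rintro ⟨g, hg⟩
  have hg' : g ∈ Submodule.span P (S : Set P) := hS.ge hg
  change f ^ (J + N) * h ⟨g, hg⟩ = f ^ J * D g
  suffices H : f ^ J * (f ^ N * h ⟨g, hg⟩ - D g) = 0 by
    rw [mul_sub, sub_eq_zero] at H
    rw [pow_add, mul_assoc, H]
  induction hg' using Submodule.span_induction with
  | mem g hgS =>
    have hle : j ⟨g, hg⟩ ≤ J :=
      Finset.single_le_sum (f := fun g : S => j ⟨g.1, hmem g.1 g.2⟩) (fun _ _ => Nat.zero_le _)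
        (Finset.mem_attach S ⟨g, hgS⟩)
    rw [← Nat.sub_add_cancel hle, pow_add, mul_assoc]
    exact (congrArg (f ^ (J - j ⟨g, hg⟩) * ·) (hj ⟨g, hg⟩)).trans (mul_zero _)
  | zero =>
    rw [show (⟨0, hg⟩ : SqExt.rel P B) = 0 from rfl, map_zero]
    simp
  | add g g' hgS hg'S ihg ihg' =>
    have m₁ : g ∈ SqExt.rel P B := hS.le hgS
    have m₂ : g' ∈ SqExt.rel P B := hS.le hg'S
    rw [show (⟨g + g', hg⟩ : SqExt.rel P B) = ⟨g, m₁⟩ + ⟨g', m₂⟩ from rfl, map_add, map_add]
    linear_combination ihg m₁ + ihg' m₂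
  | smul p g hgS ihg =>
    have m₁ : g ∈ SqExt.rel P B := hS.le hgS
    have hg0 : algebraMap P B g = 0 := m₁
    rw [show (⟨p • g, hg⟩ : SqExt.rel P B) = p • ⟨g, m₁⟩ from rfl, map_smul, smul_eq_mul p g,
      Derivation.leibniz, Algebra.smul_def, Algebra.smul_def, Algebra.smul_def, hg0, zero_mul, add_zero]
    linear_combination algebraMap P B p * ihg m₁

theorem finite_quotient (hs : Function.Surjective (algebraMap (MvPolynomial (Fin n) k) B)) (S : Set B)
    (hsm : ∀ f ∈ S, Algebra.FormallySmooth k (Localization.Away f))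
    (hfin : (PrimeSpectrum.zeroLocus S).Finite) :
    Module.Finite k ((SqExt.rel (MvPolynomial (Fin n) k) B →ₗ[MvPolynomial (Fin n) k] B) ⧸
      (derRange k B (MvPolynomial (Fin n) k))) := by
  classical
  let P := MvPolynomial (Fin n) k
  have : Algebra.FiniteType k B :=
    Algebra.FiniteType.of_surjective (IsScalarTower.toAlgHom k P B) hs
  have : IsNoetherianRing B := Algebra.FiniteType.isNoetherianRing k B
  obtain ⟨G, hG⟩ := (IsNoetherian.noetherian (SqExt.rel P B : Ideal P))
  have hmem : ∀ g ∈ G, g ∈ SqExt.rel P B := fun g hg => hG.le (Submodule.subset_span hg)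
  let H := (SqExt.rel P B →ₗ[P] B)
  let ev : H →ₗ[B] (G → B) :=
    { toFun := fun h g => h ⟨g.1, hmem g.1 g.2⟩
      map_add' := fun h h' => rfl
      map_smul' := fun b h => rfl }
  have hev : Function.Injective ev := fun h h' e => by
    refine LinearMap.ext fun ⟨g, hg⟩ => ?_
    have hg' : g ∈ Submodule.span P (G : Set P) := hG.ge hg
    induction hg' using Submodule.span_induction with
    | mem g hgS => exact congrFun e ⟨g, hgS⟩
    | zero => rw [show (⟨0, hg⟩ : SqExt.rel P B) = 0 from rfl, map_zero, map_zero]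
    | add g g' hgS hg'S ihg ihg' =>
      rw [show (⟨g + g', hg⟩ : SqExt.rel P B) = ⟨g, hG.le hgS⟩ + ⟨g', hG.le hg'S⟩ from rfl, map_add, map_add,
        ihg (hG.le hgS), ihg' (hG.le hg'S)]
    | smul p g hgS ihg =>
      rw [show (⟨p • g, hg⟩ : SqExt.rel P B) = p • ⟨g, hG.le hgS⟩ from rfl, map_smul, map_smul,
        ihg (hG.le hgS)]
  have : Module.Finite B H := Module.Finite.of_injective ev hev
  obtain ⟨T, hT⟩ := (Module.Finite.fg_top (R := B) (M := H ⧸ derRange k B P))
  have hkill : ∀ f ∈ S, ∃ m, ∀ z : H ⧸ derRange k B P, f ^ m • z = 0 := fun f hf => by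
    have := hsm f hf
    choose m hm using fun h : H => exists_pow_smul_mem hs f h
    choose rep hrep using fun z : H ⧸ derRange k B P => Submodule.Quotient.mk_surjective _ z
    refine ⟨∑ z ∈ T, m (rep z), fun z => ?_⟩
    have hz : z ∈ Submodule.span B (T : Set (H ⧸ derRange k B P)) := hT.ge trivial
    induction hz using Submodule.span_induction with
    | mem z hzT =>
      rw [← Nat.sub_add_cancel (Finset.single_le_sum (f := fun z => m (rep z)) (fun _ _ => Nat.zero_le _) hzT),
        pow_add, mul_smul, ← hrep z, ← Submodule.Quotient.mk_smul]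
      rw [hrep z, (Submodule.Quotient.mk_eq_zero _).2 (hm (rep z)), smul_zero]
    | zero => exact smul_zero _
    | add a b _ _ iha ihb => rw [smul_add, iha, ihb, add_zero]
    | smul b a _ iha => rw [smul_comm, iha, smul_zero]
  choose! m hm using hkill
  let I : Ideal B := Ideal.span ((fun f => f ^ m f) '' S)
  have hI : Module.IsTorsionBySet B (H ⧸ derRange k B P) I := by
    intro z ⟨a, ha⟩
    change a • z = 0
    induction ha using Submodule.span_induction with
    | mem a ha => obtain ⟨f, hf, rfl⟩ := ha; exact hm f hf z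
    | zero => exact zero_smul _ _
    | add a b _ _ iha ihb => rw [add_smul, iha, ihb, add_zero]
    | smul b a _ iha => rw [smul_assoc, iha, smul_zero]
  let _ := hI.module
  have : Module.Finite (B ⧸ I) (H ⧸ derRange k B P) := Module.Finite.of_restrictScalars_finite B _ _
  have : Finite (PrimeSpectrum (B ⧸ I)) := by
    have hsub : Set.range (PrimeSpectrum.comap (Ideal.Quotient.mk I)) ⊆ PrimeSpectrum.zeroLocus S := by
      rintro _ ⟨p, rfl⟩ f hf
      refine (PrimeSpectrum.comap (Ideal.Quotient.mk I) p).2.mem_of_pow_mem (m f) ?_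
      change Ideal.Quotient.mk I (f ^ m f) ∈ p.asIdeal
      rw [Ideal.Quotient.eq_zero_iff_mem.2 (Ideal.subset_span (Set.mem_image_of_mem (fun f => f ^ m f) hf))]
      exact zero_mem _
    have := (hfin.subset hsub).to_subtype
    exact Finite.of_injective _ (Set.rangeFactorization_injective.2
      (PrimeSpectrum.comap_injective_of_surjective _ Ideal.Quotient.mk_surjective))
  have : IsArtinianRing (B ⧸ I) := by
    have : IsJacobsonRing (B ⧸ I) := isJacobsonRing_of_finiteType (A := k)
    refine isArtinianRing_iff_isNoetherianRing_krullDimLE_zero.2 ⟨inferInstance, ?_⟩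
    refine Ring.KrullDimLE.mk₀ fun p hp => ?_
    have hj : p.jacobson = p := IsJacobsonRing.out' p (Ideal.IsPrime.isRadical hp)
    have : Finite {q : Ideal (B ⧸ I) // p ≤ q ∧ q.IsMaximal} :=
      Finite.of_injective (fun q => (⟨q.1, q.2.2.isPrime⟩ : PrimeSpectrum (B ⧸ I))) fun q q' e =>
        Subtype.ext (congrArg PrimeSpectrum.asIdeal e)
    let _ := Fintype.ofFinite {q : Ideal (B ⧸ I) // p ≤ q ∧ q.IsMaximal}
    have h1 : (Finset.univ.inf fun q : {q : Ideal (B ⧸ I) // p ≤ q ∧ q.IsMaximal} => q.1) ≤ p := by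
      conv_rhs => rw [← hj]
      refine le_sInf fun q hq => ?_
      exact Finset.inf_le (f := fun q : {q : Ideal (B ⧸ I) // p ≤ q ∧ q.IsMaximal} => q.1)
        (Finset.mem_univ ⟨q, hq⟩)
    obtain ⟨q, -, hqp⟩ := (Ideal.IsPrime.inf_le' hp).1 h1
    exact le_antisymm q.2.1 hqp ▸ q.2.2
  have : Module.Finite k (B ⧸ I) := Module.finite_of_isArtinianRing k (B ⧸ I)
  exact Module.Finite.trans (B ⧸ I) _

end Groth.Agent.DefGlueLib
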