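import Groth.Agent.DefGlueLib.Alg
import Groth.Agent.AffDefLib.Basic
import Groth.Prelude.Def_ArtFun4
import Mathlib.AlgebraicGeometry.Sites.SmallAffineZariski
import Mathlib.AlgebraicGeometry.Morphisms.Flat

/-! Gluing compatible deformations of the affine pieces of a scheme. -/

universe u

open CategoryTheory CategoryTheory.Limits AlgebraicGeometry Opposite ArtFun

noncomputable section

namespace Groth.Agent.DefGlueLib

open Scheme (AffineZariskiSite)

variable {Λ k : Type u} [CommRing Λ] [Field k] [Algebra Λ k]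
variable {X : Scheme.{u}} (x : X ⟶ Art.specPt k)

/-- The structure map of the sections over an affine open. -/
abbrev str (U : AffineZariskiSite X) : k →+* Γ(X, U.toOpens) :=
  ((Scheme.ΓSpecIso (CommRingCat.of k)).inv ≫ x.appLE ⊤ U.toOpens le_top).hom

theorem toSpecΓ_str (U : AffineZariskiSite X) :
    U.toOpens.toSpecΓ ≫ Spec.map (CommRingCat.ofHom (str x U)) = U.toOpens.ι ≫ x := by
  have h := IsAffineOpen.SpecMap_appLE_fromSpec x (isAffineOpen_top (Art.specPt k)) U.2 le_top
  rw [IsAffineOpen.fromSpec_top, Scheme.isoSpec_Spec_inv] at h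
  change U.toOpens.toSpecΓ ≫ Spec.map ((Scheme.ΓSpecIso (CommRingCat.of k)).inv ≫ x.appLE ⊤ U.toOpens le_top) = _
  rw [Spec.map_comp, h, ← IsAffineOpen.isoSpec_hom U.2, ← Category.assoc,
    IsAffineOpen.isoSpec_hom_fromSpec]

theorem str_res {U V : AffineZariskiSite X} (h : V ≤ U) :
    (X.presheaf.map (homOfLE (AffineZariskiSite.toOpens_mono h)).op).hom.comp (str x U) = str x V := by
  rw [← CommRingCat.hom_comp, Category.assoc]
  exact congrArg (fun g => ((Scheme.ΓSpecIso (CommRingCat.of k)).inv ≫ g).hom) (Scheme.Hom.appLE_map x _ _)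

/-- Compatible deformations of the affine pieces. -/
structure PDef (C : Art Λ k) : Type (u + 1) where
  /-- the algebras -/
  R : (AffineZariskiSite X)ᵒᵖ ⥤ CommRingCat.{u}
  /-- structure maps -/
  a : ∀ U, C →+* R.obj U
  a_map : ∀ {U V} (f : U ⟶ V) (c : C), R.map f (a U c) = a V c
  /-- reduction to the closed fibre -/
  q : R ⟶ (AffineZariskiSite.toOpensFunctor X).op ⋙ X.presheaf
  isDef : ∀ U : (AffineZariskiSite X)ᵒᵖ, IsDef C (str x U.unop) (a U) (q.app U).hom

variable {x} {C : Art Λ k} (D : PDef x C)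

namespace PDef

theorem q_map {U V : (AffineZariskiSite X)ᵒᵖ} (f : U ⟶ V) (r : D.R.obj U) :
    (D.q.app V).hom (D.R.map f r) =
      (X.presheaf.map ((AffineZariskiSite.toOpensFunctor X).op.map f)).hom ((D.q.app U).hom r) :=
  ConcreteCategory.congr_hom (D.q.naturality f) r

/-- The reduction on an affine piece. -/
abbrev qU (U : AffineZariskiSite X) : D.R.obj (op U) ⟶ Γ(X, U.toOpens) := D.q.app (op U)

theorem qU_map {V U : AffineZariskiSite X} (h : V ⟶ U) :
    D.R.map h.op ≫ D.qU V = D.qU U ≫ X.presheaf.map (homOfLE (AffineZariskiSite.toOpens_mono h.le)).op :=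
  D.q.naturality h.op

/-- The diagram of spectra. -/
abbrev diagram : AffineZariskiSite X ⥤ Scheme.{u} := D.R.rightOp ⋙ Scheme.Spec

instance isOpenImmersion_map {V U : AffineZariskiSite X} (h : V ⟶ U) :
    IsOpenImmersion (D.diagram.map h) := by
  obtain ⟨f, hf⟩ := id h.le
  obtain ⟨r, hr⟩ := (D.isDef (op U)).surjective f
  let _ := (D.R.map h.op).hom.toAlgebra
  have hloc : IsLocalization.Away r (D.R.obj (op V)) :=
    (D.isDef (op U)).isLocalization_away (X.presheaf.map (homOfLE (AffineZariskiSite.toOpens_mono h.le)).op).hom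
      (by rw [str_res x h.le]; exact D.isDef (op V)) (D.R.map h.op).hom (D.a_map h.op) (D.q_map h.op) r
      (by
        subst hr
        exact U.2.isLocalization_of_eq_basicOpen _ _ hf.symm)
  exact IsOpenImmersion.of_isLocalization (R := D.R.obj (op U)) (S := D.R.obj (op V)) r

/-- The comparison with the affine piece of `X`. -/
def θ (U : AffineZariskiSite X) : (U.toOpens : Scheme.{u}) ⟶ D.diagram.obj U :=
  U.toOpens.toSpecΓ ≫ Spec.map (D.qU U)

theorem homOfLE_θ {V U : AffineZariskiSite X} (h : V ⟶ U) :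
    X.homOfLE (AffineZariskiSite.toOpens_mono h.le) ≫ D.θ U = D.θ V ≫ D.diagram.map h := by
  change _ ≫ _ = (V.toOpens.toSpecΓ ≫ Spec.map (D.qU V)) ≫ Spec.map (D.R.map h.op)
  rw [θ, ← Category.assoc, ← Scheme.Opens.toSpecΓ_SpecMap_presheaf_map, Category.assoc, Category.assoc]
  congr 1
  exact (Spec.map_comp _ _).symm.trans ((congrArg Spec.map (D.qU_map h).symm).trans (Spec.map_comp _ _))

theorem bijective_θ (U : AffineZariskiSite X) : Function.Bijective (D.θ U) := by
  have hs := (D.isDef (op U)).surjective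
  have : IsClosedImmersion (Spec.map (D.qU U)) := IsClosedImmersion.spec_of_surjective _ hs
  have h1 : Function.Bijective U.toOpens.toSpecΓ := by
    have : IsIso U.toOpens.toSpecΓ := by rw [← U.2.isoSpec_hom]; infer_instance
    exact (U.toOpens.toSpecΓ.homeomorph).bijective
  refine Function.Bijective.comp (g := Spec.map (D.qU U)) ⟨(Spec.map _).isClosedEmbedding.injective, fun p => ?_⟩ h1
  have hnil : RingHom.ker (D.q.app (op U)).hom ≤ p.asIdeal := fun r hr => by
    obtain ⟨n, hn⟩ := IsArtinianRing.isNilpotent_jacobson_bot (R := C)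
    rw [IsLocalRing.jacobson_eq_maximalIdeal ⊥ bot_ne_top] at hn
    refine p.2.mem_of_pow_mem n ?_
    have := Ideal.pow_mem_pow ((D.isDef (op U)).ker_le hr) n
    rw [← Ideal.map_pow, hn, Submodule.zero_eq_bot, Ideal.map_bot, Ideal.mem_bot] at this
    rw [this]
    exact p.asIdeal.zero_mem
  have hp : p ∈ Set.range (PrimeSpectrum.comap (D.qU U).hom) :=
    (Set.ext_iff.1 (_root_.range_comap_of_surjective _ _ hs) p).2 hnil
  exact hp

instance isLocallyDirected : (D.diagram ⋙ Scheme.forget).IsLocallyDirected where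
  cond {i j k} fi fj xi xj e := by
    obtain ⟨a, rfl⟩ := (D.bijective_θ i).2 xi
    obtain ⟨b, rfl⟩ := (D.bijective_θ j).2 xj
    have ha := congrArg (fun f : (i.toOpens : Scheme.{u}) ⟶ D.diagram.obj k => f a) (D.homOfLE_θ fi)
    have hb := congrArg (fun f : (j.toOpens : Scheme.{u}) ⟶ D.diagram.obj k => f b) (D.homOfLE_θ fj)
    have hab : X.homOfLE (AffineZariskiSite.toOpens_mono fi.le) a =
        X.homOfLE (AffineZariskiSite.toOpens_mono fj.le) b :=
      (D.bijective_θ k).1 (ha.trans (e.trans hb.symm))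
    have hab' : a.1 = b.1 := by
      have := congrArg (fun z : (k.toOpens : Scheme.{u}) => k.toOpens.ι z) hab
      simp [← Scheme.Hom.comp_apply] at this
      exact this
    obtain ⟨f, g, hfg, hf⟩ :=
      exists_basicOpen_le_affine_inter i.2 j.2 a.1 ⟨a.2, hab' ▸ b.2⟩
    refine ⟨i.basicOpen f, homOfLE (i.basicOpen_le f),
      eqToHom (show i.basicOpen f = j.basicOpen g from Subtype.ext hfg) ≫ homOfLE (j.basicOpen_le g), D.θ (i.basicOpen f) ⟨a.1, hf⟩, ?_, ?_⟩
    · refine ((congrArg (fun φ : ((i.basicOpen f).toOpens : Scheme.{u}) ⟶ D.diagram.obj i => φ ⟨a.1, hf⟩)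
        (D.homOfLE_θ (homOfLE (i.basicOpen_le f)))).symm.trans ?_)
      exact congrArg (D.θ i) (Subtype.ext (X.homOfLE_apply _ _))
    · refine ((congrArg (fun φ : ((i.basicOpen f).toOpens : Scheme.{u}) ⟶ D.diagram.obj j => φ ⟨a.1, hf⟩)
        (D.homOfLE_θ (eqToHom (show i.basicOpen f = j.basicOpen g from Subtype.ext hfg) ≫ homOfLE (j.basicOpen_le g)))).symm.trans ?_)
      exact congrArg (D.θ j) (Subtype.ext ((X.homOfLE_apply _ _).trans hab'))

/-- The glued scheme. -/
abbrev glued : Scheme.{u} := colimit D.diagram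

/-- The inclusion of the closed fibre. -/
def incl : X ⟶ D.glued :=
  (AffineZariskiSite.directedCover X).glueMorphismsOfLocallyDirected
    (fun U => D.θ U ≫ colimit.ι D.diagram U) fun {V U} h => by
      change X.homOfLE (AffineZariskiSite.toOpens_mono h.le) ≫ _ = _
      rw [← Category.assoc, D.homOfLE_θ h, Category.assoc, colimit.w]

theorem ι_incl (U : AffineZariskiSite X) : U.toOpens.ι ≫ D.incl = D.θ U ≫ colimit.ι D.diagram U :=
  Scheme.OpenCover.map_glueMorphismsOfLocallyDirected (AffineZariskiSite.directedCover X)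
    (fun U => D.θ U ≫ colimit.ι D.diagram U) (fun {V U} h => by
      change X.homOfLE (AffineZariskiSite.toOpens_mono h.le) ≫ _ = _
      rw [← Category.assoc, D.homOfLE_θ h, Category.assoc, colimit.w]) U

/-- The structure map of the glued scheme. -/
def str' : D.glued ⟶ Art.spec C :=
  colimit.desc D.diagram
    { pt := Art.spec C
      ι :=
        { app := fun U => Spec.map (CommRingCat.ofHom (D.a (op U)))
          naturality := fun V U h => by
            refine ((Spec.map_comp (CommRingCat.ofHom (D.a (op U))) (D.R.map h.op)).symm.trans ?_).trans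
              (Category.comp_id _).symm
            exact congrArg Spec.map (CommRingCat.hom_ext (RingHom.ext fun c => D.a_map h.op c)) } }

theorem ι_str' (U : AffineZariskiSite X) :
    colimit.ι D.diagram U ≫ D.str' = Spec.map (CommRingCat.ofHom (D.a (op U))) :=
  colimit.ι_desc _ _

theorem flat_str' : Flat D.str' := by
  have : IsZariskiLocalAtSource @AlgebraicGeometry.Flat.{u} :=
    HasRingHomProperty.instIsZariskiLocalAtSource (Q := RingHom.Flat)
  refine (IsZariskiLocalAtSource.iff_of_openCover (P := @AlgebraicGeometry.Flat)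
    (Scheme.IsLocallyDirected.openCover D.diagram)).2 fun (U : AffineZariskiSite X) => ?_
  change Flat (colimit.ι D.diagram U ≫ D.str')
  rw [ι_str']
  exact (HasRingHomProperty.Spec_iff (P := @Flat)).2 (D.isDef (op U)).flat

theorem θ_a (U : AffineZariskiSite X) :
    D.θ U ≫ Spec.map (CommRingCat.ofHom (D.a (op U))) = U.toOpens.ι ≫ x ≫ Art.specRes C := by
  rw [θ, Category.assoc, ← Spec.map_comp, ← Category.assoc U.toOpens.ι, ← toSpecΓ_str, Category.assoc,
    ← Spec.map_comp]
  congr 2
  exact CommRingCat.hom_ext (RingHom.ext (D.isDef (op U)).comm)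

theorem incl_str' : D.incl ≫ D.str' = x ≫ Art.specRes C :=
  Scheme.Cover.hom_ext (AffineZariskiSite.directedCover X) _ _ fun U => by
    change U.toOpens.ι ≫ _ = _
    rw [← Category.assoc, ι_incl, Category.assoc, ι_str', θ_a]

theorem incl_mem_range_iff (U : AffineZariskiSite X) (p : X) :
    D.incl p ∈ Set.range (colimit.ι D.diagram U) ↔ p ∈ U.toOpens := by
  have key : ∀ (V : AffineZariskiSite X) (z : (V.toOpens : Scheme.{u})),
      D.incl z.1 = colimit.ι D.diagram V (D.θ V z) := fun V z =>
    congrArg (fun φ : (V.toOpens : Scheme.{u}) ⟶ D.glued => φ z) (D.ι_incl V)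
  constructor
  · rintro ⟨y, hy⟩
    obtain ⟨y', rfl⟩ := (D.bijective_θ U).2 y
    obtain ⟨V', hV⟩ := TopologicalSpace.Opens.mem_iSup.mp ((iSup_affineOpens_eq_top X).ge (Set.mem_univ p))
    let V : AffineZariskiSite X := ⟨V'.1, V'.2⟩
    have h2 := (hy.trans (key V ⟨p, hV⟩))
    obtain ⟨W, fi, fj, w, hw₁, hw₂⟩ := (Scheme.IsLocallyDirected.ι_eq_ι_iff D.diagram).1 h2
    obtain ⟨w', rfl⟩ := (D.bijective_θ W).2 w
    have e₁ : X.homOfLE (AffineZariskiSite.toOpens_mono fi.le) w' = y' := (D.bijective_θ U).1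
      ((congrArg (fun φ : (W.toOpens : Scheme.{u}) ⟶ D.diagram.obj U => φ w') (D.homOfLE_θ fi)).trans hw₁)
    have e₂ : X.homOfLE (AffineZariskiSite.toOpens_mono fj.le) w' = ⟨p, hV⟩ := (D.bijective_θ V).1
      ((congrArg (fun φ : (W.toOpens : Scheme.{u}) ⟶ D.diagram.obj V => φ w') (D.homOfLE_θ fj)).trans hw₂)
    have hp : w'.1 = p := by
      have := congrArg (fun z : (V.toOpens : Scheme.{u}) => V.toOpens.ι z) e₂
      simp [← Scheme.Hom.comp_apply] at this
      exact this
    exact hp ▸ AffineZariskiSite.toOpens_mono fi.le w'.2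
  · intro hp
    exact ⟨D.θ U ⟨p, hp⟩, (key U ⟨p, hp⟩).symm⟩

theorem isPullback_ι (U : AffineZariskiSite X) :
    IsPullback (D.θ U) U.toOpens.ι (colimit.ι D.diagram U) D.incl := by
  refine IsOpenImmersion.isPullback _ _ _ _ (D.ι_incl U) (TopologicalSpace.Opens.ext ?_)
  ext p
  simp only [Scheme.Hom.coe_preimage, Scheme.Hom.coe_opensRange, Set.mem_preimage, Scheme.Opens.range_ι,
    SetLike.mem_coe]
  exact D.incl_mem_range_iff U p

theorem isPullback_θ (U : AffineZariskiSite X) :
    IsPullback (D.θ U) (U.toOpens.ι ≫ x) (Spec.map (CommRingCat.ofHom (D.a (op U)))) (Art.specRes C) := by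
  have h : IsPullback (Spec.map (D.qU U)) (Spec.map (CommRingCat.ofHom (str x U)))
      (Spec.map (CommRingCat.ofHom (D.a (op U)))) (Art.specRes C) :=
    AffDefLib.isPullback_Spec_of_ker (D.a (op U)) C.res.toRingHom (D.q.app (op U)).hom (str x U)
      (RingHom.ext (D.isDef (op U)).comm) C.res_surjective (D.isDef (op U)).surjective (by
        rw [show RingHom.ker C.res.toRingHom = IsLocalRing.maximalIdeal C from
          Ideal.ext fun c => (Art.mem_maximalIdeal_iff C c).symm]
        exact (D.isDef (op U)).ker_le)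
  have hiso : IsIso U.toOpens.toSpecΓ := by rw [← U.2.isoSpec_hom]; infer_instance
  rw [θ, ← toSpecΓ_str]
  exact h.of_iso (asIso U.toOpens.toSpecΓ).symm (Iso.refl _) (Iso.refl _) (Iso.refl _)
    (by simp) (by simp) (by simp) (by simp)

theorem isPullback_incl : IsPullback D.incl x D.str' (Art.specRes C) := by
  let φ : X ⟶ pullback D.str' (Art.specRes C) := pullback.lift D.incl x D.incl_str'
  have : IsIso φ := by
    refine (IsZariskiLocalAtTarget.iff_of_openCover (P := MorphismProperty.isomorphisms Scheme.{u})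
      ((Scheme.IsLocallyDirected.openCover D.diagram).pullback₁
        (pullback.fst D.str' (Art.specRes C)))).2 fun (U : AffineZariskiSite X) => ?_
    change IsIso (pullback.snd φ (pullback.fst (pullback.fst D.str' (Art.specRes C)) (colimit.ι D.diagram U)))
    let W := pullback (pullback.fst D.str' (Art.specRes C)) (colimit.ι D.diagram U)
    let j : W ⟶ D.diagram.obj U := pullback.snd _ _
    let w : W ⟶ pullback D.str' (Art.specRes C) := pullback.fst _ _
    have hW : IsPullback j w (colimit.ι D.diagram U) (pullback.fst D.str' (Art.specRes C)) :=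
      (IsPullback.of_hasPullback _ _).flip
    have hW' : IsPullback j (w ≫ pullback.snd _ _) (Spec.map (CommRingCat.ofHom (D.a (op U))))
        (Art.specRes C) := by
      rw [← ι_str']
      exact IsPullback.paste_vert hW (IsPullback.of_hasPullback _ _)
    let ψ : (U.toOpens : Scheme.{u}) ⟶ W := hW.lift (D.θ U) (U.toOpens.ι ≫ φ) (by
      rw [Category.assoc, pullback.lift_fst, ι_incl])
    have hψ₁ : ψ ≫ j = D.θ U := hW.lift_fst _ _ _
    have hψ₂ : ψ ≫ w = U.toOpens.ι ≫ φ := hW.lift_snd _ _ _
    have hψ : IsIso ψ := by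
      have e : ψ = ((D.isPullback_θ U).isoIsPullback _ _ hW').hom := by
        apply hW'.hom_ext
        · rw [hψ₁, IsPullback.isoIsPullback_hom_fst]
        · rw [IsPullback.isoIsPullback_hom_snd, ← Category.assoc, hψ₂, Category.assoc, pullback.lift_snd]
      rw [e]
      infer_instance
    have h3 : IsPullback U.toOpens.ι ψ φ w := by
      have h4 : IsPullback (ψ ≫ j) U.toOpens.ι (colimit.ι D.diagram U)
          (φ ≫ pullback.fst D.str' (Art.specRes C)) := by
        rw [hψ₁, pullback.lift_fst]
        exact D.isPullback_ι U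
      exact (h4.flip.of_bot hψ₂.symm hW.flip)
    rw [← h3.isoPullback_inv_snd]
    infer_instance
  exact IsPullback.of_iso_pullback ⟨D.incl_str'⟩ (asIso φ) (pullback.lift_fst _ _ _)
    (pullback.lift_snd _ _ _)

/-- The glued deformation. -/
def toDefSch : DefSch X x C where
  total := D.glued
  f := D.str'
  flat := D.flat_str'
  i := D.incl
  isPullback := D.isPullback_incl

end PDef

end Groth.Agent.DefGlueLib
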