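import Groth.Agent.DefGlueLib.Affine
import Groth.Agent.DefGlueLib.Fin
import Groth.Agent.ArtFunLib.Smooth
import Groth.Prelude.Def_Exal
import Mathlib.AlgebraicGeometry.Morphisms.Flat

/-! Rigidity of algebras with trivial first-order extensions. -/

universe u v

open CategoryTheory AlgebraicGeometry ArtFun

noncomputable section

namespace Groth.Agent.DefGlueLib

attribute [local instance 10] SqExt.opModule SqExt.opCentral

theorem subsingleton_obj_of_subsingleton_tangent {Λ k : Type u} [CommRing Λ] [Field k] [Algebra Λ k]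
    [IsNoetherianRing Λ] [Module.Finite Λ k] {F : Art Λ k ⥤ Type v} (h0 : H0 F) (h1 : Hbar F) (h2 : Heps F)
    (ht : Subsingleton (F.obj (Art.dual Λ k))) (A : Art Λ k) : Subsingleton (F.obj A) := by
  let G : Art Λ k ⥤ Type v := (Functor.const (Art Λ k)).obj PUnit
  let η : ∀ A, F.obj A → G.obj A := fun _ _ => PUnit.unit
  have hη : ∀ ⦃A B : Art Λ k⦄ (f : A ⟶ B) (x : F.obj A), η B (F.map f x) = G.map f (η A x) :=
    fun _ _ _ _ => rfl
  have hG : HSq G := fun B A A' p₁ p₂ f h _ =>
    ⟨fun a b _ => (inferInstance : Subsingleton PUnit).elim a b,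
      fun y => ⟨PUnit.unit, Subtype.ext (Prod.ext ((inferInstance : Subsingleton PUnit).elim _ _)
        ((inferInstance : Subsingleton PUnit).elim _ _))⟩⟩
  refine ⟨fun a b => ?_⟩
  exact ArtFunLib.sepAt_of_small hη
    (fun A B μ hμ => ArtFunLib.sepAt_small hη h1 h2 hG (fun _ _ _ => @Subsingleton.elim _ ht _ _) μ hμ)
    (Art.toBase A) A.res_surjective a b (h0.2.elim _ _) rfl

theorem exists_derivation_of_isTrivial {k B₀ B : Type u} [Field k] [CommRing B₀] [Algebra k B₀] [CommRing B]
    [Algebra k B] (e : B₀ ≃ₐ[k] B) (hT : ∀ E : Exal.Ext k B₀ B₀, E.IsTrivial) {n : ℕ}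
    [Algebra (MvPolynomial (Fin n) k) B] [IsScalarTower k (MvPolynomial (Fin n) k) B]
    (hs : Function.Surjective (algebraMap (MvPolynomial (Fin n) k) B))
    (h : SqExt.rel (MvPolynomial (Fin n) k) B →ₗ[MvPolynomial (Fin n) k] B) :
    ∃ D : Derivation k (MvPolynomial (Fin n) k) B, ∀ g, h g = D g.1 := by
  let P := MvPolynomial (Fin n) k
  letI : Algebra k (SqExt.E h) :=
    ((SqExt.mkE h).comp ((TrivSqZeroExt.inlHom P B).comp (algebraMap k P))).toAlgebra
  let hat : P →ₐ[k] SqExt.E h :=
    { (SqExt.mkE h).comp (TrivSqZeroExt.inlHom P B) with commutes' := fun c => rfl }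
  have hproj : ∀ p, SqExt.proj h (hat p) = algebraMap P B p := fun p => by
    change SqExt.proj h (SqExt.mkE h (TrivSqZeroExt.inl p)) = _
    simp
    rfl
  let proj : SqExt.E h →ₐ[k] B :=
    { SqExt.proj h with
      commutes' := fun c => (hproj (algebraMap k P c)).trans (IsScalarTower.algebraMap_apply k P B c).symm }
  have hprojs : Function.Surjective proj := SqExt.proj_surjective h hs
  let X : Exal.Ext k B₀ B₀ :=
    { E := SqExt.E h
      proj := e.symm.toAlgHom.comp proj
      incl := (SqExt.incl h).comp e.toAddEquiv.toAddMonoidHom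
      isExtension :=
        { proj_surjective := e.symm.surjective.comp hprojs
          incl_injective := (SqExt.incl_injective h).comp e.injective
          exact := fun z => ⟨fun hz => by
              obtain ⟨b, hb⟩ := SqExt.exists_incl h z (e.symm.injective (hz.trans (map_zero e.symm).symm))
              exact ⟨e.symm b, (congrArg (SqExt.incl h) (e.apply_symm_apply b)).trans hb⟩,
            fun ⟨b, hb⟩ => hb ▸ (congrArg e.symm (SqExt.proj_incl h (e b))).trans (map_zero e.symm)⟩
          mul_incl := fun z b => (SqExt.mul_incl h z (e b)).trans (congrArg (SqExt.incl h) (by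
            change SqExt.proj h z * e b = e (e.symm (proj z) * b)
            rw [map_mul, AlgEquiv.apply_symm_apply]
            rfl)) } }
  obtain ⟨s, hs'⟩ := hT X
  let σ : P →ₐ[k] SqExt.E h := (s.comp e.symm.toAlgHom).comp (IsScalarTower.toAlgHom k P B)
  have hσ : ∀ p, SqExt.proj h (σ p) = algebraMap P B p := fun p => e.symm.injective (hs' _)
  choose b hb using fun i => SqExt.exists_incl h (σ (MvPolynomial.X i) - hat (MvPolynomial.X i))
    (by rw [map_sub, hσ, hproj, sub_self])
  have hsq : ∀ p q, (σ p - hat p) * (σ q - hat q) = 0 := fun p q => by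
    obtain ⟨b', hb'⟩ := SqExt.exists_incl h (σ q - hat q) (by rw [map_sub, hσ, hproj, sub_self])
    rw [← hb', SqExt.mul_incl, map_sub, hσ, hproj, sub_self, zero_smul, map_zero]
  have hD := derivation_of_diff σ hat (SqExt.incl h) (fun p c => by rw [SqExt.mul_incl, hproj]; rfl) hsq b
    fun i => (hb i).symm
  refine ⟨MvPolynomial.mkDerivation k b, fun g => SqExt.incl_injective h ?_⟩
  have e2 : SqExt.mkE h (TrivSqZeroExt.inl g.1) + SqExt.incl h (h g) = 0 := by
    rw [SqExt.incl_apply, ← map_add]
    exact Ideal.Quotient.eq_zero_iff_mem.2 ⟨g, rfl⟩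
  rw [← hD, show σ g.1 = 0 from (congrArg (fun t => s (e.symm t)) g.2).trans (by rw [map_zero, map_zero]),
    zero_sub]
  exact eq_neg_of_add_eq_zero_right e2

end Groth.Agent.DefGlueLib
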