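import Groth.Agent.DefGlueLib.Sections

/-! Schlessinger's conditions for the deformation functor of a scheme. -/

universe u

open CategoryTheory CategoryTheory.Limits AlgebraicGeometry Opposite ArtFun

noncomputable section

namespace Groth.Agent.DefGlueLib

open Scheme (AffineZariskiSite)

variable {Λ k : Type u} [CommRing Λ] [Field k] [Algebra Λ k]
variable {X : Scheme.{u}} {x : X ⟶ Art.specPt k} {A A₁ A₂ B C : Art Λ k}
variable {p₁ : B ⟶ A₁} {p₂ : B ⟶ A₂} {f₁ : A₁ ⟶ A} {f₂ : A₂ ⟶ A}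

/-- Change the morphism of objects. -/
def Ov.cast {g g' : A ⟶ B} {ξ : DefSch X x A} {η : DefSch X x B} (Φ : Ov g ξ η) (e : g = g') :
    Ov g' ξ η :=
  ⟨Φ.hom, e ▸ Φ.w, Φ.i_hom⟩

theorem iso_ext {ξ η : DefSch X x A} {e e' : ξ.Iso η} (h : e.iso.hom = e'.iso.hom) : e = e' := by
  cases e
  cases e'
  congr
  exact Iso.ext h

theorem cl_eq_iff {ξ ξ' : DefSch X x A} : ξ.cl = ξ'.cl ↔ Nonempty (ξ.Iso ξ') :=
  Quotient.eq

theorem cl_surjective (q : (defFunctor X x).obj A) : ∃ ξ : DefSch X x A, ξ.cl = q :=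
  Quotient.exists_rep q

theorem isIso_i (η : DefSch X x (Art.base Λ k)) : IsIso η.i :=
  η.isPullback.isIso_fst_of_isIso

theorem flat_str (x : X ⟶ Art.specPt k) : Flat x := by
  have : IsZariskiLocalAtSource @AlgebraicGeometry.Flat.{u} :=
    HasRingHomProperty.instIsZariskiLocalAtSource (Q := RingHom.Flat)
  refine (IsZariskiLocalAtSource.iff_of_openCover (P := @AlgebraicGeometry.Flat) X.affineCover).2 fun i => ?_
  obtain ⟨φ, hφ⟩ : ∃ φ, Spec.map φ = X.affineCover.f i ≫ x := ⟨_, Spec.map_preimage _⟩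
  suffices h : Flat (Spec.map φ) from (congrArg (fun t => Flat t) hφ).mp h
  refine (HasRingHomProperty.Spec_iff (P := @AlgebraicGeometry.Flat)).2 ?_
  let _ := φ.hom.toAlgebra
  exact RingHom.flat_algebraMap_iff.2 inferInstance

theorem h0_defFunctor : ArtFun.H0 (defFunctor (Λ := Λ) X x) := by
  refine ⟨⟨(DefSch.self X x (flat_str x)).cl⟩, ⟨fun a b => ?_⟩⟩
  obtain ⟨ξ, rfl⟩ := cl_surjective a
  obtain ⟨η, rfl⟩ := cl_surjective b
  have := isIso_i ξ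
  have := isIso_i η
  refine cl_eq_iff.2 ⟨⟨(asIso ξ.i).symm ≪≫ asIso η.i, ?_, ?_⟩⟩
  · change (inv ξ.i ≫ η.i) ≫ η.f = ξ.f
    rw [Category.assoc, η.i_f, IsIso.inv_comp_eq, ξ.i_f]
  · change ξ.i ≫ inv ξ.i ≫ η.i = η.i
    rw [IsIso.hom_inv_id_assoc]

section Fib

variable {D₁ : PDef x A₁} {D₂ : PDef x A₂} {D₀ : PDef x A}

/-- The fibre product of two families over a third one. -/
def PDef.fib (h : Art.IsFibreProd p₁ p₂ f₁ f₂) (hf : Function.Surjective f₂)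
    (φ₁ : PHom f₁ D₁ D₀) (φ₂ : PHom f₂ D₂ D₀) : PDef x B where
  R :=
    { obj := fun U => CommRingCat.of (fibRing (φ₁.app.app U).hom (φ₂.app.app U).hom)
      map := fun {U V} f => CommRingCat.ofHom
        ((((D₁.R.map f).hom.comp (RingHom.fst _ _)).prod ((D₂.R.map f).hom.comp (RingHom.snd _ _))).comp
          (fibRing (φ₁.app.app U).hom (φ₂.app.app U).hom).subtype |>.codRestrict _ fun r =>
            ((ConcreteCategory.congr_hom (φ₁.app.naturality f) r.1.1).trans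
              ((congrArg (D₀.R.map f).hom r.2).trans
                (ConcreteCategory.congr_hom (φ₂.app.naturality f) r.1.2).symm)))
      map_id := fun U => CommRingCat.hom_ext (RingHom.ext fun r => Subtype.ext (Prod.ext
        (ConcreteCategory.congr_hom (D₁.R.map_id U) r.1.1)
        (ConcreteCategory.congr_hom (D₂.R.map_id U) r.1.2)))
      map_comp := fun f g => CommRingCat.hom_ext (RingHom.ext fun r => Subtype.ext (Prod.ext
        (ConcreteCategory.congr_hom (D₁.R.map_comp f g) r.1.1)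
        (ConcreteCategory.congr_hom (D₂.R.map_comp f g) r.1.2))) }
  a U := (((D₁.a U).comp p₁.toAlgHom.toRingHom).prod ((D₂.a U).comp p₂.toAlgHom.toRingHom)).codRestrict _
    fun c => (φ₁.comm U (p₁ c)).trans ((congrArg (D₀.a U) (h.w_apply c)).trans (φ₂.comm U (p₂ c)).symm)
  a_map f c := Subtype.ext (Prod.ext (D₁.a_map f (p₁ c)) (D₂.a_map f (p₂ c)))
  q :=
    { app := fun U => CommRingCat.ofHom ((D₁.q.app U).hom.comp
        ((RingHom.fst _ _).comp (fibRing (φ₁.app.app U).hom (φ₂.app.app U).hom).subtype))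
      naturality := fun U V f => CommRingCat.hom_ext (RingHom.ext fun r =>
        ConcreteCategory.congr_hom (D₁.q.naturality f) r.1.1) }
  isDef U := isDef_fib h hf (D₀.isDef U) (D₁.isDef U) (D₂.isDef U) (φ₁.comm U) (φ₂.comm U)
    (fun r => ConcreteCategory.congr_hom (congrArg (fun t => NatTrans.app t U) φ₁.q_app) r)
    (fun r => ConcreteCategory.congr_hom (congrArg (fun t => NatTrans.app t U) φ₂.q_app) r)
    (fun _ => rfl) (fun _ => rfl)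

variable (h : Art.IsFibreProd p₁ p₂ f₁ f₂) (hf : Function.Surjective f₂)
  (φ₁ : PHom f₁ D₁ D₀) (φ₂ : PHom f₂ D₂ D₀)

/-- The first projection. -/
def PDef.fst : PHom p₁ (PDef.fib h hf φ₁ φ₂) D₁ where
  app :=
    { app := fun U => CommRingCat.ofHom
        ((RingHom.fst _ _).comp (fibRing (φ₁.app.app U).hom (φ₂.app.app U).hom).subtype)
      naturality := fun U V f => rfl }
  comm _ _ := rfl
  q_app := rfl

/-- The second projection. -/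
def PDef.snd : PHom p₂ (PDef.fib h hf φ₁ φ₂) D₂ where
  app :=
    { app := fun U => CommRingCat.ofHom
        ((RingHom.snd _ _).comp (fibRing (φ₁.app.app U).hom (φ₂.app.app U).hom).subtype)
      naturality := fun U V f => rfl }
  comm _ _ := rfl
  q_app := NatTrans.ext (funext fun U => CommRingCat.hom_ext (RingHom.ext fun r =>
    (ConcreteCategory.congr_hom (congrArg (fun t => NatTrans.app t U) φ₂.q_app) r.1.2).symm.trans
      ((congrArg (D₀.q.app U).hom r.2).symm.trans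
        (ConcreteCategory.congr_hom (congrArg (fun t => NatTrans.app t U) φ₁.q_app) r.1.1))))

theorem PDef.glue_fst_snd :
    φ₁.glue.hom ≫ (PDef.fst h hf φ₁ φ₂).glue.hom = φ₂.glue.hom ≫ (PDef.snd h hf φ₁ φ₂).glue.hom := by
  refine colimit.hom_ext fun U => ?_
  change colimit.ι D₀.diagram U ≫ colimMap _ ≫ colimMap _ = colimit.ι D₀.diagram U ≫ colimMap _ ≫ colimMap _
  rw [ι_colimMap_assoc, ι_colimMap, ι_colimMap_assoc, ι_colimMap, ← Category.assoc, ← Category.assoc]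
  refine (congrArg (· ≫ _) (Spec.map_comp _ _).symm).trans
    (Eq.trans ?_ (congrArg (· ≫ _) (Spec.map_comp _ _)))
  refine congrArg (fun t => Spec.map t ≫ colimit.ι (PDef.fib h hf φ₁ φ₂).diagram U) ?_
  exact CommRingCat.hom_ext (RingHom.ext fun r => r.2)

end Fib

/-- Schlessinger's lemma: deformations glue along a fibre product. -/
theorem exists_pushout (h : Art.IsFibreProd p₁ p₂ f₁ f₂) (hf : Function.Surjective f₂)
    {ξ₁ : DefSch X x A₁} {ξ₂ : DefSch X x A₂} {η : DefSch X x A} (Φ₁ : Ov f₁ ξ₁ η) (Φ₂ : Ov f₂ ξ₂ η) :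
    ∃ (ξ : DefSch X x B) (Ψ₁ : Ov p₁ ξ ξ₁) (Ψ₂ : Ov p₂ ξ ξ₂),
      Φ₁.hom ≫ Ψ₁.hom = Φ₂.hom ≫ Ψ₂.hom := by
  refine ⟨(PDef.fib h hf Φ₁.sec Φ₂.sec).toDefSch,
    (PDef.fst h hf Φ₁.sec Φ₂.sec).glue.isoComp (counit ξ₁).symm,
    (PDef.snd h hf Φ₁.sec Φ₂.sec).glue.isoComp (counit ξ₂).symm, ?_⟩
  have e₁ : Φ₁.hom ≫ (counit ξ₁).iso.inv = (counit η).iso.inv ≫ Φ₁.sec.glue.hom := by
    rw [Iso.eq_inv_comp, ← Category.assoc, ← counit_naturality, Category.assoc, Iso.hom_inv_id,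
      Category.comp_id]
  have e₂ : Φ₂.hom ≫ (counit ξ₂).iso.inv = (counit η).iso.inv ≫ Φ₂.sec.glue.hom := by
    rw [Iso.eq_inv_comp, ← Category.assoc, ← counit_naturality, Category.assoc, Iso.hom_inv_id,
      Category.comp_id]
  change Φ₁.hom ≫ (counit ξ₁).iso.inv ≫ _ = Φ₂.hom ≫ (counit ξ₂).iso.inv ≫ _
  rw [← Category.assoc, e₁, Category.assoc, ← Category.assoc Φ₂.hom, e₂, Category.assoc,
    PDef.glue_fst_snd]

theorem Ov.sec_comp_eq {g₁ : B ⟶ A₁} {g₂ : B ⟶ A₂} {ξ : DefSch X x B} {ξ₁ : DefSch X x A₁}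
    {ξ₂ : DefSch X x A₂} {η : DefSch X x A} (Φ₁ : Ov f₁ ξ₁ η) (Φ₂ : Ov f₂ ξ₂ η) (Ψ₁ : Ov g₁ ξ ξ₁)
    (Ψ₂ : Ov g₂ ξ ξ₂) (e : Φ₁.hom ≫ Ψ₁.hom = Φ₂.hom ≫ Ψ₂.hom) (U : (AffineZariskiSite X)ᵒᵖ) :
    Ψ₁.sec.app.app U ≫ Φ₁.sec.app.app U = Ψ₂.sec.app.app U ≫ Φ₂.sec.app.app U := by
  refine (Scheme.Hom.appLE_comp_appLE _ _ _ _ _ _ _).trans
    (Eq.trans ?_ (Scheme.Hom.appLE_comp_appLE _ _ _ _ _ _ _).symm)
  simp only [e]

/-- A deformation over a fibre product is determined by its two restrictions and their gluing. -/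
theorem nonempty_iso_pushout (h : Art.IsFibreProd p₁ p₂ f₁ f₂) (hf : Function.Surjective f₂)
    {ξ₁ : DefSch X x A₁} {ξ₂ : DefSch X x A₂} {η : DefSch X x A} (Φ₁ : Ov f₁ ξ₁ η) (Φ₂ : Ov f₂ ξ₂ η)
    {ξ : DefSch X x B} (Ψ₁ : Ov p₁ ξ ξ₁) (Ψ₂ : Ov p₂ ξ ξ₂) (e : Φ₁.hom ≫ Ψ₁.hom = Φ₂.hom ≫ Ψ₂.hom) :
    Nonempty ((PDef.fib h hf Φ₁.sec Φ₂.sec).toDefSch.Iso ξ) := by
  let φ : PHom (𝟙 B) (ofSch ξ) (PDef.fib h hf Φ₁.sec Φ₂.sec) :=
    { app :=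
        { app := fun U => CommRingCat.ofHom (((Ψ₁.sec.app.app U).hom.prod (Ψ₂.sec.app.app U).hom).codRestrict _
            fun r => ConcreteCategory.congr_hom (Ov.sec_comp_eq Φ₁ Φ₂ Ψ₁ Ψ₂ e U) r)
          naturality := fun U V f => CommRingCat.hom_ext (RingHom.ext fun r => Subtype.ext (Prod.ext
            (ConcreteCategory.congr_hom (Ψ₁.sec.app.naturality f) r)
            (ConcreteCategory.congr_hom (Ψ₂.sec.app.naturality f) r))) }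
      comm := fun U c => Subtype.ext (Prod.ext (Ψ₁.sec.comm U c) (Ψ₂.sec.comm U c))
      q_app := NatTrans.ext (funext fun U => CommRingCat.hom_ext (RingHom.ext fun r =>
        ConcreteCategory.congr_hom (congrArg (fun t => NatTrans.app t U) Ψ₁.sec.q_app) r)) }
  exact ⟨(Ov.toIso φ.glue).trans (counit ξ)⟩

theorem cmp_eq_iff (h : Art.IsFibreProd p₁ p₂ f₁ f₂) {ξ : DefSch X x B}
    (y : FibProd (defFunctor X x) f₁ f₂) :
    cmp (defFunctor X x) h ξ.cl = y ↔ (ξ.baseChange p₁).cl = y.1.1 ∧ (ξ.baseChange p₂).cl = y.1.2 :=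
  ⟨fun e => ⟨congrArg (fun t => t.1.1) e, congrArg (fun t => t.1.2) e⟩,
    fun e => Subtype.ext (Prod.ext e.1 e.2)⟩

theorem surjective_cmp (h : Art.IsFibreProd p₁ p₂ f₁ f₂) (hf : Function.Surjective f₂) :
    Function.Surjective (cmp (defFunctor X x) h) := by
  rintro ⟨⟨q₁, q₂⟩, hq⟩
  obtain ⟨ξ₁, rfl⟩ := cl_surjective q₁
  obtain ⟨ξ₂, rfl⟩ := cl_surjective q₂
  obtain ⟨e⟩ := cl_eq_iff.1 hq
  obtain ⟨ξ, Ψ₁, Ψ₂, -⟩ :=
    exists_pushout h hf ((Ov.proj ξ₁ f₁).isoComp e.symm) (Ov.proj ξ₂ f₂)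
  exact ⟨ξ.cl, (cmp_eq_iff h _).2 ⟨cl_eq_iff.2 ⟨Ψ₁.toBC.symm⟩, cl_eq_iff.2 ⟨Ψ₂.toBC.symm⟩⟩⟩

theorem s1_defFunctor : ArtFun.S1 (defFunctor (Λ := Λ) X x) :=
  fun _ _ _ _ _ _ _ _ h hf => surjective_cmp h hf

/-- The hypothesis under which restrictions determine a deformation. -/
def Liftable (x : X ⟶ Art.specPt k) {A₂ A : Art Λ k} (f₂ : A₂ ⟶ A) : Prop :=
  ∀ (ξ : DefSch X x A₂), Function.Surjective (fun e : ξ.Iso ξ => e.baseChange f₂)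

theorem injective_cmp (h : Art.IsFibreProd p₁ p₂ f₁ f₂) (hf : Function.Surjective f₂)
    (hl : Liftable x f₂) : Function.Injective (cmp (defFunctor X x) h) := by
  intro q q' hq
  obtain ⟨ξ, rfl⟩ := cl_surjective q
  obtain ⟨ξ', rfl⟩ := cl_surjective q'
  obtain ⟨e₁⟩ := cl_eq_iff.1 (congrArg (fun t => t.1.1) hq)
  obtain ⟨e₂⟩ := cl_eq_iff.1 (congrArg (fun t => t.1.2) hq)
  let Ψ₁ : Ov p₁ ξ (ξ.baseChange p₁) := Ov.proj ξ p₁
  let Ψ₂ : Ov p₂ ξ (ξ.baseChange p₂) := Ov.proj ξ p₂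
  let Φ₂ : Ov f₂ (ξ.baseChange p₂) ((ξ.baseChange p₂).baseChange f₂) := Ov.proj _ _
  let Ψ₁' : Ov p₁ ξ' (ξ.baseChange p₁) := (Ov.proj ξ' p₁).isoComp e₁
  let Ψ₂' : Ov p₂ ξ' (ξ.baseChange p₂) := (Ov.proj ξ' p₂).isoComp e₂
  have hw : Art.specMap f₁ ≫ Art.specMap p₁ = Art.specMap f₂ ≫ Art.specMap p₂ := by
    rw [← Art.specMap_comp, ← Art.specMap_comp, h.w]
  let Φ₁ : Ov f₁ (ξ.baseChange p₁) ((ξ.baseChange p₂).baseChange f₂) :=
    { hom := pullback.lift (Φ₂.hom ≫ Ψ₂.hom) (((ξ.baseChange p₂).baseChange f₂).f ≫ Art.specMap f₁) (by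
        rw [Category.assoc, Ψ₂.w, ← Category.assoc, Φ₂.w, Category.assoc, Category.assoc, hw])
      w := pullback.lift_snd _ _ _
      i_hom := pullback.hom_ext
        (by rw [Category.assoc, pullback.lift_fst, DefSch.baseChange_i_fst, ← Category.assoc, Φ₂.i_hom,
          Ψ₂.i_hom])
        (by rw [Category.assoc, pullback.lift_snd, ← Category.assoc, DefSch.i_f, Category.assoc,
          Art.specRes_comp]
            exact (DefSch.baseChange_i_f ξ p₁).symm) }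
  have hΦ : Φ₁.hom ≫ Ψ₁.hom = Φ₂.hom ≫ Ψ₂.hom := pullback.lift_fst _ _ _
  obtain ⟨σ, hσ⟩ := (Ψ₂'.comp Φ₂).exists_iso ((Ψ₁'.comp Φ₁).cast h.w)
  obtain ⟨s, hs⟩ := hl (ξ.baseChange p₂) σ
  have hΦ' : Φ₁.hom ≫ Ψ₁'.hom = Φ₂.hom ≫ (Ψ₂'.isoComp s).hom := by
    change Φ₁.hom ≫ Ψ₁'.hom = Φ₂.hom ≫ s.iso.hom ≫ Ψ₂'.hom
    rw [← Category.assoc]
    have hs' : σ.iso.hom ≫ Φ₂.hom = Φ₂.hom ≫ s.iso.hom := by
      rw [← hs]
      exact DefSch.pullMap_fst s.iso.hom s.hom_f f₂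
    rw [← hs', Category.assoc]
    exact hσ.symm
  obtain ⟨i⟩ := nonempty_iso_pushout h hf Φ₁ Φ₂ Ψ₁ Ψ₂ hΦ
  obtain ⟨i'⟩ := nonempty_iso_pushout h hf Φ₁ Φ₂ Ψ₁' (Ψ₂'.isoComp s) hΦ'
  exact cl_eq_iff.2 ⟨i.symm.trans i'⟩

theorem liftable_of_injective [IsNoetherianRing Λ] [Module.Finite Λ k] {A' A : Art Λ k} {p : A' ⟶ A} (hp : Function.Surjective p)
    (hinj : ∀ {B : Art Λ k} {p₁ p₂ : B ⟶ A'} (h : Art.IsFibreProd p₁ p₂ p p),
      Function.Injective (cmp (defFunctor X x) h)) : Liftable x p := by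
  intro ξ σ
  obtain ⟨B, p₁, p₂, h⟩ := Groth.Agent.ArtFunLib.exists_isFibreProd p p hp
  let Φ : Ov p ξ (ξ.baseChange p) := Ov.proj ξ p
  let Φ' : Ov p ξ (ξ.baseChange p) := Φ.isoComp σ
  obtain ⟨Y, Ψ₁, Ψ₂, hΨ⟩ := exists_pushout h hp Φ Φ
  obtain ⟨Y', Ψ₁', Ψ₂', hΨ'⟩ := exists_pushout h hp Φ Φ'
  obtain ⟨Θ⟩ := cl_eq_iff.1 (hinj h (a₁ := Y.cl) (a₂ := Y'.cl) (Subtype.ext (Prod.ext
    (cl_eq_iff.2 ⟨Ψ₁.toBC.symm.trans Ψ₁'.toBC⟩) (cl_eq_iff.2 ⟨Ψ₂.toBC.symm.trans Ψ₂'.toBC⟩))))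
  obtain ⟨e₁, he₁⟩ := Ψ₁'.exists_iso (Ψ₁.compIso Θ)
  obtain ⟨e₂, he₂⟩ := Ψ₂'.exists_iso (Ψ₂.compIso Θ)
  refine ⟨e₁.symm.trans e₂, ?_⟩
  have b₁ : (e₁.baseChange p).iso.hom ≫ Φ.hom = Φ.hom ≫ e₁.iso.hom :=
    DefSch.pullMap_fst e₁.iso.hom e₁.hom_f p
  have b₂ : (e₂.baseChange p).iso.hom ≫ Φ.hom = Φ.hom ≫ e₂.iso.hom :=
    DefSch.pullMap_fst e₂.iso.hom e₂.hom_f p
  have b₃ : ((e₁.symm.trans e₂).baseChange p).iso.hom ≫ Φ.hom =
      Φ.hom ≫ e₁.iso.inv ≫ e₂.iso.hom :=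
    DefSch.pullMap_fst _ (e₁.symm.trans e₂).hom_f p
  have hM : Φ.hom ≫ Ψ₁'.hom = σ.iso.hom ≫ Φ.hom ≫ Ψ₂'.hom := hΨ'.trans (Category.assoc _ _ _)
  have key : Φ.hom ≫ e₁.iso.hom ≫ Ψ₁'.hom = Φ.hom ≫ e₂.iso.hom ≫ Ψ₂'.hom := by
    rw [he₁, he₂]
    change Φ.hom ≫ Ψ₁.hom ≫ Θ.iso.hom = Φ.hom ≫ Ψ₂.hom ≫ Θ.iso.hom
    rw [← Category.assoc, hΨ, Category.assoc]
  have key' : ((e₁.baseChange p).iso.hom ≫ σ.iso.hom) ≫ (Ψ₂'.comp Φ).hom =
      (e₂.baseChange p).iso.hom ≫ (Ψ₂'.comp Φ).hom := by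
    change ((e₁.baseChange p).iso.hom ≫ σ.iso.hom) ≫ Φ.hom ≫ Ψ₂'.hom =
      (e₂.baseChange p).iso.hom ≫ Φ.hom ≫ Ψ₂'.hom
    rw [Category.assoc, ← hM, ← Category.assoc, b₁, ← Category.assoc _ Φ.hom, b₂, Category.assoc,
      Category.assoc, key]
  have hσ : (e₁.baseChange p).iso.hom ≫ σ.iso.hom = (e₂.baseChange p).iso.hom :=
    (Ψ₂'.comp Φ).hom_ext key' (by rw [Category.assoc, σ.hom_f, (e₁.baseChange p).hom_f, (e₂.baseChange p).hom_f])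
  refine iso_ext ((cancel_epi (e₁.baseChange p).iso.hom).1 (Eq.trans ?_ hσ.symm))
  refine Φ.hom_ext ?_ ?_
  · rw [Category.assoc, b₃, ← Category.assoc, b₁, Category.assoc, Iso.hom_inv_id_assoc, b₂]
  · rw [Category.assoc, ((e₁.symm.trans e₂).baseChange p).hom_f, (e₁.baseChange p).hom_f,
      (e₂.baseChange p).hom_f]

theorem heps_defFunctor : ArtFun.Heps (defFunctor (Λ := Λ) X x) := fun _ _ _ _ h =>
  ⟨injective_cmp h (Art.dual Λ k).res_surjective fun ξ σ => by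
      refine ⟨DefSch.Iso.refl ξ, iso_ext ?_⟩
      have : IsIso (ξ.baseChange (Art.toBase (Art.dual Λ k))).i := isIso_i _
      exact (cancel_epi (ξ.baseChange (Art.toBase (Art.dual Λ k))).i).1
        (((DefSch.Iso.refl ξ).baseChange _).i_hom.trans σ.i_hom.symm),
    surjective_cmp h (Art.dual Λ k).res_surjective⟩

end Groth.Agent.DefGlueLib
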