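import Groth.Agent.DefGlueLib.Glue
import Groth.Agent.MorLib.Thick.QuasiAffine
import Mathlib.AlgebraicGeometry.Morphisms.IsIso

/-! Deformations of a scheme as compatible deformations of its affine pieces. -/

universe u

open CategoryTheory CategoryTheory.Limits AlgebraicGeometry Opposite ArtFun

noncomputable section

namespace Groth.Agent.DefGlueLib

open Scheme (AffineZariskiSite)

variable {Λ k : Type u} [CommRing Λ] [Field k] [Algebra Λ k]
variable {X : Scheme.{u}} {x : X ⟶ Art.specPt k} {A B C : Art Λ k}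

instance subsingleton_spec (C : Art Λ k) : Subsingleton (PrimeSpectrum C) :=
  ⟨fun a b => PrimeSpectrum.ext <|
    (IsLocalRing.eq_maximalIdeal (IsArtinianRing.isMaximal_of_isPrime a.asIdeal)).trans
      (IsLocalRing.eq_maximalIdeal (IsArtinianRing.isMaximal_of_isPrime b.asIdeal)).symm⟩

instance isClosedImmersion_i (ξ : DefSch X x C) : IsClosedImmersion ξ.i :=
  have : IsClosedImmersion (Art.specRes C) := IsClosedImmersion.spec_of_surjective _ C.res_surjective
  MorphismProperty.of_isPullback (P := @IsClosedImmersion) ξ.isPullback.flip inferInstance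

instance surjective_i (ξ : DefSch X x C) : Surjective ξ.i :=
  have : Surjective (Art.specRes C) :=
    ⟨fun _ => ⟨(⊥ : PrimeSpectrum k), @Subsingleton.elim (PrimeSpectrum C) _ _ _⟩⟩
  MorphismProperty.of_isPullback (P := @Surjective) ξ.isPullback.flip inferInstance

/-- The open of the total space corresponding to an open of the closed fibre. -/
def imOpen (ξ : DefSch X x C) (U : X.Opens) : ξ.total.Opens :=
  ⟨ξ.i '' U, by
    obtain ⟨O, hO, hOU⟩ := ξ.i.isClosedEmbedding.isInducing.isOpen_iff.mp U.2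
    change IsOpen (ξ.i '' U.carrier)
    rw [← hOU, Set.image_preimage_eq O ξ.i.surjective]
    exact hO⟩

theorem preimage_imOpen (ξ : DefSch X x C) (U : X.Opens) : ξ.i ⁻¹ᵁ imOpen ξ U = U :=
  TopologicalSpace.Opens.ext (Set.preimage_image_eq _ ξ.i.isClosedEmbedding.injective)

theorem imOpen_mono (ξ : DefSch X x C) : Monotone (imOpen ξ) := fun _ _ h =>
  Set.image_mono h

theorem eq_imOpen (ξ : DefSch X x C) {U : X.Opens} {V : ξ.total.Opens} (h : ξ.i ⁻¹ᵁ V = U) :
    V = imOpen ξ U :=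
  MorLib.Thick.preimage_inj ξ.i ξ.i.surjective (h.trans (preimage_imOpen ξ U).symm)

theorem isAffineOpen_imOpen (ξ : DefSch X x C) (U : AffineZariskiSite X) :
    IsAffineOpen (imOpen ξ U.toOpens) :=
  MorLib.Thick.isAffineOpen_of_preimage ξ.i ξ.i.surjective ((preimage_imOpen ξ U.toOpens).symm ▸ U.2)

/-- The structure map of the sections of a deformation. -/
abbrev secA (ξ : DefSch X x C) (V : ξ.total.Opens) : C →+* Γ(ξ.total, V) :=
  ((Scheme.ΓSpecIso (CommRingCat.of C)).inv ≫ ξ.f.appLE ⊤ V le_top).hom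

theorem SpecMap_secA (ξ : DefSch X x C) {V : ξ.total.Opens} (hV : IsAffineOpen V) :
    Spec.map (CommRingCat.ofHom (secA ξ V)) = hV.fromSpec ≫ ξ.f := by
  have h := IsAffineOpen.SpecMap_appLE_fromSpec ξ.f (isAffineOpen_top (Art.spec C)) hV le_top
  rw [IsAffineOpen.fromSpec_top, Scheme.isoSpec_Spec_inv] at h
  change Spec.map ((Scheme.ΓSpecIso (CommRingCat.of C)).inv ≫ ξ.f.appLE ⊤ V le_top) = _
  rw [Spec.map_comp, h]

theorem SpecMap_str (x : X ⟶ Art.specPt k) (U : AffineZariskiSite X) :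
    Spec.map (CommRingCat.ofHom (str x U)) = U.2.fromSpec ≫ x := by
  have h := IsAffineOpen.SpecMap_appLE_fromSpec x (isAffineOpen_top (Art.specPt k)) U.2 le_top
  rw [IsAffineOpen.fromSpec_top, Scheme.isoSpec_Spec_inv] at h
  change Spec.map ((Scheme.ΓSpecIso (CommRingCat.of k)).inv ≫ x.appLE ⊤ U.toOpens le_top) = _
  rw [Spec.map_comp, h]

theorem isDef_sec (ξ : DefSch X x C) (U : AffineZariskiSite X) {V : ξ.total.Opens}
    (hV : ξ.i ⁻¹ᵁ V = U.toOpens) :
    IsDef C (str x U) (secA ξ V) (ξ.i.appLE V U.toOpens hV.ge).hom := by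
  have hVa : IsAffineOpen V := MorLib.Thick.isAffineOpen_of_preimage ξ.i ξ.i.surjective (hV ▸ U.2)
  have hflat : (secA ξ V).Flat :=
    (HasRingHomProperty.Spec_iff (P := @AlgebraicGeometry.Flat) (φ := CommRingCat.ofHom (secA ξ V))).1
      (by rw [SpecMap_secA ξ hVa]; infer_instance)
  have h1 : IsPullback (Spec.map (ξ.i.appLE V U.toOpens hV.ge)) U.2.fromSpec hVa.fromSpec ξ.i := by
    refine IsOpenImmersion.isPullback _ _ _ _ (IsAffineOpen.SpecMap_appLE_fromSpec ξ.i hVa U.2 hV.ge).symm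
      (TopologicalSpace.Opens.ext ?_)
    simp only [Scheme.Hom.coe_preimage, Scheme.Hom.coe_opensRange, IsAffineOpen.range_fromSpec]
    exact congrArg SetLike.coe hV
  have h2 := h1.paste_vert ξ.isPullback
  rw [← SpecMap_str, ← SpecMap_secA] at h2
  obtain ⟨hs, hk, hw⟩ := AffDefLib.ker_of_isPullback_Spec (secA ξ V) C.res.toRingHom
    (ξ.i.appLE V U.toOpens hV.ge).hom (str x U) C.res_surjective h2
  refine ⟨hflat, hs, RingHom.congr_fun hw, hk.le.trans (le_of_eq ?_)⟩
  congr 1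
  exact Ideal.ext fun c => (Art.mem_maximalIdeal_iff C c).symm

/-- The sections of a deformation over the affine pieces. -/
def ofSch (ξ : DefSch X x C) : PDef x C where
  R := ((AffineZariskiSite.toOpensFunctor X) ⋙ (imOpen_mono ξ).functor).op ⋙ ξ.total.presheaf
  a U := secA ξ (imOpen ξ U.unop.toOpens)
  a_map {U V} f c := by
    refine DFunLike.congr_fun (f := (ξ.total.presheaf.map _).hom.comp (secA ξ _)) ?_ c
    rw [← CommRingCat.hom_comp, Category.assoc]
    exact congrArg (fun g => ((Scheme.ΓSpecIso (CommRingCat.of C)).inv ≫ g).hom)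
      (Scheme.Hom.appLE_map ξ.f _ _)
  q :=
    { app := fun U => ξ.i.appLE (imOpen ξ U.unop.toOpens) U.unop.toOpens (preimage_imOpen ξ _).ge
      naturality := fun U V f => by
        refine (Scheme.Hom.map_appLE ξ.i _ _).trans ?_
        exact (Scheme.Hom.appLE_map ξ.i _ _).symm }
  isDef U := isDef_sec ξ U.unop (preimage_imOpen ξ _)

/-- A morphism of deformations along `g`. -/
structure Ov (g : A ⟶ B) (ξ : DefSch X x A) (η : DefSch X x B) : Type u where
  /-- the map of total spaces -/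
  hom : η.total ⟶ ξ.total
  w : hom ≫ ξ.f = η.f ≫ Art.specMap g
  i_hom : η.i ≫ hom = ξ.i

theorem Ov.secA_comm {g : A ⟶ B} {ξ : DefSch X x A} {η : DefSch X x B} (Φ : Ov g ξ η)
    {V : ξ.total.Opens} {W : η.total.Opens} (le : W ≤ Φ.hom ⁻¹ᵁ V) (c : A) :
    (Φ.hom.appLE V W le).hom (secA ξ V c) = secA η W (g c) := by
  have h1 : ξ.f.appLE ⊤ V le_top ≫ Φ.hom.appLE V W le =
      (Art.specMap g).app ⊤ ≫ η.f.appLE ⊤ W le_top := by
    refine (Scheme.Hom.appLE_comp_appLE Φ.hom ξ.f _ _ _ le_top le).trans ?_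
    simp only [Φ.w]
    exact Scheme.Hom.comp_appLE η.f (Art.specMap g) _ _ _
  have h2 := Scheme.ΓSpecIso_inv_naturality_assoc (CommRingCat.ofHom g.toAlgHom.toRingHom)
    (η.f.appLE ⊤ W le_top)
  have h3 : ((Scheme.ΓSpecIso (CommRingCat.of A)).inv ≫ ξ.f.appLE ⊤ V le_top) ≫ Φ.hom.appLE V W le =
      CommRingCat.ofHom g.toAlgHom.toRingHom ≫
        (Scheme.ΓSpecIso (CommRingCat.of B)).inv ≫ η.f.appLE ⊤ W le_top :=
    (Category.assoc _ _ _).trans ((congrArg (_ ≫ ·) h1).trans h2.symm)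
  exact DFunLike.congr_fun (congrArg CommRingCat.Hom.hom h3) c

/-- A morphism of total spaces over the identity, under `X`, is an isomorphism. -/
theorem isIso_of_hom {ξ ξ' : DefSch X x C} (Φ : ξ.total ⟶ ξ'.total) (hf : Φ ≫ ξ'.f = ξ.f)
    (hi : ξ.i ≫ Φ = ξ'.i) : IsIso Φ := by
  refine (IsZariskiLocalAtTarget.iff_of_iSup_eq_top (P := MorphismProperty.isomorphisms Scheme.{u})
    (f := Φ) (fun U : X.affineOpens => imOpen ξ' U.1) ?_).2 fun U => ?_
  · refine top_unique fun p _ => ?_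
    obtain ⟨p', rfl⟩ := ξ'.i.surjective p
    obtain ⟨W, hW⟩ := TopologicalSpace.Opens.mem_iSup.mp
      ((iSup_affineOpens_eq_top X).ge (Set.mem_univ p'))
    exact TopologicalSpace.Opens.mem_iSup.mpr ⟨W, p', hW, rfl⟩
  let V' := imOpen ξ' U.1
  let U' : AffineZariskiSite X := ⟨U.1, U.2⟩
  have hpre : ξ.i ⁻¹ᵁ (Φ ⁻¹ᵁ V') = U'.toOpens := by
    rw [← Scheme.Hom.comp_preimage]
    simp only [hi]
    exact preimage_imOpen ξ' U.1
  have h := isDef_sec ξ U' hpre
  have h' := isDef_sec ξ' U' (preimage_imOpen ξ' U.1)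
  have hb : Function.Bijective (Φ.app V').hom := by
    refine h'.bijective h (Φ.app V').hom (fun c => ?_) (fun r => ?_)
    · rw [Scheme.Hom.app_eq_appLE]
      exact Ov.secA_comm (g := 𝟙 C) ⟨Φ, by rw [hf, Art.specMap_id, Category.comp_id], hi⟩ _ c
    · refine DFunLike.congr_fun (f := (ξ.i.appLE (Φ ⁻¹ᵁ V') U'.toOpens hpre.ge).hom.comp (Φ.app V').hom)
        ?_ r
      rw [← CommRingCat.hom_comp, Scheme.Hom.app_eq_appLE, Scheme.Hom.appLE_comp_appLE]
      simp only [hi]
      rfl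
  have : IsAffine ↑(Φ ⁻¹ᵁ V') := MorLib.Thick.isAffineOpen_of_preimage ξ.i ξ.i.surjective (hpre ▸ U.2)
  have : IsAffine ↑V' := isAffineOpen_imOpen ξ' U'
  have : IsIso (Φ.app V') := (ConcreteCategory.isIso_iff_bijective _).2 hb
  have hT : IsIso (Φ ∣_ V').appTop := by
    rw [morphismRestrict_appTop]
    have : IsIso (Φ.app (V'.ι ''ᵁ ⊤)) := by rw [Scheme.Opens.ι_image_top]; infer_instance
    exact IsIso.comp_isIso' this (Functor.map_isIso _ _)
  exact ((MorphismProperty.isomorphisms Scheme.{u}).arrow_mk_iso_iff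
    (arrowIsoSpecΓOfIsAffine (Φ ∣_ V'))).2 (inferInstanceAs (IsIso (Spec.map (Φ ∣_ V').appTop)))

/-- Composition of morphisms along morphisms of objects. -/
def Ov.comp {g : A ⟶ B} {g' : B ⟶ C} {ξ : DefSch X x A} {η : DefSch X x B} {ζ : DefSch X x C}
    (Φ : Ov g ξ η) (Φ' : Ov g' η ζ) : Ov (g ≫ g') ξ ζ where
  hom := Φ'.hom ≫ Φ.hom
  w := by rw [Category.assoc, Φ.w, ← Category.assoc, Φ'.w, Category.assoc, Art.specMap_comp]
  i_hom := by rw [← Category.assoc, Φ'.i_hom, Φ.i_hom]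

/-- An isomorphism as a morphism along the identity. -/
def Ov.ofIso {ξ η : DefSch X x A} (e : η.Iso ξ) : Ov (𝟙 A) ξ η :=
  ⟨e.iso.hom, by rw [e.hom_f, Art.specMap_id, Category.comp_id], e.i_hom⟩

/-- A morphism along the identity is an isomorphism. -/
def Ov.toIso {ξ η : DefSch X x A} (Φ : Ov (𝟙 A) ξ η) : η.Iso ξ :=
  have hf : Φ.hom ≫ ξ.f = η.f := by rw [Φ.w, Art.specMap_id, Category.comp_id]
  have : IsIso Φ.hom := isIso_of_hom Φ.hom hf Φ.i_hom
  ⟨asIso Φ.hom, hf, Φ.i_hom⟩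

/-- The projection of a base change. -/
def Ov.proj (ξ : DefSch X x A) (g : A ⟶ B) : Ov g ξ (ξ.baseChange g) :=
  ⟨pullback.fst _ _, pullback.condition, DefSch.baseChange_i_fst ξ g⟩

/-- Pre- and post-composition with isomorphisms. -/
def Ov.isoComp {g : A ⟶ B} {ξ : DefSch X x A} {η η' : DefSch X x B} (e : η'.Iso η) (Φ : Ov g ξ η) :
    Ov g ξ η' where
  hom := e.iso.hom ≫ Φ.hom
  w := by rw [Category.assoc, Φ.w, ← Category.assoc, e.hom_f]
  i_hom := by rw [← Category.assoc, e.i_hom, Φ.i_hom]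

/-- Post-composition with an isomorphism. -/
def Ov.compIso {g : A ⟶ B} {ξ ξ' : DefSch X x A} {η : DefSch X x B} (Φ : Ov g ξ η) (e : ξ.Iso ξ') :
    Ov g ξ' η where
  hom := Φ.hom ≫ e.iso.hom
  w := by rw [Category.assoc, e.hom_f, Φ.w]
  i_hom := by rw [← Category.assoc, Φ.i_hom, e.i_hom]

/-- A morphism along `g` identifies the source with the base change. -/
def Ov.toBC {g : A ⟶ B} {ξ : DefSch X x A} {η : DefSch X x B} (Φ : Ov g ξ η) :
    η.Iso (ξ.baseChange g) :=
  Ov.toIso (ξ := ξ.baseChange g)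
    { hom := pullback.lift Φ.hom η.f Φ.w
      w := (pullback.lift_snd _ _ _).trans (by rw [Art.specMap_id, Category.comp_id])
      i_hom := pullback.hom_ext
        (by rw [Category.assoc, pullback.lift_fst, Φ.i_hom, DefSch.baseChange_i_fst])
        (by rw [Category.assoc, pullback.lift_snd, η.i_f]
            exact (DefSch.baseChange_i_f ξ g).symm) }

theorem Ov.toBC_fst {g : A ⟶ B} {ξ : DefSch X x A} {η : DefSch X x B} (Φ : Ov g ξ η) :
    Φ.toBC.iso.hom ≫ pullback.fst ξ.f (Art.specMap g) = Φ.hom :=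
  pullback.lift_fst _ _ _

theorem Ov.hom_ext {g : A ⟶ B} {ξ : DefSch X x A} {η : DefSch X x B} (Φ : Ov g ξ η)
    {T : Scheme.{u}} {m m' : T ⟶ η.total} (h₁ : m ≫ Φ.hom = m' ≫ Φ.hom) (h₂ : m ≫ η.f = m' ≫ η.f) :
    m = m' := by
  rw [← cancel_mono Φ.toBC.iso.hom]
  apply pullback.hom_ext
  · rw [Category.assoc, Category.assoc, Φ.toBC_fst]
    exact h₁
  · rw [Category.assoc, Category.assoc]
    exact (congrArg (m ≫ ·) Φ.toBC.hom_f).trans (h₂.trans (congrArg (m' ≫ ·) Φ.toBC.hom_f).symm)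

theorem Ov.exists_iso {g : A ⟶ B} {ξ : DefSch X x A} {η η' : DefSch X x B} (Φ : Ov g ξ η)
    (Φ' : Ov g ξ η') : ∃ e : η'.Iso η, e.iso.hom ≫ Φ.hom = Φ'.hom :=
  ⟨Φ'.toBC.trans Φ.toBC.symm, by
    rw [← Φ'.toBC_fst, ← Φ.toBC_fst]
    simp [DefSch.Iso.trans, DefSch.Iso.symm]⟩

/-- A morphism of compatible families of deformations along `g`. -/
structure PHom (g : A ⟶ B) (D : PDef x A) (D' : PDef x B) : Type u where
  /-- the maps -/
  app : D.R ⟶ D'.R
  comm : ∀ U c, app.app U (D.a U c) = D'.a U (g c)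
  q_app : app ≫ D'.q = D.q

/-- The maps on sections induced by a morphism of deformations. -/
def Ov.sec {g : A ⟶ B} {ξ : DefSch X x A} {η : DefSch X x B} (Φ : Ov g ξ η) :
    PHom g (ofSch ξ) (ofSch η) :=
  have le : ∀ U : X.Opens, imOpen η U ≤ Φ.hom ⁻¹ᵁ imOpen ξ U := fun U => by
    rintro _ ⟨p, hp, rfl⟩
    exact ⟨p, hp, (congrArg (fun f : X ⟶ ξ.total => f p) Φ.i_hom).symm⟩
  { app :=
      { app := fun U => Φ.hom.appLE (imOpen ξ U.unop.toOpens) (imOpen η U.unop.toOpens) (le _)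
        naturality := fun U V f => (Scheme.Hom.map_appLE Φ.hom _ _).trans
          (Scheme.Hom.appLE_map Φ.hom _ _).symm }
    comm := fun U c => Φ.secA_comm (le _) c
    q_app := NatTrans.ext (funext fun U => (Scheme.Hom.appLE_comp_appLE _ _ _ _ _ _ _).trans (by
      simp only [Φ.i_hom]
      rfl)) }

theorem Ov.sec_app {g : A ⟶ B} {ξ : DefSch X x A} {η : DefSch X x B} (Φ : Ov g ξ η)
    (U : AffineZariskiSite X) (le : imOpen η U.toOpens ≤ Φ.hom ⁻¹ᵁ imOpen ξ U.toOpens) :
    Φ.sec.app.app (op U) = Φ.hom.appLE (imOpen ξ U.toOpens) (imOpen η U.toOpens) le :=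
  rfl

/-- Morphisms of families glue. -/
def PHom.glue {g : A ⟶ B} {D : PDef x A} {D' : PDef x B} (φ : PHom g D D') :
    Ov g D.toDefSch D'.toDefSch where
  hom := colimMap (Functor.whiskerRight (NatTrans.rightOp φ.app) Scheme.Spec)
  w := colimit.hom_ext fun U => by
    change colimit.ι D'.diagram U ≫ colimMap _ ≫ D.str' = colimit.ι D'.diagram U ≫ D'.str' ≫ _
    rw [ι_colimMap_assoc, D.ι_str', ← Category.assoc, D'.ι_str']
    refine ((Spec.map_comp _ _).symm.trans ?_).trans (Spec.map_comp _ _)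
    exact congrArg Spec.map (CommRingCat.hom_ext (RingHom.ext fun c => φ.comm (op U) c))
  i_hom := Scheme.Cover.hom_ext (AffineZariskiSite.directedCover X) _ _ fun U => by
    change (AffineZariskiSite.toOpens U).ι ≫ D'.incl ≫ colimMap _ = (AffineZariskiSite.toOpens U).ι ≫ D.incl
    rw [← Category.assoc, D'.ι_incl, Category.assoc, ι_colimMap, D.ι_incl, ← Category.assoc]
    refine congrArg (· ≫ colimit.ι D.diagram U) ?_
    rw [PDef.θ, Category.assoc]
    refine congrArg ((AffineZariskiSite.toOpens U).toSpecΓ ≫ ·) ?_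
    exact (Spec.map_comp _ _).symm.trans
      (congrArg Spec.map (congrArg (fun t => NatTrans.app t (op U)) φ.q_app))

theorem PHom.ι_glue {g : A ⟶ B} {D : PDef x A} {D' : PDef x B} (φ : PHom g D D')
    (U : AffineZariskiSite X) :
    colimit.ι D'.diagram U ≫ φ.glue.hom = Spec.map (φ.app.app (op U)) ≫ colimit.ι D.diagram U :=
  ι_colimMap _ _

/-- The affine pieces map to a deformation. -/
def counitCocone (ξ : DefSch X x C) : Cocone (ofSch ξ).diagram where
  pt := ξ.total
  ι :=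
    { app := fun U => (isAffineOpen_imOpen ξ U).fromSpec
      naturality := fun V U h =>
        (IsAffineOpen.map_fromSpec (isAffineOpen_imOpen ξ U) (isAffineOpen_imOpen ξ V)
          (homOfLE (imOpen_mono ξ (AffineZariskiSite.toOpens_mono h.le))).op).trans
          (Category.comp_id _).symm }

/-- A deformation is glued from its sections. -/
def counit (ξ : DefSch X x C) : (ofSch ξ).toDefSch.Iso ξ :=
  Ov.toIso (ξ := ξ) (η := (ofSch ξ).toDefSch)
    { hom := colimit.desc (ofSch ξ).diagram (counitCocone ξ)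
      w := by
        refine colimit.hom_ext fun U => ?_
        refine ((colimit.ι_desc_assoc (counitCocone ξ) U ξ.f).trans
          (SpecMap_secA ξ (isAffineOpen_imOpen ξ U)).symm).trans ?_
        refine ((ofSch ξ).ι_str' U).symm.trans (congrArg (colimit.ι (ofSch ξ).diagram U ≫ ·) ?_)
        rw [Art.specMap_id]
        exact (Category.comp_id _).symm
      i_hom := Scheme.Cover.hom_ext (AffineZariskiSite.directedCover X) _ _ fun U => by
        change (AffineZariskiSite.toOpens U).ι ≫ (ofSch ξ).incl ≫ colimit.desc (ofSch ξ).diagram (counitCocone ξ) =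
          (AffineZariskiSite.toOpens U).ι ≫ ξ.i
        rw [← Category.assoc, (ofSch ξ).ι_incl, Category.assoc, colimit.ι_desc, PDef.θ, Category.assoc]
        change (AffineZariskiSite.toOpens U).toSpecΓ ≫ Spec.map (ξ.i.appLE (imOpen ξ (AffineZariskiSite.toOpens U))
          (AffineZariskiSite.toOpens U) (preimage_imOpen ξ _).ge) ≫ (isAffineOpen_imOpen ξ U).fromSpec = _
        rw [IsAffineOpen.SpecMap_appLE_fromSpec ξ.i (isAffineOpen_imOpen ξ U) U.2,
          ← IsAffineOpen.isoSpec_hom U.2, IsAffineOpen.isoSpec_hom_fromSpec_assoc] }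

theorem ι_counit (ξ : DefSch X x C) (U : AffineZariskiSite X) :
    colimit.ι (ofSch ξ).diagram U ≫ (counit ξ).iso.hom = (isAffineOpen_imOpen ξ U).fromSpec :=
  colimit.ι_desc _ _

theorem counit_naturality {g : A ⟶ B} {ξ : DefSch X x A} {η : DefSch X x B} (Φ : Ov g ξ η) :
    Φ.sec.glue.hom ≫ (counit ξ).iso.hom = (counit η).iso.hom ≫ Φ.hom := by
  refine colimit.hom_ext fun U => ?_
  refine ((Category.assoc _ _ _).symm.trans ((congrArg (· ≫ _) (PHom.ι_glue Φ.sec U)).trans
    ((Category.assoc _ _ _).trans (congrArg (_ ≫ ·) (ι_counit ξ U))))).trans ?_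
  refine Eq.trans ?_ ((congrArg (· ≫ Φ.hom) (ι_counit η U)).symm.trans (Category.assoc _ _ _))
  exact IsAffineOpen.SpecMap_appLE_fromSpec Φ.hom _ _ _

end Groth.Agent.DefGlueLib
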